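import Cfsg.Agent.H905.JDPlane
import Cfsg.Agent.H1.TJ2
import Cfsg.Agent.H659.AcIrr

/-!
# The Hall-Janko group in degree twelve, odd characteristic (helper905)

**`J2_twelve`** : a core of degree `12` over a field of characteristic not `2` is not the Hall-Janko group modulo scalars.
-/

set_option autoImplicit false
set_option linter.unusedSectionVars false

namespace Cfsg.Agent.H905.JD

open Function Subgroup Cfsg Cfsg.Spor Cfsg.Geo Cfsg.Agent.H915.LD Cfsg.Agent.J2.ZTau Cfsg.Agent.J2.Ico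
  Cfsg.Agent.J2.Lattice Cfsg.Agent.J2.Refl Cfsg.Agent.J2.Group Cfsg.Agent.J2.Stab Cfsg.Agent.J2.SixGens
  Cfsg.Agent.H1.J2Lift
open Module Matrix

universe u

variable {ι : Type} [Fintype ι] [DecidableEq ι] {F : Type u} [Field F] {P : Subgroup (Matrix.GeneralLinearGroup ι F)}

/-- **the Hall-Janko group in degree twelve, odd characteristic** -/
theorem J2_twelve (hC : Core P) (e : Soc P ≃* J2) (hn : Fintype.card ι = 12) (h2 : (2 : F) ≠ 0) : False := by
  obtain ⟨φ, hφ, hp⟩ := Cfsg.Agent.H1.TJ2.exists_cover hC e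
  let ψ : W →* Matrix.GeneralLinearGroup ι F := P.subtype.comp φ
  have hr : ψ.range = P := by
    ext g
    constructor
    · rintro ⟨w, rfl⟩
      exact (φ w).2
    · intro hg
      obtain ⟨w, hw⟩ := hφ ⟨g, hg⟩
      exact ⟨w, congrArg Subtype.val hw⟩
  have hs : Submodule.span F (matrixSet P) = ⊤ := Cfsg.Agent.H920.span_eq_top hC.absIrred
  let K := AlgebraicClosure F
  have hirr := Cfsg.Agent.H659.Ac.rp_irr (K := K) (φ := ψ) hr hs
  have h2' : (2 : K) ≠ 0 := by
    have h3 : algebraMap F K 2 ≠ 0 := (map_ne_zero _).2 h2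
    rwa [map_ofNat] at h3
  have hdim : finrank K (ι → K) = 12 := by rw [Module.finrank_fintype_fun_eq_card, hn]
  rcases Cfsg.Agent.H1.TJ2.ng_image e hp with h | h
  · refine triv_false (ρ := Cfsg.Agent.H659.Ac.rp K ψ) h2' (fun v => ?_) hdim hirr
    have h3 : ((ψ ng : Matrix.GeneralLinearGroup ι F) : Matrix ι ι F) = 1 := h
    rw [Cfsg.Agent.H659.Ac.rp_apply, h3, Matrix.map_one _ (map_zero _) (map_one _), Matrix.one_mulVec]
  · refine neg_false (ρ := Cfsg.Agent.H659.Ac.rp K ψ) h2' (fun v => ?_) hdim hirr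
    have h3 : ((ψ ng : Matrix.GeneralLinearGroup ι F) : Matrix ι ι F) = -1 := h
    have h4 : (-1 : Matrix ι ι F).map (algebraMap F K) = -1 := by
      ext i j
      simp [Matrix.map_apply, Matrix.one_apply, apply_ite (algebraMap F K)]
    rw [Cfsg.Agent.H659.Ac.rp_apply, h3, h4, Matrix.neg_mulVec, Matrix.one_mulVec]

end Cfsg.Agent.H905.JD
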