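import Cfsg.Agent.H905.JDTen
import Cfsg.Agent.H905.JDMain
import Cfsg.Agent.H808.JD.Two
import Cfsg.Agent.H933.JTwoTen
import Cfsg.Agent.H4.JT.Two
import Cfsg.Agent.H936.Reix

/-!
# The Hall-Janko group in degree at most twelve (helper905; characteristic two: helper4, helper933, helper808)

**`J2_six`** : a core of degree at most twelve over a finite field which modulo scalars is the Hall-Janko group has
degree six.
-/

set_option autoImplicit false
set_option linter.unusedSectionVars false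

namespace Cfsg.Agent.H905.JD

open Function Subgroup Cfsg Cfsg.Spor Cfsg.Geo Cfsg.Agent.H915.LD Cfsg.Agent.J2.ZTau Cfsg.Agent.J2.Ico
  Cfsg.Agent.J2.Lattice Cfsg.Agent.J2.Refl Cfsg.Agent.J2.Group Cfsg.Agent.J2.Stab Cfsg.Agent.J2.SixGens
  Cfsg.Agent.H1.J2Lift
open Module Matrix

universe u

variable {ι : Type} [Fintype ι] [DecidableEq ι] {F : Type u} [Field F] {P : Subgroup (Matrix.GeneralLinearGroup ι F)}

theorem core_ne_one (hC : Core P) (h : ∀ g : P, g = 1) : False := by
  have := hC.simple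
  obtain ⟨x, hx⟩ := exists_ne (1 : Soc P)
  obtain ⟨g, rfl⟩ := toSoc_surjective P x
  rw [h g, map_one] at hx
  exact hx rfl

/-- **the Hall-Janko group in degree at most twelve, odd characteristic** -/
theorem J2_six_odd (hC : Core P) (e : Soc P ≃* J2) (hn : Fintype.card ι ≤ 12) (h2 : (2 : F) ≠ 0) :
    Fintype.card ι = 6 := by
  obtain ⟨φ, hφ, hp⟩ := Cfsg.Agent.H1.TJ2.exists_cover hC e
  let ψ : W →* Matrix.GeneralLinearGroup ι F := P.subtype.comp φ
  have hr : ψ.range = P := by
    ext g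
    constructor
    · rintro ⟨w, rfl⟩
      exact (φ w).2
    · intro hg
      obtain ⟨w, hw⟩ := hφ ⟨g, hg⟩
      exact ⟨w, congrArg Subtype.val hw⟩
  have hs : Submodule.span F (matrixSet P) = ⊤ := Cfsg.Agent.H920.span_eq_top hC.absIrred
  let K := AlgebraicClosure F
  have hirr := Cfsg.Agent.H659.Ac.rp_irr (K := K) (φ := ψ) hr hs
  have h2' : (2 : K) ≠ 0 := by
    have h3 : algebraMap F K 2 ≠ 0 := (map_ne_zero _).2 h2
    rwa [map_ofNat] at h3
  have hdim : finrank K (ι → K) = Fintype.card ι := Module.finrank_fintype_fun_eq_card K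
  have hne : Nonempty ι := hC.nonempty
  rcases Cfsg.Agent.H1.TJ2.ng_image e hp with h | h
  · exfalso
    have h3 := triv_one (ρ := Cfsg.Agent.H659.Ac.rp K ψ) h2' (fun v => by
      have h3 : ((ψ ng : Matrix.GeneralLinearGroup ι F) : Matrix ι ι F) = 1 := h
      rw [Cfsg.Agent.H659.Ac.rp_apply, h3, Matrix.map_one _ (map_zero _) (map_one _), Matrix.one_mulVec])
      (by rw [hdim]; exact hn) hirr
    refine core_ne_one hC fun g => ?_
    obtain ⟨w, rfl⟩ := hφ g
    have h4 : ((ψ w : Matrix.GeneralLinearGroup ι F) : Matrix ι ι F).map (algebraMap F K) = 1 := by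
      apply Matrix.mulVec_injective
      funext v
      rw [← Cfsg.Agent.H659.Ac.rp_apply, h3, one_mulVec]
    apply Subtype.ext
    apply Units.ext
    ext i j
    have h5 := congrFun (congrFun h4 i) j
    rw [Matrix.map_apply] at h5
    apply (algebraMap F K).injective
    change algebraMap F K (((ψ w : Matrix.GeneralLinearGroup ι F) : Matrix ι ι F) i j) = _
    rw [h5]
    change _ = algebraMap F K ((1 : Matrix ι ι F) i j)
    by_cases hij : i = j
    · subst hij; rw [one_apply_eq, one_apply_eq, map_one]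
    · rw [one_apply_ne hij, one_apply_ne hij, map_zero]
  · rw [← hdim]
    refine neg_six (ρ := Cfsg.Agent.H659.Ac.rp K ψ) h2' (fun v => ?_) (by rw [hdim]; exact hn) hirr
    have h3 : ((ψ ng : Matrix.GeneralLinearGroup ι F) : Matrix ι ι F) = -1 := h
    have h4 : (-1 : Matrix ι ι F).map (algebraMap F K) = -1 := by
      ext i j
      simp [Matrix.map_apply, Matrix.one_apply, apply_ite (algebraMap F K)]
    rw [Cfsg.Agent.H659.Ac.rp_apply, h3, h4, Matrix.neg_mulVec, Matrix.one_mulVec]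

/-- **the Hall-Janko group in degree at most twelve** -/
theorem J2_six [Finite F] (hC : Core P) (hJ : Spor.IsoJ2 (Soc P)) (hn : Fintype.card ι ≤ 12) :
    Fintype.card ι = 6 := by
  by_cases h2 : (2 : F) = 0
  · have : CharP F 2 := CharTwo.of_one_ne_zero_of_two_eq_zero one_ne_zero h2
    by_contra h6
    have hcase : Fintype.card ι ≤ 5 ∨ (Fintype.card ι = 7 ∨ Fintype.card ι = 8) ∨
        (9 ≤ Fintype.card ι ∧ Fintype.card ι ≤ 11) ∨ Fintype.card ι = 12 := by omega
    rcases hcase with h | h | h | h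
    · obtain ⟨P', hC', ⟨e'⟩, -⟩ := Cfsg.Agent.H936.Reix.core_fin hC
      obtain ⟨e⟩ := hJ
      have hJ' : Spor.IsoJ2 (Soc P') := ⟨e'.symm.trans e⟩
      have hb := Cfsg.Agent.H808.JD.scalars_bot hC' hJ'
      obtain ⟨e1⟩ := Cfsg.Agent.H933.JTwoTen.equiv_of_bot (e'.symm.trans e) hb
      have h1 := Cfsg.Agent.H4.JT.j2_two_min (G := P') ⟨e1⟩ h P'.subtype
      refine core_ne_one hC' fun g => ?_
      exact Subtype.ext (DFunLike.congr_fun h1 g)
    · obtain ⟨P', hC', ⟨e'⟩, -⟩ := Cfsg.Agent.H936.Reix.core_fin hC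
      obtain ⟨e⟩ := hJ
      have hJ' : Spor.IsoJ2 (Soc P') := ⟨e'.symm.trans e⟩
      have hb := Cfsg.Agent.H808.JD.scalars_bot hC' hJ'
      obtain ⟨e1⟩ := Cfsg.Agent.H933.JTwoTen.equiv_of_bot (e'.symm.trans e) hb
      refine Cfsg.Agent.H4.JT.j2_two_eight_irr (G := P') ⟨e1⟩ h P'.subtype ?_
      rw [Subgroup.range_subtype]
      exact hC'.absIrred.1
    · obtain ⟨e⟩ := hJ
      exact Cfsg.Agent.H933.JTwoTen.j2_two hC h2 e h.1 h.2
    · exact Cfsg.Agent.H808.JD.core_false hC hJ h
  · obtain ⟨e⟩ := hJ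
    exact J2_six_odd hC e hn h2

end Cfsg.Agent.H905.JD
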