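import Cfsg.Agent.KFacts.RgdCharP
import Cfsg.Agent.Tits.OppRes

/-!
# The index of a proper parabolic subgroup of a finite Coxeter group (helper905)

* `co cs h i w` : the functional `x ↦ (w x)_i` on the simple roots; `fire` : the action of a simple reflection;
* `card_le_index` : different functionals give different cosets of `W_J`, `i ∉ J`;
* `length_le_index` : the same for words (decidable);
* **`rank_lt_index`** : `|I| + 1 ≤ |W : W_J|`, `J ≠ I`, connected diagram.
-/

set_option autoImplicit false
set_option linter.unusedSectionVars false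

namespace Cfsg.Agent.H905.DC

open CoxeterSystem Cfsg.Agent.ChevalleyStructure.CoxeterGeom Cfsg.Agent.Tits.Roots Cfsg.Agent.Tits.Core

variable {I W : Type*} [Fintype I] [DecidableEq I] [Group W] {M : CoxeterMatrix I}
  (cs : CoxeterSystem M W) {A : I → I → ℤ} (h : IsCartan M A)

/-- the functional `x ↦ (w x)_i` on the simple roots -/
def co (i : I) (w : W) : I → ℤ := fun m => rep cs h w (sr m) i

/-- the action of the `j`-th reflection -/
def fire (A : I → I → ℤ) (c : I → ℤ) (j : I) : I → ℤ := fun m => c m - A j m * c j

theorem co_one (i : I) : co cs h i 1 = sr i := by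
  funext m
  change rep cs h 1 (sr m) i = _
  rw [map_one, Module.End.one_apply]
  by_cases hm : m = i
  · rw [hm]
  · rw [sr_ne (Ne.symm hm), sr_ne hm]

theorem co_mul_simple (i : I) (w : W) (j : I) : co cs h i (w * cs.simple j) = fire A (co cs h i w) j := by
  funext m
  change rep cs h (w * cs.simple j) (sr m) i = rep cs h w (sr m) i - A j m * rep cs h w (sr j) i
  rw [rep_mul_apply, rep_simple, sr, refl_single, mul_one, map_sub, Pi.sub_apply]
  congr 1
  have h1 : (Pi.single j (A j m) : I → ℤ) = A j m • sr j := by
    rw [sr, ← Pi.single_smul, smul_eq_mul, mul_one]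
  rw [h1, map_smul, Pi.smul_apply, smul_eq_mul]

theorem co_mul_left {J : Set I} {i : I} (hi : i ∉ J) {v : W} (hv : v ∈ WJ cs J) (w : W) :
    co cs h i (v * w) = co cs h i w := by
  unfold WJ at hv
  induction hv using Subgroup.closure_induction generalizing w with
  | mem x hx =>
    obtain ⟨j, hj, rfl⟩ := hx
    funext m
    change rep cs h (cs.simple j * w) (sr m) i = rep cs h w (sr m) i
    rw [rep_mul_apply]
    exact rep_simple_apply cs h j _ i (fun e => hi (e ▸ hj))
  | one => rw [one_mul]
  | mul x y _ _ hx hy => rw [mul_assoc, hx, hy]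
  | inv x _ hx =>
    have := hx (x⁻¹ * w)
    rw [mul_inv_cancel_left] at this
    exact this.symm

include h in
/-- **different functionals give different cosets** -/
theorem card_le_index [Finite W] {J : Set I} {i : I} (hi : i ∉ J) {ι : Type*} [Finite ι] (w : ι → W)
    (hw : Function.Injective fun k => co cs h i (w k)) : Nat.card ι ≤ (WJ cs J).index := by
  refine Nat.card_le_card_of_injective (fun k => (QuotientGroup.mk (w k)⁻¹ : W ⧸ WJ cs J)) ?_
  intro a b hab
  apply hw
  have h1 : w a * (w b)⁻¹ ∈ WJ cs J := by
    have := QuotientGroup.eq.1 hab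
    rwa [inv_inv] at this
  have h2 := co_mul_left cs h hi h1 (w b)
  rw [inv_mul_cancel_right] at h2
  exact h2

/-- the functional of a word -/
def cf (A : I → I → ℤ) (i : I) (ω : List I) : I → ℤ := ω.foldl (fire A) (Pi.single i 1)

theorem co_wordProd (i : I) (ω : List I) : co cs h i (cs.wordProd ω) = cf A i ω := by
  induction ω using List.reverseRecOn with
  | nil => rw [cs.wordProd_nil, co_one]; rfl
  | append_singleton ω j ih =>
    rw [cs.wordProd_append, cs.wordProd_singleton, co_mul_simple, ih, cf, cf, List.foldl_append, List.foldl_cons,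
      List.foldl_nil]

include h in
theorem length_le_index [Finite W] {J : Set I} {i : I} (hi : i ∉ J) (L : List (List I))
    (hL : (L.map (cf A i)).Nodup) : L.length ≤ (WJ cs J).index := by
  have h1 := card_le_index cs h hi (ι := Fin L.length) (fun k => cs.wordProd (L.get k)) (by
    intro a b hab
    have hab' : cf A i (L.get a) = cf A i (L.get b) := by
      rw [← co_wordProd cs h, ← co_wordProd cs h]
      exact hab
    have h2 := List.nodup_iff_injective_get.1 hL
    have h3 : (⟨a, by rw [List.length_map]; exact a.2⟩ : Fin (L.map (cf A i)).length) =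
        ⟨b, by rw [List.length_map]; exact b.2⟩ := by
      apply h2
      simpa using hab'
    have h4 := congrArg Fin.val h3
    exact Fin.ext h4)
  rwa [Nat.card_eq_fintype_card, Fintype.card_fin] at h1

/-! ### connected diagrams -/

/-- walks without backtracking from `i` (the last two nodes) -/
inductive NB (A : I → I → ℤ) (i : I) : I → I → Prop
  | start : NB A i i i
  | step {a a' b : I} : NB A i a a' → A a b ≠ 0 → b ≠ a → b ≠ a' → NB A i b a

theorem NB.prev {i a a' : I} (hn : NB A i a a') : ∃ a'', NB A i a' a'' := by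
  cases hn with
  | start => exact ⟨i, NB.start⟩
  | step h1 _ _ _ => exact ⟨_, h1⟩

include h in
theorem NB.exists_w {i a a' : I} (hn : NB A i a a') : ∃ w : W, co cs h i w a < 0 ∧
    (∀ m, m ≠ a → 0 ≤ co cs h i w m) ∧ ∀ m, m ≠ a → m ≠ a' → A a m * co cs h i w a ≤ co cs h i w m := by
  have hA : ∀ a b : I, a ≠ b → A a b ≤ 0 := by
    intro a b hab
    rcases h.rel a b hab with ⟨-, h1, -⟩ | ⟨-, h1, -⟩ | ⟨-, ⟨h1, -⟩ | ⟨h1, -⟩⟩ | ⟨-, ⟨h1, -⟩ | ⟨h1, -⟩⟩ <;> rw [h1] <;>
      norm_num
  induction hn with
  | start =>
    refine ⟨cs.simple i, ?_, ?_, ?_⟩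
    · rw [← one_mul (cs.simple i), co_mul_simple, co_one]
      change sr i i - A i i * sr i i < 0
      rw [sr_self, h.diag]; norm_num
    · intro m hm
      rw [← one_mul (cs.simple i), co_mul_simple, co_one]
      change 0 ≤ sr i m - A i m * sr i i
      rw [sr_self, sr_ne hm, mul_one, zero_sub]
      have := hA i m (Ne.symm hm)
      omega
    · intro m hm _
      rw [← one_mul (cs.simple i), co_mul_simple, co_one]
      change A i m * (sr i i - A i i * sr i i) ≤ sr i m - A i m * sr i i
      rw [sr_self, sr_ne hm, h.diag]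
      linarith
  | @step a a' b _ hab hba hba' ih =>
    obtain ⟨w, h1, h2, h3⟩ := ih
    have hneg : A a b ≤ -1 := by
      have := hA a b (Ne.symm hba)
      omega
    have hneg' : A b a ≤ -1 := by
      rcases h.rel a b (Ne.symm hba) with ⟨-, e, -⟩ | ⟨-, -, e⟩ | ⟨-, ⟨-, e⟩ | ⟨-, e⟩⟩ | ⟨-, ⟨-, e⟩ | ⟨-, e⟩⟩
      · exact absurd e hab
      all_goals rw [e]; try norm_num
    have hb := h3 b hba hba'
    have hx : 0 < co cs h i w b := by nlinarith
    refine ⟨w * cs.simple b, ?_, ?_, ?_⟩
    · rw [co_mul_simple]
      change co cs h i w b - A b b * co cs h i w b < 0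
      rw [h.diag]; linarith
    · intro m hm
      rw [co_mul_simple]
      change 0 ≤ co cs h i w m - A b m * co cs h i w b
      by_cases hma : m = a
      · subst hma
        nlinarith
      · have h4 := h2 m hma
        have h5 := hA b m (Ne.symm hm)
        nlinarith
    · intro m hm hma
      rw [co_mul_simple]
      change A b m * (co cs h i w b - A b b * co cs h i w b) ≤ co cs h i w m - A b m * co cs h i w b
      rw [h.diag]
      have h4 := h2 m hma
      nlinarith

include h in
/-- **the index of a proper parabolic subgroup is larger than the rank**, connected diagram -/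
theorem rank_lt_index [Finite W] (hc : KFacts.RgdCharP.Conn M) {J : Set I} (hJ : J ≠ Set.univ) :
    Fintype.card I + 1 ≤ (WJ cs J).index := by
  obtain ⟨i, hi⟩ : ∃ i, i ∉ J := by
    by_contra hcon
    push Not at hcon
    exact hJ (Set.eq_univ_of_forall hcon)
  have hall : ∀ j, ∃ j', NB A i j j' := by
    by_contra hcon
    push Not at hcon
    obtain ⟨j, hj⟩ := hcon
    obtain ⟨a, ha, b, hb, hab⟩ := hc {j | ∃ j', NB A i j j'} ⟨i, i, NB.start⟩ (fun h1 => by
      have h2 : j ∈ {j | ∃ j', NB A i j j'} := by rw [h1]; trivial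
      obtain ⟨j', h3⟩ := h2
      exact hj j' h3)
    obtain ⟨a', ha'⟩ := ha
    apply hb
    have hne : b ≠ a := fun e => hb (e ▸ ⟨a', ha'⟩)
    refine ⟨a, NB.step ha' ?_ hne ?_⟩
    · intro h0
      apply hab
      rcases h.rel a b (Ne.symm hne) with ⟨e, -, -⟩ | ⟨-, e, -⟩ | ⟨-, ⟨e, -⟩ | ⟨e, -⟩⟩ | ⟨-, ⟨e, -⟩ | ⟨e, -⟩⟩
      · exact e
      all_goals rw [h0] at e; norm_num at e
    · intro e
      exact hb (e ▸ ha'.prev)
  choose j' hj' using hall
  choose w h1 h2 h3 using fun j => (hj' j).exists_w cs h
  have := card_le_index cs h hi (ι := Option I) (fun o => o.elim 1 w) (by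
    intro a b hab
    have hab' : ∀ m, co cs h i (a.elim 1 w) m = co cs h i (b.elim 1 w) m := fun m => congrFun hab m
    have hs : ∀ m, 0 ≤ co cs h i 1 m := by
      intro m
      rw [co_one]
      exact sr_nonneg i m
    rcases a with _ | a <;> rcases b with _ | b
    · rfl
    · exfalso
      have := hab' b
      have h4 := hs b
      have h5 := h1 b
      simp only [Option.elim] at this
      omega
    · exfalso
      have := hab' a
      have h4 := hs a
      have h5 := h1 a
      simp only [Option.elim] at this
      omega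
    · by_contra hne
      have hne' : a ≠ b := fun e => hne (by rw [e])
      have := hab' a
      simp only [Option.elim] at this
      have h4 := h1 a
      have h5 := h2 b a hne'
      omega)
  rwa [Nat.card_eq_fintype_card, Fintype.card_option] at this

end Cfsg.Agent.H905.DC
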