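import Cfsg.Agent.H905.MdK
import Cfsg.Agent.H62.SpCross
import Cfsg.Agent.H61.PSUMult
import Cfsg.Agent.S0269

/-!
# `PSp(2m, K)` and `PSU(N, K)` in the defining characteristic: traces (helper905)

`P ≤ GL(ι, F)` perfect, absolutely irreducible, `Φ` an isomorphism of `P/scalars` with

* `PSp(2m, K)` : **`psp_trace`** (`tr(g) ^ |K| = tr(g)`), **`psp_inv`** (`tr(g⁻¹) = tr(g)`);
* `PSU(N, K)`, `|K| = q ^ 2` : **`psu_trace`** (`tr(g) ^ (q ^ 2) = tr(g)`), **`psu_inv`** (`tr(g⁻¹) = tr(g) ^ q`).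
-/

set_option autoImplicit false
set_option linter.unusedSectionVars false
set_option linter.style.haveILetI false

namespace Cfsg.Agent.H905.Md

open CoxeterSystem Cfsg.Agent.ChevalleyStructure.CoxeterGeom Cfsg.Agent.Tits.Roots Cfsg.Agent.Nodes.TypeC
open Cfsg.Agent.Nodes.Comb Cfsg.Agent.Nodes.Reps Cfsg.Agent.Nodes.WittRoot Cfsg.Agent.Nodes.BNOf
open Cfsg.Agent.Nodes.WittRGD Cfsg.Agent.Nodes.RGDLib Cfsg.Agent.Nodes.WittAll Cfsg.Agent.Nodes
open Cfsg.Agent.TitsThree Cfsg.Agent.TitsThree.Siegel Cfsg.Agent.TitsThree.WittFrame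
  Cfsg.Agent.TitsThree.WittWeyl Cfsg.Agent.TitsThree.FrameCN
open Cfsg Cfsg.Geo Cfsg.Agent.H67
open scoped MatrixGroups commutatorElement

section Sp

open SpIdent SpGen

variable {F : Type*} [Field F] [Finite F] {ι : Type} [Fintype ι] [DecidableEq ι] {P : Subgroup (GL ι F)}
  {K : Type*} [Field K] [Finite K] (p : ℕ) [hp : Fact p.Prime] [hFp : CharP F p] [hKp : CharP K p] {m : ℕ}
include hp hFp hKp

theorem psp_cover (hperf : ⁅P, P⁆ = P) (hm : 0 < m) (hK : 3 ≤ m ∨ (m = 2 ∧ 3 ≤ Nat.card K) ∨ 4 ≤ Nat.card K)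
    (Φ : (P ⧸ (scalars ι F).subgroupOf P) ≃* PSp m K) :
    ∃ φ : Matrix.symplecticGroup (Fin m) K →* GL ι F, φ.range = P ∧
      φ.ker ≤ Subgroup.center (Matrix.symplecticGroup (Fin m) K) ∧ ∀ g, ∃ hg : φ g ∈ P, prj Φ ⟨φ g, hg⟩ = g := by
  have := Fintype.ofFinite K
  have hS := S0269.result (F := K) m (by rwa [← Nat.card_eq_fintype_card])
  obtain ⟨φ, h1, h2, h3⟩ := exists_cover (p := p) hperf Φ hS
    (fun r hr hne => H62.SpCross.noPCov_cross hm hr hne)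
    (πG := QuotientGroup.mk' (Subgroup.center (Matrix.symplecticGroup (Fin m) K))) (QuotientGroup.mk'_surjective _)
    (by rw [QuotientGroup.ker_mk'])
  rw [QuotientGroup.ker_mk'] at h2
  exact ⟨φ, h1, h2, h3⟩

omit [Finite K] hp hFp hKp in
theorem kd_sp : Kd (frame m K) := Or.inl rfl

theorem psp_both (hP : ActsAbsolutelyIrreducibly (matrixSet P)) [Nonempty ι] (hperf : ⁅P, P⁆ = P) (hm : 0 < m)
    (hK : 3 ≤ m ∨ (m = 2 ∧ 3 ≤ Nat.card K) ∨ 4 ≤ Nat.card K)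
    (Φ : (P ⧸ (scalars ι F).subgroupOf P) ≃* PSp m K) {g : GL ι F} (hg : g ∈ P) :
    (g : Matrix ι ι F).trace ^ Nat.card K = (g : Matrix ι ι F).trace ∧
      ((g⁻¹ : GL ι F) : Matrix ι ι F).trace = (g : Matrix ι ι F).trace := by
  have := Fintype.ofFinite K
  obtain ⟨φ, h1, -, -⟩ := psp_cover p hperf hm hK Φ
  have hfin : Finite (isos (form m K)) := H62.SpCross.finite_isos
  have hA : AmbT (frame m K) p (H62.SpCross.model m K).I := AmbT.of_amb (KFacts.Mult.SpTwo.amb m K) p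
  have hr : (φ.comp (H62.SpCross.isoSp m K).toMonoidHom).range = P := by
    rw [← h1]
    ext y
    constructor
    · rintro ⟨x, rfl⟩
      exact ⟨_, rfl⟩
    · rintro ⟨x, rfl⟩
      refine ⟨(H62.SpCross.isoSp m K).symm x, ?_⟩
      change φ (H62.SpCross.isoSp m K ((H62.SpCross.isoSp m K).symm x)) = φ x
      rw [MulEquiv.apply_symm_apply]
  obtain ⟨a, -, ha⟩ := FiniteField.card K p
  constructor
  · rw [Nat.card_eq_fintype_card, ha]
    exact model_trace (M := H62.SpCross.model m K) hA kd_sp hm (p0 := adm 1) one_ne_zero hr hP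
      (fun a => by rw [← ha, FiniteField.pow_card]) hg
  · have h2 := model_inv (M := H62.SpCross.model m K) hA kd_sp hm (p0 := adm 1) one_ne_zero hr hP (b := 0)
      (fun a => by rw [pow_zero, pow_one]; rfl) hg
    rwa [pow_zero, pow_one] at h2

end Sp

section SU

open LieClassical.HermBasic Cfsg.Agent.TitsThree.KSideU Cfsg.Agent.TitsThree.KSideUDesc Cfsg.Agent.Nodes.WittU
  Cfsg.Agent.TitsThree.WBridge Cfsg.Agent.TitsThree.SiegelGen Cfsg.Agent.H61.SUCross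

variable {F : Type*} [Field F] [Finite F] {ι : Type} [Fintype ι] [DecidableEq ι] {P : Subgroup (GL ι F)}
  {K : Type} [Field K] [Fintype K] (p : ℕ) [hp : Fact p.Prime] [hFp : CharP F p] [hKp : CharP K p] {N q : ℕ}
include hp hFp hKp

theorem psu_cover (hperf : ⁅P, P⁆ = P) (hN : 3 ≤ N) (hK : Fintype.card K = q ^ 2) (h32 : ¬ (N = 3 ∧ q = 2))
    (Φ : (P ⧸ (scalars ι F).subgroupOf P) ≃* PSU N K q) :
    ∃ φ : SU N K q →* GL ι F, φ.range = P ∧
      φ.ker ≤ Subgroup.center (SU N K q) ∧ ∀ g, ∃ hg : φ g ∈ P, prj Φ ⟨φ g, hg⟩ = g := by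
  have hS := LieClassical.HermPerfect.commutator_SU_eq_top hK hN h32
  obtain ⟨φ, h1, h2, h3⟩ := exists_cover (p := p) hperf Φ hS
    (fun r hr hne => H61.SUCross.noPCov_SU hK hN hp.out hr hne fun _ => H61.UThreeCE.noCE_SU3 hK hp.out hr hne)
    (πG := QuotientGroup.mk' (Subgroup.center (SU N K q))) (QuotientGroup.mk'_surjective _)
    (by rw [QuotientGroup.ker_mk'])
  rw [QuotientGroup.ker_mk'] at h2
  exact ⟨φ, h1, h2, h3⟩

omit hp hFp hKp [Finite F] in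
theorem kd_su {hK : Fintype.card K = q ^ 2} {m : ℕ} {W : WFrame (PU hK N) m} (h : Kind W) : Kd (toFrame W) := by
  rcases h with h | ⟨d, hd, h⟩
  · exact Or.inl h
  · exact Or.inr ⟨d, by rw [HU_h, hd]; exact one_ne_zero, h⟩

omit hp hFp hKp in
/-- the Witt frames -/
theorem exists_kind (hK : Fintype.card K = q ^ 2) (hN : 3 ≤ N) :
    ∃ (m : ℕ) (W : WFrame (PU hK N) m), 0 < m ∧ Kind W := by
  obtain ⟨m, hm⟩ : ∃ m, N = 2 * m ∨ N = 2 * m + 1 := ⟨N / 2, by omega⟩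
  rcases hm with hm | hm
  · obtain ⟨W, hW⟩ := exists_wframe_even hK hm
    exact ⟨m, W, by omega, Or.inl hW⟩
  · obtain ⟨W, d, hd, hW⟩ := exists_wframe_odd hK hm
    exact ⟨m, W, by omega, Or.inr ⟨d, hd, hW⟩⟩

theorem psu_both (hP : ActsAbsolutelyIrreducibly (matrixSet P)) [Nonempty ι] (hperf : ⁅P, P⁆ = P) (hN : 3 ≤ N)
    (hK : Fintype.card K = q ^ 2) (h32 : ¬ (N = 3 ∧ q = 2))
    (Φ : (P ⧸ (scalars ι F).subgroupOf P) ≃* PSU N K q) {g : GL ι F} (hg : g ∈ P) :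
    (g : Matrix ι ι F).trace ^ (q ^ 2) = (g : Matrix ι ι F).trace ∧
      ((g⁻¹ : GL ι F) : Matrix ι ι F).trace = (g : Matrix ι ι F).trace ^ q := by
  obtain ⟨φ, h1, -, -⟩ := psu_cover p hperf hN hK h32 Φ
  obtain ⟨m, W, hm, hW⟩ := exists_kind (N := N) hK hN
  obtain ⟨p0, hp0, -⟩ := exists_adm hK W
  have hA : AmbT (toFrame W) p (modelSU hK hN W).I := AmbT.of_amb (amb_U hK W) p
  obtain ⟨a, -, ha⟩ := FiniteField.card K p
  obtain ⟨b, hb⟩ : ∃ b, q = p ^ b := by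
    have h1 : q ∣ p ^ (a : ℕ) := by rw [← ha, hK, sq]; exact Dvd.intro _ rfl
    obtain ⟨b, -, hb⟩ := (Nat.dvd_prime_pow hp.out).1 h1
    exact ⟨b, hb⟩
  constructor
  · rw [← hK, ha]
    exact model_trace (M := modelSU hK hN W) hA (kd_su hW) hm hp0 h1 hP
      (fun a => by rw [← ha, FiniteField.pow_card]) hg
  · have h2 := model_inv (M := modelSU hK hN W) hA (kd_su hW) hm hp0 h1 hP (b := b)
      (fun a => by rw [HU_σ, hb]) hg
    rwa [← hb] at h2

end SU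

end Cfsg.Agent.H905.Md
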