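import Cfsg.Agent.H905.MdG

/-!
# Perfect linear groups with given quotient modulo scalars (helper905)

* `card_scalars_coprime` : the scalars of `P ≤ GL(ι, F)` form a group of order prime to `p`;
* **`exists_cover`** : `P` perfect, `Φ : P/scalars ≃ T₀`, `πG : G → T₀` a perfect central extension, `G` without perfect
  central extensions of prime order `r ≠ p`: there is `φ : G → GL(ι, F)` with image `P` over `Φ`.
* `eq_specialLinear_of_card` : a perfect `P` with `|P/scalars| = |PSL(ι, F)|` is `SL(ι, F)`.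
-/

set_option autoImplicit false
set_option linter.unusedSectionVars false
set_option linter.style.haveILetI false

namespace Cfsg.Agent.H905.Md

open Cfsg Cfsg.Geo Cfsg.Agent.H67
open scoped MatrixGroups Matrix commutatorElement

variable {F : Type*} [Field F] {ι : Type} [Fintype ι] [DecidableEq ι] {P : Subgroup (GL ι F)}

theorem card_scalars_dvd [Finite F] (P : Subgroup (GL ι F)) :
    Nat.card ((scalars ι F).subgroupOf P) ∣ Nat.card F - 1 := by
  classical
  have h1 : Nat.card ((scalars ι F).subgroupOf P) ∣ Nat.card (scalars ι F) := by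
    refine Subgroup.card_dvd_of_injective
      ((P.subtype.comp ((scalars ι F).subgroupOf P).subtype).codRestrict (scalars ι F) (fun x => x.2)) ?_
    intro x y e
    have h2 : (((x : P) : GL ι F)) = ((y : P) : GL ι F) :=
      congrArg (fun z : scalars ι F => (z : GL ι F)) e
    exact Subtype.ext (Subtype.ext h2)
  refine h1.trans ?_
  rw [← Nat.card_units]
  exact Subgroup.card_range_dvd _

theorem not_dvd_card_sub_one {p : ℕ} [hp : Fact p.Prime] [Finite F] [CharP F p] : (Nat.card F - 1).Coprime p := by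
  have := Fintype.ofFinite F
  obtain ⟨e, he0, he⟩ := FiniteField.card F p
  have hcardF : Nat.card F = p ^ (e : ℕ) := by rw [Nat.card_eq_fintype_card, he]
  rw [Nat.coprime_comm, Nat.Prime.coprime_iff_not_dvd hp.out]
  intro hd
  have h1 : p ∣ Nat.card F := by rw [hcardF]; exact dvd_pow_self p e.2.ne'
  have h2 : 1 < Nat.card F := Finite.one_lt_card
  have h3 : p ∣ 1 := by
    have h4 := (Nat.dvd_sub h1 hd)
    have h5 : Nat.card F - (Nat.card F - 1) = 1 := by omega
    rwa [h5] at h4
  exact hp.out.one_lt.ne' (Nat.dvd_one.1 h3)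

theorem card_scalars_coprime {p : ℕ} [hp : Fact p.Prime] [Finite F] [CharP F p] (P : Subgroup (GL ι F)) :
    (Nat.card ((scalars ι F).subgroupOf P)).Coprime p :=
  Nat.Coprime.coprime_dvd_left (card_scalars_dvd P) not_dvd_card_sub_one

/-- the projection of `P` to `T₀` -/
def prj {T₀ : Type*} [Group T₀] (Φ : (P ⧸ (scalars ι F).subgroupOf P) ≃* T₀) : P →* T₀ :=
  Φ.toMonoidHom.comp (QuotientGroup.mk' _)

theorem prj_surjective {T₀ : Type*} [Group T₀] (Φ : (P ⧸ (scalars ι F).subgroupOf P) ≃* T₀) :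
    Function.Surjective (prj Φ) := Φ.surjective.comp (QuotientGroup.mk'_surjective _)

theorem prj_ker {T₀ : Type*} [Group T₀] (Φ : (P ⧸ (scalars ι F).subgroupOf P) ≃* T₀) :
    (prj Φ).ker = (scalars ι F).subgroupOf P := by
  ext g
  rw [MonoidHom.mem_ker]
  change Φ (g : P ⧸ (scalars ι F).subgroupOf P) = 1 ↔ _
  rw [MulEquiv.map_eq_one_iff, QuotientGroup.eq_one_iff]

theorem scalars_comm {z : GL ι F} (hz : z ∈ scalars ι F) (g : GL ι F) : g * z = z * g := by
  obtain ⟨c, hc⟩ := (mem_scalars_iff z).1 hz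
  apply Units.ext
  rw [Units.val_mul, Units.val_mul, hc, Matrix.mul_smul, Matrix.smul_mul, Matrix.mul_one, Matrix.one_mul]

theorem subgroupOf_scalars_le (P : Subgroup (GL ι F)) : (scalars ι F).subgroupOf P ≤ Subgroup.center P := by
  intro z hz
  rw [Subgroup.mem_center_iff]
  intro g
  exact Subtype.ext (scalars_comm hz _)

theorem commutator_eq_top_of_perfect (hperf : ⁅P, P⁆ = P) : commutator P = ⊤ := by
  have h1 : (commutator P).map P.subtype = P := by
    rw [commutator_def, Subgroup.map_commutator, ← MonoidHom.range_eq_map, Subgroup.range_subtype, hperf]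
  rw [eq_top_iff]
  rintro ⟨x, hx⟩ -
  rw [← h1] at hx
  obtain ⟨y, hy, e⟩ := hx
  have h2 : y = ⟨x, h1 ▸ ⟨y, hy, e⟩⟩ := Subtype.ext e
  rw [← h2]
  exact hy

/-- **A cover of `P`.** -/
theorem exists_cover {p : ℕ} [hp : Fact p.Prime] [Finite F] [CharP F p] (hperf : ⁅P, P⁆ = P) {T₀ : Type*} [Group T₀]
    (Φ : (P ⧸ (scalars ι F).subgroupOf P) ≃* T₀) {G : Type*} [Group G] [Finite G] (hG : commutator G = ⊤)
    (hN : ∀ r : ℕ, r.Prime → r ≠ p → NoPCov r G) {πG : G →* T₀} (hπ : Function.Surjective πG)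
    (hπk : πG.ker ≤ Subgroup.center G) :
    ∃ φ : G →* GL ι F, φ.range = P ∧ φ.ker ≤ πG.ker ∧ ∀ g, ∃ hg : φ g ∈ P, prj Φ ⟨φ g, hg⟩ = πG g := by
  have hfin : Finite P := inferInstance
  obtain ⟨θ, hθ, hcomp⟩ := PCover.exists_hom_of_noPCov hG hN hπ hπk (commutator_eq_top_of_perfect hperf)
    (prj_surjective Φ) (by rw [prj_ker]; exact subgroupOf_scalars_le P) hp.out
    (by rw [prj_ker]; exact card_scalars_coprime P)
  refine ⟨P.subtype.comp θ, ?_, ?_, fun g => ⟨(θ g).2, DFunLike.congr_fun hcomp g⟩⟩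
  · rw [MonoidHom.range_comp, MonoidHom.range_eq_top.2 hθ, ← MonoidHom.range_eq_map, Subgroup.range_subtype]
  · intro g hg
    have h1 : θ g = 1 := Subtype.ext hg
    rw [MonoidHom.mem_ker, ← hcomp, MonoidHom.comp_apply, h1, map_one]

/-! ### recognising `SL(ι, F)` -/

theorem top_of_sup_center {Y : Type*} [Group Y] (hY : commutator Y = ⊤) {H N : Subgroup Y}
    (hN : N ≤ Subgroup.center Y) (h : H ⊔ N = ⊤) : H = ⊤ := by
  rw [eq_top_iff, ← hY, commutator_def, Subgroup.commutator_le]
  have hdec : ∀ g : Y, ∃ a ∈ H, ∃ z ∈ N, a * z = g := by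
    intro g
    have hg : g ∈ H ⊔ N := by rw [h]; trivial
    have hNn : N.Normal := ⟨fun z hz g => by
      rw [(Subgroup.mem_center_iff.1 (hN hz) g), mul_inv_cancel_right]; exact hz⟩
    exact Subgroup.mem_sup_of_normal_right.1 hg
  intro a _ b _
  obtain ⟨a, ha, z, hz, rfl⟩ := hdec a
  obtain ⟨b, hb, w, hw, rfl⟩ := hdec b
  have hz' := Subgroup.mem_center_iff.1 (hN hz)
  have hw' := Subgroup.mem_center_iff.1 (hN hw)
  have e : ⁅a * z, b * w⁆ = ⁅a, b⁆ := by
    rw [commutatorElement_def, commutatorElement_def, mul_inv_rev, mul_inv_rev]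
    have e1 : a * z * (b * w) * (z⁻¹ * a⁻¹) * (w⁻¹ * b⁻¹) = a * (z * (b * w) * z⁻¹) * a⁻¹ * (w⁻¹ * b⁻¹) := by group
    rw [e1, ← hz' (b * w), mul_inv_cancel_right]
    have e2 : a * (b * w) * a⁻¹ * (w⁻¹ * b⁻¹) = a * b * (w * a⁻¹ * w⁻¹) * b⁻¹ := by group
    rw [e2, ← hw' a⁻¹, mul_inv_cancel_right]
  rw [e, commutatorElement_def]
  exact mul_mem (mul_mem (mul_mem ha hb) (inv_mem ha)) (inv_mem hb)

theorem le_specialLinear_of_perfect (hperf : ⁅P, P⁆ = P) : P ≤ specialLinear ι F := by
  rw [← hperf, Subgroup.commutator_le]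
  intro a _ b _
  change Matrix.GeneralLinearGroup.det ⁅a, b⁆ = 1
  rw [map_commutatorElement, commutatorElement_eq_one_iff_mul_comm, mul_comm]

/-- **`P` perfect with `|P/scalars| = |PSL|` is `SL`.** -/
theorem eq_specialLinear_of_card [Finite F] (hperf : ⁅P, P⁆ = P)
    (hSL : commutator (Matrix.SpecialLinearGroup ι F) = ⊤)
    (hc : Nat.card (P ⧸ (scalars ι F).subgroupOf P) = Nat.card (Matrix.ProjectiveSpecialLinearGroup ι F)) :
    P = specialLinear ι F := by
  have hdet := le_specialLinear_of_perfect hperf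
  let j : P →* Matrix.SpecialLinearGroup ι F :=
    { toFun := fun g => ⟨(g : GL ι F).1, by
        have h6 := hdet g.2
        have h7 : Matrix.GeneralLinearGroup.det (g : GL ι F) = 1 := h6
        exact congrArg Units.val h7⟩
      map_one' := rfl
      map_mul' := fun _ _ => rfl }
  let q : Matrix.SpecialLinearGroup ι F →* Matrix.ProjectiveSpecialLinearGroup ι F := QuotientGroup.mk' _
  have hker : (q.comp j).ker = (scalars ι F).subgroupOf P := by
    ext g
    rw [MonoidHom.mem_ker, Subgroup.mem_subgroupOf, mem_scalars_iff]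
    have h6 : (q.comp j) g = 1 ↔ j g ∈ Subgroup.center (Matrix.SpecialLinearGroup ι F) := QuotientGroup.eq_one_iff _
    rw [h6, Matrix.SpecialLinearGroup.mem_center_iff]
    rcases isEmpty_or_nonempty ι with hE | hE
    · constructor
      · intro _
        exact ⟨1, Subsingleton.elim _ _⟩
      · intro _
        exact ⟨1, by simp, Subsingleton.elim _ _⟩
    constructor
    · rintro ⟨r, hr, hr2⟩
      have hr0 : r ≠ 0 := by
        rintro rfl
        rw [zero_pow Fintype.card_ne_zero] at hr
        exact zero_ne_one hr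
      refine ⟨Units.mk0 r hr0, ?_⟩
      rw [Units.val_mk0]
      have h7 : ((g : GL ι F) : Matrix ι ι F) = Matrix.scalar ι r := hr2.symm
      rw [h7, Matrix.smul_one_eq_diagonal]
      rfl
    · rintro ⟨c, hc⟩
      refine ⟨c, ?_, ?_⟩
      · have h8 := (j g).2
        change ((g : GL ι F) : Matrix ι ι F).det = 1 at h8
        rw [hc, Matrix.det_smul, Matrix.det_one, mul_one] at h8
        exact h8
      · change Matrix.scalar ι (c : F) = ((g : GL ι F) : Matrix ι ι F)
        rw [hc, Matrix.smul_one_eq_diagonal]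
        rfl
  -- the cardinality
  have hsurj : Function.Surjective (q.comp j) := by
    have hfinX : Finite (Matrix.SpecialLinearGroup ι F) := inferInstance
    have hfinQ : Finite (Matrix.ProjectiveSpecialLinearGroup ι F) := inferInstance
    have h6 := QuotientGroup.kerLift_injective (q.comp j)
    have h7 : Function.Bijective (QuotientGroup.kerLift (q.comp j)) :=
      (Nat.bijective_iff_injective_and_card _).2 ⟨h6, by rw [hker]; exact hc⟩
    intro y
    obtain ⟨x, rfl⟩ := h7.2 y
    obtain ⟨g, rfl⟩ := QuotientGroup.mk_surjective x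
    exact ⟨g, rfl⟩
  -- conclusion
  have htop : j.range = ⊤ := by
    refine top_of_sup_center hSL (N := Subgroup.center (Matrix.SpecialLinearGroup ι F)) le_rfl ?_
    rw [eq_top_iff]
    intro x _
    obtain ⟨a, ha⟩ := hsurj (q x)
    have ha' : (j a)⁻¹ * x ∈ Subgroup.center (Matrix.SpecialLinearGroup ι F) := QuotientGroup.eq.1 ha
    have h1 : x = j a * ((j a)⁻¹ * x) := by group
    rw [h1]
    exact mul_mem (Subgroup.mem_sup_left ⟨a, rfl⟩) (Subgroup.mem_sup_right ha')
  apply le_antisymm hdet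
  intro g hg
  have h8 : (g : Matrix ι ι F).det = 1 := by
    have : Matrix.GeneralLinearGroup.det g = 1 := hg
    exact congrArg Units.val this
  obtain ⟨y, hy⟩ : (⟨g.1, h8⟩ : Matrix.SpecialLinearGroup ι F) ∈ j.range := by rw [htop]; trivial
  have h9 : ((y : GL ι F) : Matrix ι ι F) = g := congrArg Subtype.val hy
  have h10 : (y : GL ι F) = g := Units.ext h9
  rw [← h10]
  exact y.2

end Cfsg.Agent.H905.Md
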