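import Cfsg.Agent.H905.JDMain
import Cfsg.Agent.H808.JD.Two

/-!
# The Hall-Janko group in degree twelve, every characteristic (helper905, helper808)
-/

set_option autoImplicit false

namespace Cfsg.Agent.H905.JD

open Cfsg Cfsg.Geo Cfsg.Agent.H915.LD

universe u

variable {ι : Type} [Fintype ι] [DecidableEq ι] {F : Type u} [Field F] [Finite F]
  {P : Subgroup (Matrix.GeneralLinearGroup ι F)}

/-- **the Hall-Janko group in degree twelve** -/
theorem J2_twelve_all (hC : Core P) (hJ : Spor.IsoJ2 (Soc P)) (hn : Fintype.card ι = 12) : False := by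
  by_cases h2 : (2 : F) = 0
  · have : CharP F 2 := CharTwo.of_one_ne_zero_of_two_eq_zero one_ne_zero h2
    exact Cfsg.Agent.H808.JD.core_false hC hJ hn
  · obtain ⟨e⟩ := hJ
    exact J2_twelve hC e hn h2

end Cfsg.Agent.H905.JD
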