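import Cfsg.Agent.H905.Sp4Final
import Cfsg.Agent.H830.DiscType
import Cfsg.Agent.LieClassical.FieldTransfer

/-!
# The type of the quadratic form on the adjoint module of `Sp_4(K)` (helper905)

`P` a core with socle `PSp_4(K)`, `|ι| = 10`, `p` odd, `Q` a non-degenerate quadratic form fixed by `P`.

* `Data.exists_gram` : vectors `u_g` (`g ∈ Sp_4(K)`) of `F ^ ι` with `B(u_g, u_k) = c · s(h(g e, k e)) ^ 2`, `s : K → F`;
* **`Data.plus_iff`** : `Q` is of plus type iff `-1` is a square in `F`;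
* `equiv_of_card` : `Soc P ≃ PSp_4(F)`; **`core_psp4_ten`** : the rows of degree 10.
-/

set_option autoImplicit false
set_option linter.unusedSectionVars false
set_option linter.style.haveILetI false

namespace Cfsg.Agent.H905.Sp4

open CoxeterSystem Cfsg.Agent.ChevalleyStructure.CoxeterGeom Cfsg.Agent.Tits.Roots Cfsg.Agent.Nodes.TypeC
open Cfsg.Agent.Nodes.Comb Cfsg.Agent.Nodes.Reps Cfsg.Agent.Nodes.WittRoot Cfsg.Agent.Nodes.BNOf
open Cfsg.Agent.Nodes.WittRGD Cfsg.Agent.Nodes.RGDLib Cfsg.Agent.Nodes.OppDec Cfsg.Agent.Nodes.WittAll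
open Cfsg.Agent.Nodes.Bruhat Cfsg.Agent.Omega.CR Cfsg.Agent.Omega.FOne.Lift.Sd Cfsg.Agent.Nodes.StabComb
open Cfsg.Agent.Tits.Core Cfsg.Agent.Tits.Exchange Cfsg.Agent.H905.Md Cfsg.Agent.KFacts.RgdOpp
open Cfsg.Agent.TitsThree Cfsg.Agent.TitsThree.Siegel Cfsg.Agent.TitsThree.WittFrame
  Cfsg.Agent.TitsThree.FrameCN Cfsg.Agent.TitsThree.SpIdent Cfsg.Agent.TitsThree.SpGen
open Cfsg.Agent.H62.SpCross Cfsg.Agent.H62.FrameSL Cfsg.Agent.H911 Cfsg.Agent.H67
open Cfsg Cfsg.Geo Cfsg.Agent.H915.LD Cfsg.Agent.H151.Six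
open scoped MatrixGroups Matrix commutatorElement

universe u

section Trans

variable {K : Type u} [Field K]

/-- `Sp_4(K)` is transitive on the nonzero vectors -/
theorem exists_to {x : V4 K} (hx : x ≠ 0) : ∃ g : isos (form 2 K), g.1 (Pi.single (.inr 0) 1) = x := by
  by_cases hr : x (.inr 0) = 0 ∧ x (.inr 1) = 0
  · by_cases h0 : x (.inl 0) = 0
    · obtain ⟨g, hg, -⟩ := exists_iso (A := x) (B := Pi.single (.inl 0) 1) (by
        rw [LinearIndependent.pair_iff]
        intro s t e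
        have e0 := congrFun e (.inl 0)
        have e1 := congrFun e (.inl 1)
        simp [h0] at e0 e1
        refine ⟨e1.resolve_right fun h1 => hx ?_, e0⟩
        funext y
        rcases y with y | y
        · fin_cases y
          · exact h0
          · exact h1
        · fin_cases y
          · exact hr.1
          · exact hr.2) (by rw [h_eq, hr.1, hr.2]; simp)
      exact ⟨g, hg⟩
    · obtain ⟨g, hg, -⟩ := exists_iso (A := x) (B := Pi.single (.inl 1) 1) (by
        rw [LinearIndependent.pair_iff]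
        intro s t e
        have e0 := congrFun e (.inl 0)
        have e1 := congrFun e (.inl 1)
        simp [h0] at e0 e1
        refine ⟨e0, ?_⟩
        rw [e0, zero_mul, zero_add] at e1
        exact e1) (by rw [h_eq, hr.1, hr.2]; simp)
      exact ⟨g, hg⟩
  · obtain ⟨g, hg, -⟩ := exists_iso (A := x) (B := Sum.elim ![x (.inr 1), -x (.inr 0)] ![0, 0]) (by
        rw [LinearIndependent.pair_iff]
        intro s t e
        have e0 := congrFun e (.inl 0)
        have e1 := congrFun e (.inl 1)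
        have e2 := congrFun e (.inr 0)
        have e3 := congrFun e (.inr 1)
        simp at e0 e1 e2 e3
        have hs : s = 0 := by
          by_contra hs
          exact hr ⟨e2.resolve_left hs, e3.resolve_left hs⟩
        refine ⟨hs, ?_⟩
        by_contra ht
        rw [hs] at e0 e1
        apply hr
        constructor
        · simpa [ht] using e1
        · simpa [ht] using e0) (by rw [h_eq]; simp; ring)
    exact ⟨g, hg⟩

theorem F1_turn_inv (y z : isos (form 2 K)) : F1 (turn K * z⁻¹ * y).1 =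
    (form 2 K).h (y.1 (Pi.single (.inr 0) 1)) (z.1 (Pi.single (.inr 0) 1)) := by
  have h1 : (form 2 K).h (y.1 (Pi.single (.inr 0) 1)) (z.1 (Pi.single (.inr 0) 1)) =
      (form 2 K).h ((z⁻¹).1 (y.1 (Pi.single (.inr 0) 1))) (Pi.single (.inr 0) 1) := by
    have h2 := z.2 ((z⁻¹).1 (y.1 (Pi.single (.inr 0) 1))) (Pi.single (.inr 0) 1)
    have h3 : z.1 ((z⁻¹).1 (y.1 (Pi.single (.inr 0) 1))) = y.1 (Pi.single (.inr 0) 1) := z.1.apply_symm_apply _
    rw [h3] at h2
    exact h2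
  rw [h1]
  unfold F1
  change turnL K ((z⁻¹).1 (y.1 (Pi.single (.inr 0) 1))) (.inr 0) = _
  rw [turnL_inr, h_eq]
  simp

end Trans

/-! ### the Gram matrix -/

section Gram

variable {F : Type u} [Field F] [Finite F] {ι : Type} [Fintype ι] [DecidableEq ι] {P : Subgroup (GL ι F)}
  {K : Type*} [Field K] [Finite K] {p : ℕ} [hp : Fact p.Prime] [hFp : CharP F p] [hKp : CharP K p]

omit [Finite F] [Finite K] in
theorem polar_dot {Q : (ι → F) → F} (hQ : IsNondegenerateQuadraticForm Q) (u v : ι → F) :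
    QuadraticMap.polar Q u v = u ⬝ᵥ (H830.Disc.gram Q *ᵥ v) := by
  obtain ⟨B, hB⟩ := exists_gram hQ.polar_bilinear
  have h1 : B = H830.Disc.gram Q := by
    ext i j
    change _ = QuadraticMap.polar Q (Pi.single i 1) (Pi.single j 1)
    rw [hB]
    simp
  rw [hB, h1]

/-- **The Gram matrix of the translates of the highest weight vector.** -/
theorem Data.exists_gram (D : Data P K p) (hC : Core P) {Q : (ι → F) → F} (hQ : IsNondegenerateQuadraticForm Q)
    (hfix : FixesQuadForm (matrixSet P) Q) :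
    ∃ (w : ι → F) (c : F), c ≠ 0 ∧ (∀ u ∈ RGD.Sup (X4 K) (RGD.Pos (CoxeterMatrix.B 2).toCoxeterSystem (isCartan 2)),
      (D.rep u : Matrix ι ι F) *ᵥ w = w) ∧
      ∀ y z : isos (form 2 K), algebraMap F (AlgebraicClosure F)
        (QuadraticMap.polar Q ((D.rep y : Matrix ι ι F) *ᵥ w) ((D.rep z : Matrix ι ι F) *ᵥ w)) =
        algebraMap F (AlgebraicClosure F) c * (D.j (F1 (turn K * z⁻¹ * y).1) ^ D.a *
          D.j (F2 (turn K * z⁻¹ * y).1) ^ D.b) := by
  haveI := finite_isos (m := 2) (F := K)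
  haveI := hC.nonempty
  haveI : Finite (CoxeterMatrix.B 2).Group := finite_W (CoxeterMatrix.B 2).toCoxeterSystem
  have hchar : CharP (AlgebraicClosure F) p := charP_of_injective_algebraMap (algebraMap F _).injective p
  set f := algebraMap F (AlgebraicClosure F) with hf
  have R := R4 (K := K) (p := p) (CoxeterMatrix.B 2).toCoxeterSystem
  have hG := GG4 (K := K) (CoxeterMatrix.B 2).toCoxeterSystem
  have hirr : ∀ L : Submodule (AlgebraicClosure F) (ι → AlgebraicClosure F),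
      Ivt (lin (acRep D.rep)) (GG (CoxeterMatrix.B 2).toCoxeterSystem (isCartan 2) (T4 K) (X4 K)) L → L = ⊥ ∨ L = ⊤ := by
    rw [hG]; exact D.irr
  obtain ⟨w, hw0, hw⟩ := exists_fixed_vec R hG D.range_rep hC.absIrred
  have hspan := fx_eq_span R (lin (acRep D.rep)) hirr D.v_mem D.v_ne D.tor
  have hmap : ∀ (y : isos (form 2 K)) (x : ι → F), lin (acRep D.rep) y (fun i => f (x i)) =
      fun i => f (((D.rep y : Matrix ι ι F) *ᵥ x) i) := by
    intro y x
    rw [lin_apply, acRep_apply]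
    funext i
    exact (RingHom.map_mulVec (algebraMap F (AlgebraicClosure F)) (D.rep y : Matrix ι ι F) x i).symm
  set w' : ι → AlgebraicClosure F := fun i => f (w i) with hw'
  have h1 : w' ∈ fx (lin (acRep D.rep)) (RGD.Sup (X4 K) (RGD.Pos (CoxeterMatrix.B 2).toCoxeterSystem (isCartan 2))) := by
    intro u hu
    rw [hw', hmap, hw u hu]
  rw [hspan] at h1
  obtain ⟨α, hα⟩ := Submodule.mem_span_singleton.1 h1
  -- the form over the closure
  set M' : Matrix ι ι (AlgebraicClosure F) := (H830.Disc.gram Q).map f with hM'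
  have hpol : ∀ u v : ι → F, f (QuadraticMap.polar Q u v) = (fun i => f (u i)) ⬝ᵥ (M' *ᵥ fun i => f (v i)) := by
    intro u v
    rw [polar_dot hQ, hM']
    have h3 : ((H830.Disc.gram Q).map f *ᵥ fun i => f (v i)) = fun i => f ((H830.Disc.gram Q *ᵥ v) i) := by
      funext i
      exact (RingHom.map_mulVec f (H830.Disc.gram Q) v i).symm
    rw [h3]
    exact RingHom.map_dotProduct f u _
  have hfix' : ∀ y : isos (form 2 K), (acRep D.rep y)ᵀ * M' * acRep D.rep y = M' := by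
    intro y
    have h1 := H830.Disc.gram_inv hQ hfix (D.rep y) (by
      have h5 : D.rep y ∈ D.rep.range := ⟨y, rfl⟩
      rwa [D.range_rep] at h5)
    have h3 := congrArg (fun N : Matrix ι ι F => N.map f) h1
    rw [Matrix.map_mul, Matrix.map_mul, Matrix.transpose_map] at h3
    exact h3
  have hform : ∀ (y : isos (form 2 K)) (u v : ι → AlgebraicClosure F),
      (lin (acRep D.rep) y u) ⬝ᵥ (M' *ᵥ (lin (acRep D.rep) y v)) = u ⬝ᵥ (M' *ᵥ v) := by
    intro y u v
    rw [lin_apply, lin_apply, dot_mulVec_left, Matrix.mulVec_mulVec, hfix']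
  -- the lowest weight vector
  set w0 : ι → AlgebraicClosure F := lin (acRep D.rep) (turn K) w' with hw0'
  have hw0fix : ∀ u ∈ UN (CoxeterMatrix.B 2).toCoxeterSystem (isCartan 2) (X4 K), lin (acRep D.rep) u w0 = w0 := by
    intro u hu
    have h3 := turn_conj' (K := K) (CoxeterMatrix.B 2).toCoxeterSystem p u hu
    have h4 : lin (acRep D.rep) ((turn K)⁻¹ * u * turn K) w' = w' := by
      rw [hw', hmap, hw _ h3]
    rw [hw0', ← rho_mul]
    have e : u * turn K = turn K * ((turn K)⁻¹ * u * turn K) := by group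
    rw [e, rho_mul, h4]
  -- the functional
  let ψ' : Module.Dual (AlgebraicClosure F) (ι → AlgebraicClosure F) :=
    { toFun := fun x => x ⬝ᵥ (M' *ᵥ w0)
      map_add' := fun x y => add_dotProduct _ _ _
      map_smul' := fun a x => smul_dotProduct _ _ _ }
  have hψ' : ψ' ∈ fx (dualRep (lin (acRep D.rep))) (UN (CoxeterMatrix.B 2).toCoxeterSystem (isCartan 2) (X4 K)) := by
    rw [mem_fx_dual]
    intro u hu x
    change (lin (acRep D.rep) u x) ⬝ᵥ (M' *ᵥ w0) = x ⬝ᵥ (M' *ᵥ w0)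
    conv_lhs => rw [← hw0fix u hu]
    rw [hform]
  have hψeq : ψ' = ψ' D.v • D.ψ := by
    have h3 : ψ' - ψ' D.v • D.ψ = 0 := by
      refine eq_zero_of_fx R (lin (acRep D.rep)) hirr (Submodule.sub_mem _ hψ' (Submodule.smul_mem _ _ D.ψ_mem)) ?_
      intro x hx
      rw [hspan] at hx
      obtain ⟨a, rfl⟩ := Submodule.mem_span_singleton.1 hx
      rw [LinearMap.sub_apply, LinearMap.smul_apply, map_smul, map_smul, D.pair, smul_eq_mul, smul_eq_mul,
        smul_eq_mul]
      ring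
    exact sub_eq_zero.1 h3
  set c : F := QuadraticMap.polar Q w ((D.rep (turn K) : Matrix ι ι F) *ᵥ w) with hc
  have hcψ : f c = α * ψ' D.v := by
    rw [hc, hpol, ← hmap]
    change w' ⬝ᵥ (M' *ᵥ w0) = _
    have h3 : w' ⬝ᵥ (M' *ᵥ w0) = ψ' w' := rfl
    rw [h3, ← hα, map_smul, smul_eq_mul]
  have key : ∀ y z : isos (form 2 K), f (QuadraticMap.polar Q ((D.rep y : Matrix ι ι F) *ᵥ w)
      ((D.rep z : Matrix ι ι F) *ᵥ w)) = f c * (D.j (F1 (turn K * z⁻¹ * y).1) ^ D.a *
        D.j (F2 (turn K * z⁻¹ * y).1) ^ D.b) := by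
    intro y z
    rw [hpol, ← hmap, ← hmap, ← hform (turn K * z⁻¹), ← rho_mul, ← rho_mul]
    have e : turn K * z⁻¹ * z = turn K := by group
    rw [e]
    change ψ' (lin (acRep D.rep) (turn K * z⁻¹ * y) w') = _
    rw [← hα, map_smul, map_smul, hψeq, LinearMap.smul_apply, D.coef, smul_eq_mul, smul_eq_mul, ← mul_assoc,
      ← hcψ]
  refine ⟨w, c, ?_, hw, key⟩
  intro hc0
  -- the form vanishes on the span of the translates of `w`
  have h3 : ∀ y z : isos (form 2 K), QuadraticMap.polar Q ((D.rep y : Matrix ι ι F) *ᵥ w)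
      ((D.rep z : Matrix ι ι F) *ᵥ w) = 0 := by
    intro y z
    apply f.injective
    rw [key, hc0, map_zero, zero_mul]
  have h4 : ∀ (z : isos (form 2 K)) (x : ι → F), QuadraticMap.polar Q x ((D.rep z : Matrix ι ι F) *ᵥ w) = 0 := by
    intro z
    let L : Submodule F (ι → F) :=
      { carrier := {x | ∀ y : isos (form 2 K), QuadraticMap.polar Q ((D.rep y : Matrix ι ι F) *ᵥ x)
          ((D.rep z : Matrix ι ι F) *ᵥ w) = 0}
        zero_mem' := fun y => by
          rw [Matrix.mulVec_zero]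
          have h5 := hQ.polar_bilinear.smul_left 0 0 ((D.rep z : Matrix ι ι F) *ᵥ w)
          rwa [zero_smul, zero_mul] at h5
        add_mem' := fun {a b} ha hb y => by
          rw [Matrix.mulVec_add, hQ.polar_bilinear.add_left, ha y, hb y, add_zero]
        smul_mem' := fun c x hx y => by
          rw [Matrix.mulVec_smul, hQ.polar_bilinear.smul_left, hx y, mul_zero] }
    have hL : L = ⊤ := by
      refine (hC.absIrred.1 L ?_).resolve_left ?_
      · rintro _ ⟨g, hg, rfl⟩ _ ⟨v, hv, rfl⟩ y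
        rw [SetLike.mem_coe, ← D.range_rep] at hg
        obtain ⟨g', rfl⟩ := hg
        rw [Matrix.toLin'_apply, Matrix.mulVec_mulVec, ← Units.val_mul, ← map_mul]
        exact hv (y * g')
      · intro hbot
        have h5 : w ∈ L := fun y => h3 y z
        rw [hbot] at h5
        exact hw0 ((Submodule.mem_bot F).1 h5)
    intro x
    have h5 : x ∈ L := by rw [hL]; trivial
    have h6 := h5 1
    rwa [map_one, Units.val_one, Matrix.one_mulVec] at h6
  obtain ⟨⟨x, hx⟩, -⟩ := hQ.nondegenerate w hw0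
  apply hx
  have h5 := h4 1 x
  rw [map_one, Units.val_one, Matrix.one_mulVec] at h5
  exact h5

/-- the Gram matrix for the weight `2 p ^ i` -/
theorem Data.gram_two (D : Data P K p) (hC : Core P) {Q : (ι → F) → F} (hQ : IsNondegenerateQuadraticForm Q)
    (hfix : FixesQuadForm (matrixSet P) Q) {i : ℕ} (ha : D.a = 2 * p ^ i) (hb : D.b = 0) :
    ∃ (s : K →+* F) (w : ι → F) (c : F), c ≠ 0 ∧ ∀ y z : isos (form 2 K),
      QuadraticMap.polar Q ((D.rep y : Matrix ι ι F) *ᵥ w) ((D.rep z : Matrix ι ι F) *ᵥ w) =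
        c * s ((form 2 K).h (y.1 (Pi.single (.inr 0) 1)) (z.1 (Pi.single (.inr 0) 1))) ^ 2 := by
  obtain ⟨s, hs⟩ := D.exists_hom hC
  obtain ⟨w, c, hc, -, hw⟩ := D.exists_gram hC hQ hfix
  refine ⟨(iterateFrobenius F p i).comp s, w, c, hc, fun y z => ?_⟩
  apply (algebraMap F (AlgebraicClosure F)).injective
  rw [hw, ha, hb, pow_zero, mul_one, F1_turn_inv, map_mul, map_pow, RingHom.comp_apply, iterateFrobenius_def, map_pow,
    hs]
  ring

end Gram

/-! ### ten vectors -/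

section Ten

/-- the alternating form over `ℤ` -/
def hZ (x y : Fin 4 → ℤ) : ℤ := x 2 * y 0 - x 0 * y 2 + x 3 * y 1 - x 1 * y 3

/-- ten vectors of `ℤ ^ 4` -/
def xs : Fin 10 → Fin 4 → ℤ := ![![0,0,1,0], ![1,0,0,0], ![0,0,0,1], ![0,1,0,0], ![0,0,1,1], ![1,1,0,0], ![0,1,1,0],
  ![1,0,0,1], ![1,0,1,0], ![0,1,0,1]]

/-- an orthogonal basis in terms of the squares of the ten vectors -/
def AZ : Fin 10 → Fin 10 → ℤ := ![![1,1,0,0,0,0,0,0,0,0],![1,-1,0,0,0,0,0,0,0,0],![0,0,1,1,0,0,0,0,0,0],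
  ![0,0,1,-1,0,0,0,0,0,0],![-1,-1,-1,-1,1,1,0,0,0,0],![-1,1,-1,1,1,-1,0,0,0,0],![-1,-1,-1,-1,0,0,1,1,0,0],
  ![-1,1,1,-1,0,0,1,-1,0,0],![-1,-1,0,0,0,0,0,0,1,0],![0,0,-1,-1,0,0,0,0,0,1]]

/-- the norms -/
def dZ : Fin 10 → ℤ := ![2,-2,2,-2,4,-4,-4,4,-2,-2]

set_option maxRecDepth 100000 in
theorem AGA : ∀ i l : Fin 10, (∑ a, ∑ b, AZ i a * hZ (xs a) (xs b) ^ 2 * AZ l b) = if i = l then dZ i else 0 := by
  decide +kernel

theorem prod_dZ : ∏ i, dZ i = (2 ^ 7) ^ 2 := by decide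

/-- a vector of `ℤ ^ 4` in `K ^ 4` -/
def cst (K : Type*) [Field K] (x : Fin 4 → ℤ) : V4 K := Sum.elim ![(x 0 : K), x 1] ![(x 2 : K), x 3]

theorem h_cst {K : Type*} [Field K] (x y : Fin 4 → ℤ) : (form 2 K).h (cst K x) (cst K y) = ((hZ x y : ℤ) : K) := by
  rw [h_eq]
  unfold hZ
  change (x 2 : K) * (y 0 : K) - (x 0 : K) * (y 2 : K) + ((x 3 : K) * (y 1 : K) - (x 1 : K) * (y 3 : K)) = _
  push_cast
  ring

theorem cst_ne {K : Type*} [Field K] (i : Fin 10) : cst K (xs i) ≠ 0 := by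
  intro h
  have h0 : ((xs i 0 : ℤ) : K) = 0 := congrFun h (.inl 0)
  have h1 : ((xs i 1 : ℤ) : K) = 0 := congrFun h (.inl 1)
  have h2 : ((xs i 2 : ℤ) : K) = 0 := congrFun h (.inr 0)
  have h3 : ((xs i 3 : ℤ) : K) = 0 := congrFun h (.inr 1)
  revert h0 h1 h2 h3
  fin_cases i <;> simp [xs]

variable {F : Type u} [Field F] [Finite F] {ι : Type} [Fintype ι] [DecidableEq ι] {P : Subgroup (GL ι F)}
  {K : Type*} [Field K] [Finite K] {p : ℕ} [hp : Fact p.Prime] [hFp : CharP F p] [hKp : CharP K p]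

omit hp hFp hKp [Finite F] in
/-- the discriminant from an orthogonal system -/
theorem isSquare_det {Q : (ι → F) → F} (hQ : IsNondegenerateQuadraticForm Q) (hn : Fintype.card ι = 10)
    {u : Fin 10 → ι → F} {c : F} {d : Fin 10 → F} (hu : ∀ i l, QuadraticMap.polar Q (u i) (u l) = if i = l then c * d i else 0) :
    ∃ t : F, c ^ 10 * ∏ i, d i = t ^ 2 * (H830.Disc.gram Q).det := by
  have e : ι ≃ Fin 10 := Fintype.equivFinOfCardEq hn
  set C : Matrix ι ι F := Matrix.of fun a b => u (e b) a with hCdef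
  have h1 : Cᵀ * H830.Disc.gram Q * C = Matrix.diagonal fun b => c * d (e b) := by
    ext a b
    have h2 : (Cᵀ * H830.Disc.gram Q * C) a b = u (e a) ⬝ᵥ (H830.Disc.gram Q *ᵥ u (e b)) := by
      rw [Matrix.mul_assoc, Matrix.mul_apply]
      rfl
    rw [h2, ← polar_dot hQ, hu, Matrix.diagonal_apply]
    by_cases hab : a = b
    · subst hab; simp
    · rw [if_neg (fun h => hab (e.injective h)), if_neg hab]
  have h2 := congrArg Matrix.det h1
  rw [Matrix.det_mul, Matrix.det_mul, Matrix.det_transpose, Matrix.det_diagonal] at h2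
  refine ⟨C.det, ?_⟩
  have h3 : ∏ b, (c * d (e b)) = c ^ 10 * ∏ i, d i := by
    rw [Equiv.prod_comp e (fun i => c * d i), Finset.prod_mul_distrib]
    simp
  rw [← h3, ← h2]
  ring

/-- **The type of the form on the adjoint module of `Sp_4(K)`.** -/
theorem Data.plus_iff (D : Data P K p) (hC : Core P) (hp2 : p ≠ 2) (hn : Fintype.card ι = 10) {Q : (ι → F) → F}
    (hQ : IsNondegenerateQuadraticForm Q) (hfix : FixesQuadForm (matrixSet P) Q) :
    IsPlusTypeOn Q ⊤ ↔ IsSquare (-1 : F) := by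
  have h2F : (2 : F) ≠ 0 := by
    intro h
    have h5 : ((2 : ℕ) : F) = 0 := by exact_mod_cast h
    rw [CharP.cast_eq_zero_iff F p] at h5
    exact hp2 ((Nat.prime_dvd_prime_iff_eq hp.out Nat.prime_two).1 h5)
  obtain ⟨i, ha, hb⟩ : ∃ i, D.a = 2 * p ^ i ∧ D.b = 0 := by
    rcases D.good with ⟨i, h1, h2, h3⟩ | ⟨hp2, i, h1, h2, h3⟩ | ⟨hp2, i, h1, h2, h3⟩ | ⟨hp2, i, h1, h2, h3⟩ |
      ⟨hp5, i, h1, h2, h3⟩
    · omega
    · omega
    · omega
    · exact ⟨i, h1, h2⟩
    · omega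
  obtain ⟨s, w, c, hc, hB⟩ := D.gram_two hC hQ hfix ha hb
  have hy : ∀ i : Fin 10, ∃ g : isos (form 2 K), g.1 (Pi.single (.inr 0) 1) = cst K (xs i) := fun i =>
    exists_to (cst_ne i)
  choose y hy using hy
  set V : Fin 10 → ι → F := fun i => (D.rep (y i) : Matrix ι ι F) *ᵥ w with hV
  have hVV : ∀ a b, QuadraticMap.polar Q (V a) (V b) = c * ((hZ (xs a) (xs b) ^ 2 : ℤ) : F) := by
    intro a b
    rw [hV]
    change QuadraticMap.polar Q ((D.rep (y a) : Matrix ι ι F) *ᵥ w) ((D.rep (y b) : Matrix ι ι F) *ᵥ w) = _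
    rw [hB, hy, hy, h_cst, map_intCast]
    push_cast
    ring
  have hbil := hQ.polar_bilinear
  have hsum : ∀ (s : Finset (Fin 10)) (f : Fin 10 → F) (x : ι → F),
      QuadraticMap.polar Q (∑ a ∈ s, f a • V a) x = ∑ a ∈ s, f a * QuadraticMap.polar Q (V a) x := by
    intro s f x
    classical
    induction s using Finset.induction_on with
    | empty =>
      rw [Finset.sum_empty, Finset.sum_empty]
      have h5 := hbil.smul_left 0 0 x
      rwa [zero_smul, zero_mul] at h5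
    | insert a s ha ih => rw [Finset.sum_insert ha, Finset.sum_insert ha, hbil.add_left, hbil.smul_left, ih]
  set u : Fin 10 → ι → F := fun i => ∑ a, (AZ i a : F) • V a with hu
  have huu : ∀ i l, QuadraticMap.polar Q (u i) (u l) = if i = l then c * ((dZ i : ℤ) : F) else 0 := by
    intro i l
    have h1 : QuadraticMap.polar Q (u i) (u l) =
        ∑ a, ∑ b, (AZ i a : F) * (c * ((hZ (xs a) (xs b) ^ 2 : ℤ) : F)) * (AZ l b : F) := by
      rw [hu]
      change QuadraticMap.polar Q (∑ a, (AZ i a : F) • V a) (∑ b, (AZ l b : F) • V b) = _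
      rw [hsum]
      refine Finset.sum_congr rfl fun a _ => ?_
      rw [QuadraticMap.polar_comm, hsum, Finset.mul_sum]
      refine Finset.sum_congr rfl fun b _ => ?_
      rw [QuadraticMap.polar_comm, hVV]
      ring
    have h2 : QuadraticMap.polar Q (u i) (u l) =
        c * (((∑ a, ∑ b, AZ i a * hZ (xs a) (xs b) ^ 2 * AZ l b : ℤ)) : F) := by
      rw [h1, Int.cast_sum, Finset.mul_sum]
      refine Finset.sum_congr rfl fun a _ => ?_
      rw [Int.cast_sum, Finset.mul_sum]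
      refine Finset.sum_congr rfl fun b _ => ?_
      push_cast
      ring
    rw [h2, AGA]
    split_ifs with h
    · rfl
    · rw [Int.cast_zero, mul_zero]
  obtain ⟨t, ht⟩ := isSquare_det hQ hn huu
  have hd : ∏ i, ((dZ i : ℤ) : F) = (2 ^ 7) ^ 2 := by
    rw [← Int.cast_prod, prod_dZ]
    push_cast
    ring
  rw [hd] at ht
  have h7 : (c ^ 5 * 2 ^ 7) ≠ 0 := mul_ne_zero (pow_ne_zero _ hc) (pow_ne_zero _ h2F)
  have hM : (H830.Disc.gram Q).det ≠ 0 := H830.Disc.gram_det_ne hQ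
  have ht0 : t ≠ 0 := by
    rintro rfl
    apply h7
    have h8 : (c ^ 5 * 2 ^ 7) ^ 2 = 0 := by
      rw [zero_pow two_ne_zero, zero_mul] at ht
      linear_combination ht
    exact pow_eq_zero_iff two_ne_zero |>.1 h8
  have hdet : (H830.Disc.gram Q).det = ((c ^ 5 * 2 ^ 7) / t) ^ 2 := by
    field_simp
    linear_combination -ht
  rw [H830.Disc.plus_iff_det h2F hQ (m := 5) (by omega), hdet]
  have hr : (c ^ 5 * 2 ^ 7) / t ≠ 0 := div_ne_zero h7 ht0
  constructor
  · rintro ⟨x, hx⟩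
    refine ⟨x / ((c ^ 5 * 2 ^ 7) / t), ?_⟩
    rw [div_mul_div_comm, ← hx, eq_div_iff (mul_ne_zero hr hr)]
    ring
  · rintro ⟨x, hx⟩
    refine ⟨x * ((c ^ 5 * 2 ^ 7) / t), ?_⟩
    have h9 : (-1 : F) ^ 5 = x * x := by rw [← hx]; ring
    rw [h9]
    ring

end Ten

/-! ### the rows -/

section Rows

variable {F : Type*} [Field F] {ι : Type} [Fintype ι] [DecidableEq ι] {P : Subgroup (GL ι F)}
  {K : Type*} [Field K] [Finite K] (p : ℕ) [hp : Fact p.Prime] [hFp : CharP F p] [hKp : CharP K p]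

/-- a homomorphism of finite fields of the same order is bijective -/
theorem exists_ringEquiv [Finite F] (s : K →+* F) (h : Nat.card F = Nat.card K) : Nonempty (K ≃+* F) := by
  have := Fintype.ofFinite K
  have := Fintype.ofFinite F
  refine ⟨RingEquiv.ofBijective s ((Fintype.bijective_iff_injective_and_card s).2 ⟨s.injective, ?_⟩)⟩
  rw [← Nat.card_eq_fintype_card, ← Nat.card_eq_fintype_card, h]

include hFp hKp in
/-- the socle is `PSp_4(F)` -/
theorem psp4_equiv [Finite F] (hC : Core P) (hK : 3 ≤ Nat.card K) (Φ : Soc P ≃* PSp 2 K) (hn : Fintype.card ι ≤ 12) :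
    Nonempty (Soc P ≃* PSp 2 F) := by
  obtain ⟨-, hF, -⟩ := core_psp4 p hC hK Φ hn
  obtain ⟨D⟩ := exists_data p hC hK Φ hn
  obtain ⟨s, -⟩ := D.exists_hom hC
  obtain ⟨e⟩ := exists_ringEquiv s hF
  exact ⟨Φ.trans (Cfsg.Agent.LieClassical.FieldTransfer.pspCongr 2 e)⟩

include hp hFp hKp in
/-- **`PSp_4(K)` in degree 10.** -/
theorem core_psp4_ten [Fintype F] (hC : Core P) (hK : 3 ≤ Nat.card K) (Φ : Soc P ≃* PSp 2 K) (hn : Fintype.card ι = 10)
    {Q : (ι → F) → F} (hQ : IsNondegenerateQuadraticForm Q) (hfix : FixesQuadForm (matrixSet P) Q) :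
    Nonempty (Soc P ≃* PSp 2 F) ∧ p ≠ 2 ∧ Fintype.card F = Nat.card K ∧
      ((IsPlusTypeOn Q ⊤ ∧ Fintype.card F % 4 = 1) ∨ (¬ IsPlusTypeOn Q ⊤ ∧ Fintype.card F % 4 = 3)) := by
  obtain ⟨-, hF, h1⟩ := core_psp4 p hC hK Φ (by omega)
  have hp2 : p ≠ 2 := by
    rcases h1 with h | h | h | h
    · omega
    · exact h.1
    · exact h.1
    · rw [h.1]; norm_num
  obtain ⟨D⟩ := exists_data p hC hK Φ (by omega)
  have h2 := D.plus_iff hC hp2 hn hQ hfix
  have hodd : Fintype.card F % 2 = 1 := by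
    obtain ⟨a, -, ha⟩ := FiniteField.card F p
    rw [ha]
    exact Nat.odd_iff.1 (hp.out.odd_of_ne_two hp2).pow
  refine ⟨psp4_equiv p hC hK Φ (by omega), hp2, by rw [← Nat.card_eq_fintype_card, hF], ?_⟩
  have h3 : IsSquare (-1 : F) ↔ Fintype.card F % 4 ≠ 3 := FiniteField.isSquare_neg_one_iff
  by_cases h4 : Fintype.card F % 4 = 3
  · right
    refine ⟨fun h5 => ?_, h4⟩
    exact h3.1 (h2.1 h5) h4
  · left
    exact ⟨h2.2 (h3.2 h4), by omega⟩

end Rows

end Cfsg.Agent.H905.Sp4
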