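import Cfsg.Agent.H905.MdI
import Cfsg.Agent.FixBN.ReeSplit
import Cfsg.Agent.LieRecognition.SzMatrix
import Cfsg.Agent.H67.SzOdd
import Cfsg.Agent.S2113

/-!
# Suzuki and Ree groups in the defining characteristic: real traces (helper905)

* `rgd_one` : root group data of rank one from a split (B,N)-pair of rank one;
* **`sz_both`**, **`ree_both`** : `P ≤ GL(ι, F)` perfect, absolutely irreducible, `P/scalars` a Suzuki (Ree) group over
  `K`, `char K = char F`: `tr(g) ^ |K| = tr(g)` and `tr(g⁻¹) = tr(g)`.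
-/

set_option autoImplicit false
set_option linter.unusedSectionVars false
set_option linter.style.haveILetI false

namespace Cfsg.Agent.H905.Md

open Matrix CoxeterSystem Cfsg.Agent.ChevalleyStructure.CoxeterGeom Cfsg.Agent.Tits.Roots Cfsg.Agent.Tits.Core
  Cfsg.Agent.Nodes.Reps Cfsg.Agent.Nodes.BNOf Cfsg.Agent.Nodes.Bruhat Cfsg.Agent.Omega.CR
  Cfsg.Agent.Omega.FOne.Lift.Sd Cfsg.Agent.Nodes.RootsA Cfsg.Agent.H911 Cfsg.Agent.Nodes.RGDLib
open Cfsg.Agent.LieRecognition.BNCox (cA cA_apply)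
open Cfsg Cfsg.Geo Cfsg.Agent.H67
open scoped MatrixGroups commutatorElement

section One

variable {W : Type*} [Group W] (cs : CoxeterSystem (cA 1) W) {A : Fin 1 → Fin 1 → ℤ} (h : IsCartan (cA 1) A)

theorem rep_simple_one (i : Fin 1) (x : Fin 1 → ℤ) : rep cs h (cs.simple i) x = -x := by
  obtain rfl : i = 0 := Subsingleton.elim _ _
  have e : x = x 0 • sr (0 : Fin 1) := by
    funext i
    obtain rfl : i = 0 := Subsingleton.elim _ _
    rw [Pi.smul_apply, sr_self, smul_eq_mul, mul_one]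
  rw [e, map_smul, rep_simple_sr, smul_neg]

theorem isRoot_one {x : Fin 1 → ℤ} : IsRoot cs h x ↔ x = sr 0 ∨ x = -sr 0 := by
  constructor
  · rintro ⟨w, i, rfl⟩
    obtain rfl : i = 0 := Subsingleton.elim _ _
    obtain ⟨ω, rfl⟩ := cs.wordProd_surjective w
    induction ω with
    | nil => left; rw [wordProd_nil, map_one, Module.End.one_apply]
    | cons i ω ih =>
      rw [wordProd_cons, rep_mul_apply, rep_simple_one]
      rcases ih with ih | ih
      · right; rw [ih]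
      · left; rw [ih, neg_neg]
  · rintro (rfl | rfl)
    · exact isRoot_sr cs h 0
    · exact ⟨cs.simple 0, 0, by rw [rep_simple_one]⟩

variable {Y : Type*} [Group Y]

open Classical in
/-- the two root groups -/
noncomputable def X1 (U : Subgroup Y) (n : Y) : (Fin 1 → ℤ) → Subgroup Y := fun x =>
  if x = sr 0 then U else if x = -sr 0 then cj n U else ⊥

theorem neg_sr_ne : (-sr (0 : Fin 1) : Fin 1 → ℤ) ≠ sr 0 := by
  intro e
  have h1 := congrFun e 0
  rw [Pi.neg_apply, sr_self] at h1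
  omega

theorem X1_pos (U : Subgroup Y) (n : Y) : X1 U n (sr 0) = U := by
  unfold X1; rw [if_pos rfl]

theorem X1_neg (U : Subgroup Y) (n : Y) : X1 U n (-sr 0) = cj n U := by
  unfold X1; rw [if_neg neg_sr_ne, if_pos rfl]

variable {U T : Subgroup Y} {n : Y} {p : ℕ}

theorem cj_eq_of_norm {V : Subgroup Y} (hTU : ∀ t ∈ T, ∀ u ∈ V, t * u * t⁻¹ ∈ V) {t : Y} (ht : t ∈ T) :
    cj t V = V := by
  ext x
  rw [mem_cj]
  constructor
  · intro hx
    have h1 := hTU t ht _ hx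
    have e : t * (t⁻¹ * x * t) * t⁻¹ = x := by group
    rwa [e] at h1
  · intro hx
    have h1 := hTU _ (inv_mem ht) x hx
    rwa [inv_inv] at h1

/-- the data -/
structure Sp1 (p : ℕ) (U T : Subgroup Y) (n : Y) : Prop where
  tu : ∀ t ∈ T, ∀ u ∈ U, t * u * t⁻¹ ∈ U
  nt : ∀ t ∈ T, n * t * n⁻¹ ∈ T
  nn : n * n ∈ T
  br : ∀ g : Y, (∃ u ∈ U, ∃ t ∈ T, g = u * t) ∨ ∃ u ∈ U, ∃ t ∈ T, ∃ v ∈ U, g = u * t * n * v
  tr : ∀ u ∈ U, ∀ v ∈ U, ∀ t ∈ T, n * u * n⁻¹ = v * t → u = 1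
  pg : IsPGroup p U
  ne : U ≠ ⊥
  cop : (Nat.card T).Coprime p

variable (D : Sp1 p U T n)
include D

theorem Sp1.nt' {t : Y} (ht : t ∈ T) : n⁻¹ * t * n ∈ T := by
  have h1 := D.nt t ht
  have h2 := mul_mem (mul_mem (inv_mem D.nn) (D.nt t ht)) D.nn
  have e : (n * n)⁻¹ * (n * t * n⁻¹) * (n * n) = n⁻¹ * t * n := by group
  rwa [e] at h2

theorem Sp1.notp [Finite Y] [hp : Fact p.Prime] : ¬ IsPGroup p ↥(U ⊔ cj n U) := by
  intro hq
  set Q := U ⊔ cj n U with hQ
  have hUQ : U ≤ Q := le_sup_left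
  -- `n` does not normalise `U`
  have hn : ¬ cj n U ≤ U := by
    intro hle
    apply D.ne
    rw [eq_bot_iff]
    intro u hu
    rw [Subgroup.mem_bot]
    refine D.tr u hu (n * u * n⁻¹) (hle ?_) 1 (one_mem _) (by rw [mul_one])
    rw [mem_cj]
    have e : n⁻¹ * (n * u * n⁻¹) * n = u := by group
    rwa [e]
  have hlt : U.subgroupOf Q < ⊤ := by
    rw [lt_top_iff_ne_top]
    intro e
    rw [Subgroup.subgroupOf_eq_top] at e
    exact hn (le_sup_right.trans e)
  have hnil : Group.IsNilpotent Q := hq.isNilpotent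
  have h1 := Group.normalizerCondition_of_isNilpotent (U.subgroupOf Q) hlt
  obtain ⟨x, hx, hx'⟩ := SetLike.exists_of_lt h1
  have hxU : (x : Y) ∉ U := fun e => hx' (Subgroup.mem_subgroupOf.2 e)
  have hnorm : ∀ u ∈ U, (x : Y) * u * (x : Y)⁻¹ ∈ U := by
    intro u hu
    rw [Subgroup.mem_normalizer_iff] at hx
    have h2 := (hx ⟨u, hUQ hu⟩).1 (Subgroup.mem_subgroupOf.2 hu)
    exact Subgroup.mem_subgroupOf.1 h2
  rcases D.br x with ⟨u, hu, t, ht, e⟩ | ⟨u, hu, t, ht, v, hv, e⟩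
  · have h2 : t ∈ Q := by
      have h3 : t = u⁻¹ * x := by rw [e]; group
      rw [h3]
      exact mul_mem (inv_mem (hUQ hu)) x.2
    obtain ⟨k, hk⟩ := hq ⟨t, h2⟩
    have hk' : t ^ p ^ k = 1 := congrArg Subtype.val hk
    have h3 : orderOf t ∣ Nat.card T := Subgroup.orderOf_dvd_natCard T ht
    have h4 : orderOf t = 1 := Nat.eq_one_of_dvd_coprimes (D.cop.pow_right k) h3 (orderOf_dvd_of_pow_eq_one hk')
    rw [orderOf_eq_one_iff] at h4
    rw [h4, mul_one] at e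
    exact hxU (by rw [e]; exact hu)
  · apply hn
    intro y hy
    rw [mem_cj] at hy
    -- `y = n w n⁻¹`
    have h2 := hnorm (v⁻¹ * (n⁻¹ * y * n) * v) (mul_mem (mul_mem (inv_mem hv) hy) hv)
    have e2 : (x : Y) * (v⁻¹ * (n⁻¹ * y * n) * v) * (x : Y)⁻¹ = u * (t * y * t⁻¹) * u⁻¹ := by rw [e]; group
    rw [e2] at h2
    have h3 := mul_mem (mul_mem (inv_mem hu) h2) hu
    have e3 : u⁻¹ * (u * (t * y * t⁻¹) * u⁻¹) * u = t * y * t⁻¹ := by group
    rw [e3] at h3
    have h4 := D.tu _ (inv_mem ht) _ h3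
    have e4 : t⁻¹ * (t * y * t⁻¹) * t⁻¹⁻¹ = y := by group
    rwa [e4] at h4

/-- **Root group data of rank one.** -/
theorem Sp1.rgd [Finite Y] [hp : Fact p.Prime] : RGD cs h p T (fun _ => n) (X1 U n) where
  nsys := ⟨fun i => by
    rw [Subgroup.mem_normalizer_iff]
    intro t
    refine ⟨fun ht => D.nt t ht, fun ht => ?_⟩
    have h1 := D.nt' ht
    have e : n⁻¹ * (n * t * n⁻¹) * n = t := by group
    rwa [e] at h1, fun i j => pow_mem D.nn _⟩
  conj i x hx := by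
    rw [rep_simple_one]
    rcases (isRoot_one cs h).1 hx with rfl | rfl
    · rw [X1_pos, X1_neg]
    · rw [neg_neg, X1_pos, X1_neg, ← cj_mul]
      exact cj_eq_of_norm D.tu D.nn
  tor x hx t ht := by
    rcases (isRoot_one cs h).1 hx with rfl | rfl
    · rw [X1_pos]; exact cj_eq_of_norm D.tu ht
    · rw [X1_neg, ← cj_mul]
      have e : t * n = n * (n⁻¹ * t * n) := by group
      rw [e, cj_mul, cj_eq_of_norm D.tu (D.nt' ht)]
  comm x y hx hy h1 h2 := by
    exfalso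
    rcases (isRoot_one cs h).1 hx with rfl | rfl <;> rcases (isRoot_one cs h).1 hy with rfl | rfl
    · exact h1 rfl
    · exact h2 (neg_neg _).symm
    · exact h2 rfl
    · exact h1 rfl
  rk1 i u hu hu1 := by
    obtain rfl : i = 0 := Subsingleton.elim _ _
    rw [X1_neg] at hu
    rw [X1_pos]
    rcases D.br u with ⟨a, ha, t, ht, e⟩ | ⟨a, ha, t, ht, b, hb, e⟩
    · exfalso
      rw [mem_cj] at hu
      have h1 := D.tr _ hu a ha t ht (by rw [← e]; group)
      apply hu1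
      have h2 : u = n * (n⁻¹ * u * n) * n⁻¹ := by group
      rw [h2, h1]; group
    · exact ⟨a, ha, t, ht, b, hb, e⟩
  pgrp i := by
    obtain rfl : i = 0 := Subsingleton.elim _ _
    rw [X1_pos]; exact D.pg
  notp i := by
    obtain rfl : i = 0 := Subsingleton.elim _ _
    rw [X1_pos, X1_neg]; exact D.notp
  tcop := D.cop

theorem Sp1.gg [Finite Y] : GG cs h T (X1 U n) = ⊤ := by
  have hT : T ≤ GG cs h T (X1 U n) := le_sup_left
  have hU : U ≤ GG cs h T (X1 U n) := by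
    have h1 : X1 U n (sr 0) ≤ GG cs h T (X1 U n) :=
      (RGD.le_Sup (show sr 0 ∈ {x | IsRoot cs h x} from isRoot_sr cs h 0)).trans le_sup_right
    rwa [X1_pos] at h1
  have hV : cj n U ≤ GG cs h T (X1 U n) := by
    have h1 : X1 U n (-sr 0) ≤ GG cs h T (X1 U n) :=
      (RGD.le_Sup (show -sr 0 ∈ {x | IsRoot cs h x} from (isRoot_one cs h).2 (Or.inr rfl))).trans le_sup_right
    rwa [X1_neg] at h1
  generalize GG cs h T (X1 U n) = Γ at hT hU hV ⊢
  have hn : n ∈ Γ := by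
    obtain ⟨u, hu, hu1⟩ : ∃ u ∈ U, u ≠ 1 := by
      by_contra hcon
      push Not at hcon
      exact D.ne ((Subgroup.eq_bot_iff_forall U).2 hcon)
    have hmem : n * u * n⁻¹ ∈ cj n U := by
      rw [mem_cj]
      have e : n⁻¹ * (n * u * n⁻¹) * n = u := by group
      rw [e]; exact hu
    rcases D.br (n * u * n⁻¹) with ⟨a, ha, t, ht, e⟩ | ⟨a, ha, t, ht, b, hb, e⟩
    · exact absurd (D.tr u hu a ha t ht e) hu1
    · have e2 : n = t⁻¹ * a⁻¹ * (n * u * n⁻¹) * b⁻¹ := by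
        rw [e]; group
      rw [e2]
      exact mul_mem (mul_mem (mul_mem (inv_mem (hT ht)) (inv_mem (hU ha))) (hV hmem)) (inv_mem (hU hb))
  rw [eq_top_iff]
  intro g _
  rcases D.br g with ⟨u, hu, t, ht, rfl⟩ | ⟨u, hu, t, ht, v, hv, rfl⟩
  · exact mul_mem (hU hu) (hT ht)
  · exact mul_mem (mul_mem (mul_mem (hU hu) (hT ht)) hn) (hU hv)

end One

section Both

variable {F : Type*} [Field F] [Finite F] {ι : Type} [Fintype ι] [DecidableEq ι] {P : Subgroup (GL ι F)}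
  {p : ℕ} [hp : Fact p.Prime] [hFp : CharP F p] {Y : Type*} [Group Y] [Finite Y] {U T : Subgroup Y} {n : Y}
include hp hFp

/-- **Rank one: real traces.** -/
theorem Sp1.both (D : Sp1 p U T n) (hT : ∀ s ∈ T, ∀ t ∈ T, s * t = t * s) (hinv : ∀ t ∈ T, n⁻¹ * t⁻¹ * n = t)
    {φ : Y →* GL ι F} (hφ : φ.range = P) [Nonempty ι] (hP : ActsAbsolutelyIrreducibly (matrixSet P)) {a : ℕ}
    (ha : ∀ t ∈ T, t ^ p ^ a = t) {g : GL ι F} (hg : g ∈ P) :
    (g : Matrix ι ι F).trace ^ p ^ a = (g : Matrix ι ι F).trace ∧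
      ((g⁻¹ : GL ι F) : Matrix ι ι F).trace = (g : Matrix ι ι F).trace := by
  haveI : Finite (cA 1).Group := finite_W (cA 1).toCoxeterSystem (isCartan 1)
  have R := D.rgd (cA 1).toCoxeterSystem (isCartan 1)
  have hG := D.gg (cA 1).toCoxeterSystem (isCartan 1)
  refine ⟨trace_pow R hG hT hφ hP ha hg, ?_⟩
  have h3 := trace_inv_pow R hG hT hφ hP (w0 := (cA 1).toCoxeterSystem.simple 0)
    (fun x => rep_simple_one _ _ 0 x) (w := n) (rp_simple _ _ 0) (a := 0) (fun t ht => by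
      rw [pow_zero, pow_one]; exact hinv t ht) hg
  rwa [pow_zero, pow_one] at h3

end Both

section Nontriv

variable {F : Type*} [Field F] {ι : Type} [Fintype ι] [DecidableEq ι] {P : Subgroup (GL ι F)}

theorem nonempty_of_noncomm {T₀ : Type*} [Group T₀]
    (Φ : (P ⧸ (scalars ι F).subgroupOf P) ≃* T₀) (hT : ∃ x y : T₀, x * y ≠ y * x) : 2 ≤ Fintype.card ι := by
  by_contra hcon
  have h1 : ∀ a b : GL ι F, a * b = b * a := by
    intro a b
    have h2 : Subsingleton ι := Fintype.card_le_one_iff_subsingleton.1 (by omega)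
    apply Units.ext
    rw [Units.val_mul, Units.val_mul]
    ext i j
    rw [Matrix.mul_apply, Matrix.mul_apply]
    refine Finset.sum_congr rfl fun x _ => ?_
    rw [Subsingleton.elim j i, Subsingleton.elim x i, mul_comm]
  obtain ⟨x, y, hxy⟩ := hT
  obtain ⟨a, rfl⟩ := prj_surjective Φ x
  obtain ⟨b, rfl⟩ := prj_surjective Φ y
  apply hxy
  rw [← map_mul, ← map_mul]
  congr 1
  exact Subtype.ext (h1 a b)

end Nontriv

section Sz

open Cfsg.Agent.LieRecognition.SzMatrix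

variable {K : Type*} [Field K] {θ : K →+* K} {e : ℕ}

/-- the torus of a Suzuki group -/
def szT (H : Good K θ e) : Subgroup ↥(Cfsg.Lie.Sz K e) where
  carrier := {g | ∃ a, g = H.d a}
  mul_mem' := by
    rintro _ _ ⟨a, rfl⟩ ⟨b, rfl⟩
    exact ⟨a * b, H.d_mul a b⟩
  one_mem' := ⟨1, H.d_one.symm⟩
  inv_mem' := by
    rintro _ ⟨a, rfl⟩
    exact ⟨a⁻¹, H.d_inv a⟩

theorem card_szT [Fintype K] (H : Good K θ e) : Nat.card (szT H) = Fintype.card K - 1 := by
  classical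
  have h1 : Function.Bijective (fun a : Kˣ => (⟨H.d a, a, rfl⟩ : szT H)) := by
    constructor
    · intro a b h
      exact H.d_inj (congrArg Subtype.val h)
    · rintro ⟨_, a, rfl⟩
      exact ⟨a, rfl⟩
  rw [← Nat.card_congr (Equiv.ofBijective _ h1), Nat.card_units, Nat.card_eq_fintype_card]

theorem sz_sp1 [Fintype K] {m : ℕ} (hK : Fintype.card K = 2 ^ (2 * m + 1)) (H : Good K θ e) :
    Sp1 2 H.unip (szT H) H.w where
  tu := by
    rintro _ ⟨a, rfl⟩ u hu
    exact H.borel_normalizes _ (H.d_mem_borel a) u hu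
  nt := by
    rintro _ ⟨a, rfl⟩
    exact ⟨a⁻¹, by rw [H.w_mul_d, mul_inv_cancel_right]⟩
  nn := ⟨1, by rw [H.w_mul_w, H.d_one]⟩
  br g := by
    by_cases hg : g ∈ H.borel
    · obtain ⟨a, c, k, rfl⟩ := (H.mem_borel_iff' g).1 hg
      exact Or.inl ⟨_, H.u_mem_unip a c, _, ⟨k, rfl⟩, rfl⟩
    · right
      obtain ⟨s, hs, h⟩ := H.bruhat_sz g hg
      obtain ⟨a, c, k, e⟩ := (H.mem_borel_iff' _).1 h
      refine ⟨s, hs, H.d k⁻¹, ⟨k⁻¹, rfl⟩, (H.d k)⁻¹ * H.u a c * H.d k, ?_, ?_⟩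
      · have h1 := H.borel_normalizes _ (inv_mem (H.d_mem_borel k)) _ (H.u_mem_unip a c)
        rwa [inv_inv] at h1
      · have e1 : g = s * H.w * (H.u a c * H.d k) := by rw [← e]; group
        rw [e1]
        have e2 : s * H.d k⁻¹ * H.w * ((H.d k)⁻¹ * H.u a c * H.d k) =
            s * (H.d k⁻¹ * H.w) * (H.d k)⁻¹ * H.u a c * H.d k := by group
        rw [e2, ← H.w_mul_d]; group
  tr u hu v hv t ht e := by
    obtain ⟨k, rfl⟩ := ht
    refine H.inter_trivial u hu ?_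
    rw [H.w_inv]
    rw [H.w_inv] at e
    rw [e]
    exact mul_mem (H.unip_le_borel hv) (H.d_mem_borel k)
  pg := by
    have : Fact (Nat.Prime 2) := ⟨Nat.prime_two⟩
    apply IsPGroup.of_card (n := (2 * m + 1) * 2)
    rw [H.card_unip, Nat.card_eq_fintype_card, hK, ← pow_mul]
  ne := by
    intro h
    have h1 : H.u 1 0 ∈ (⊥ : Subgroup ↥(Cfsg.Lie.Sz K e)) := by rw [← h]; exact H.u_mem_unip 1 0
    rw [Subgroup.mem_bot, ← H.u_zero] at h1
    exact one_ne_zero (H.u_inj h1).1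
  cop := by
    rw [card_szT, hK, Nat.coprime_comm, Nat.Prime.coprime_iff_not_dvd Nat.prime_two]
    have h1 : 2 ∣ 2 ^ (2 * m + 1) := dvd_pow_self 2 (by omega)
    have h2 : 0 < 2 ^ (2 * m + 1) := by positivity
    omega

theorem szT_comm (H : Good K θ e) : ∀ s ∈ szT H, ∀ t ∈ szT H, s * t = t * s := by
  rintro _ ⟨a, rfl⟩ _ ⟨b, rfl⟩
  rw [H.d_mul, H.d_mul, mul_comm]

theorem szT_inv (H : Good K θ e) : ∀ t ∈ szT H, H.w⁻¹ * t⁻¹ * H.w = t := by
  rintro _ ⟨a, rfl⟩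
  rw [H.w_inv, H.d_inv, H.w_mul_d, inv_inv, mul_assoc, H.w_mul_w, mul_one]

theorem szT_pow [Fintype K] (H : Good K θ e) : ∀ t ∈ szT H, t ^ Fintype.card K = t := by
  rintro _ ⟨a, rfl⟩
  have h1 : ∀ k : ℕ, H.d a ^ k = H.d (a ^ k) := by
    intro k
    induction k with
    | zero => rw [pow_zero, pow_zero, H.d_one]
    | succ k ih => rw [pow_succ, ih, pow_succ, H.d_mul]
  rw [h1]
  congr 1
  apply Units.ext
  rw [Units.val_pow_eq_pow_val, FiniteField.pow_card]

variable {F : Type*} [Field F] [Finite F] {ι : Type} [Fintype ι] [DecidableEq ι] {P : Subgroup (GL ι F)}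

/-- **Suzuki groups in characteristic two.** -/
theorem sz_both [CharP F 2] (hP : ActsAbsolutelyIrreducibly (matrixSet P)) (hperf : ⁅P, P⁆ = P) [Fintype K] {m : ℕ}
    (hm : 1 ≤ m) (hK : Fintype.card K = 2 ^ (2 * m + 1))
    (Φ : (P ⧸ (scalars ι F).subgroupOf P) ≃* Cfsg.Lie.Sz K (2 ^ (m + 1))) {g : GL ι F} (hg : g ∈ P) :
    (g : Matrix ι ι F).trace ^ Fintype.card K = (g : Matrix ι ι F).trace ∧
      ((g⁻¹ : GL ι F) : Matrix ι ι F).trace = (g : Matrix ι ι F).trace := by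
  have : Fact (Nat.Prime 2) := ⟨Nat.prime_two⟩
  have h2 := nonempty_of_noncomm Φ (SzOdd.not_commute hK)
  haveI : Nonempty ι := Fintype.card_pos_iff.1 (by omega)
  have H := good hK
  obtain ⟨φ, hφ, -, -⟩ := exists_cover (p := 2) hperf Φ (SzOdd.perfect_sz hm hK)
    (fun r hr hne => SzOdd.noPCov_odd hm hK hr hne) (πG := MonoidHom.id _) Function.surjective_id
    (by rw [(MonoidHom.ker_eq_bot_iff _).2 Function.injective_id]; exact bot_le)
  rw [hK]
  refine (sz_sp1 hK H).both (szT_comm H) (szT_inv H) hφ hP (fun t ht => ?_) hg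
  rw [← hK]
  exact szT_pow H t ht

end Sz

section Ree

open Cfsg.Agent.LieRecognition.ReeAbs Cfsg.Agent.LieRecognition.ReeSylowThree Cfsg.Agent.FixBN.ReeSplit

variable {K : Type*} [Field K] {G : Type*} [Group G]
variable {m : ℕ} {U : K → K → K → G} {h : Kˣ → G} {n : G}

theorem card_reeT [Fintype K] (D : Data m U h n) : Nat.card (hSub D) = Fintype.card K - 1 := by
  classical
  have h1 : Function.Bijective (fun a : Kˣ => (⟨h a, a, rfl⟩ : hSub D)) := by
    constructor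
    · intro a b e
      exact h_inj D (congrArg Subtype.val e)
    · rintro ⟨_, a, rfl⟩
      exact ⟨a, rfl⟩
  rw [← Nat.card_congr (Equiv.ofBijective _ h1), Nat.card_units, Nat.card_eq_fintype_card]

theorem ree_sp1 [Fintype K] (hK : Fintype.card K = 3 ^ (2 * m + 1)) (D : Data m U h n) :
    Sp1 3 (uSub D) (hSub D) n where
  tu := by
    rintro _ ⟨a, rfl⟩ u hu
    exact h_conj_mem D a hu
  nt := by
    rintro _ ⟨a, rfl⟩
    exact ⟨a⁻¹, by rw [D.n_h, mul_inv_cancel_right]⟩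
  nn := ⟨1, by rw [D.n_n, D.h_one]⟩
  br g := by
    rcases D.bruhat g with ⟨t, u, v, a, rfl⟩ | ⟨t, u, v, a, t', u', v', rfl⟩
    · exact Or.inl ⟨_, ⟨t, u, v, rfl⟩, _, ⟨a, rfl⟩, rfl⟩
    · exact Or.inr ⟨_, ⟨t, u, v, rfl⟩, _, ⟨a, rfl⟩, _, ⟨t', u', v', rfl⟩, rfl⟩
  tr u hu v hv t ht e := by
    obtain ⟨k, rfl⟩ := ht
    refine eq_one_of_conj D hu ?_
    rw [D.n_inv] at e
    rw [e]
    exact ⟨v, hv, k, rfl⟩
  pg := by
    have : Fact (Nat.Prime 3) := ⟨Nat.prime_three⟩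
    apply IsPGroup.of_card (n := (2 * m + 1) * 3)
    rw [card_uSub, hK, ← pow_mul]
  ne := by
    intro e
    have h1 : U 0 1 0 ∈ (⊥ : Subgroup G) := by rw [← e]; exact ⟨0, 1, 0, rfl⟩
    rw [Subgroup.mem_bot, ← D.U_zero] at h1
    exact one_ne_zero (U_injective D h1).2.1
  cop := by
    rw [card_reeT, hK, Nat.coprime_comm, Nat.Prime.coprime_iff_not_dvd Nat.prime_three]
    have h1 : 3 ∣ 3 ^ (2 * m + 1) := dvd_pow_self 3 (by omega)
    have h2 : 0 < 3 ^ (2 * m + 1) := by positivity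
    omega

theorem reeT_comm (D : Data m U h n) : ∀ s ∈ hSub D, ∀ t ∈ hSub D, s * t = t * s := by
  rintro _ ⟨a, rfl⟩ _ ⟨b, rfl⟩
  rw [← D.h_mul, ← D.h_mul, mul_comm]

theorem reeT_inv (D : Data m U h n) : ∀ t ∈ hSub D, n⁻¹ * t⁻¹ * n = t := by
  rintro _ ⟨a, rfl⟩
  rw [D.n_inv, ← D.h_inv, D.n_h, inv_inv, mul_assoc, D.n_n, mul_one]

theorem reeT_pow [Fintype K] (D : Data m U h n) : ∀ t ∈ hSub D, t ^ Fintype.card K = t := by
  rintro _ ⟨a, rfl⟩
  have h1 : ∀ k : ℕ, h a ^ k = h (a ^ k) := by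
    intro k
    induction k with
    | zero => rw [pow_zero, pow_zero, D.h_one]
    | succ k ih => rw [pow_succ, ih, pow_succ, D.h_mul]
  rw [h1]
  congr 1
  apply Units.ext
  rw [Units.val_pow_eq_pow_val, FiniteField.pow_card]

variable {F : Type*} [Field F] [Finite F] {ι : Type} [Fintype ι] [DecidableEq ι] {P : Subgroup (GL ι F)}

/-- **Ree groups in characteristic three.** -/
theorem ree_both [CharP F 3] (hP : ActsAbsolutelyIrreducibly (matrixSet P)) (hperf : ⁅P, P⁆ = P) [Fintype K]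
    (hm : 1 ≤ m) (hK : Fintype.card K = 3 ^ (2 * m + 1))
    (Φ : (P ⧸ (scalars ι F).subgroupOf P) ≃* Cfsg.Lie.twistedG2 K (3 ^ m)) {g : GL ι F} (hg : g ∈ P) :
    (g : Matrix ι ι F).trace ^ Fintype.card K = (g : Matrix ι ι F).trace ∧
      ((g⁻¹ : GL ι F) : Matrix ι ι F).trace = (g : Matrix ι ι F).trace := by
  have : Fact (Nat.Prime 3) := ⟨Nat.prime_three⟩
  obtain ⟨U, h, n, D⟩ := Cfsg.Agent.ChevalleyStructure.Ree.Data.exists_data hK
  have h2 := nonempty_of_noncomm Φ ⟨U 1 0 0, n, fun e => by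
    have h3 : U 0 0 0 * h 1 * n * U 1 0 0 = U 1 0 0 * h 1 * n * U 0 0 0 := by
      rw [D.U_zero, D.h_one, one_mul, one_mul, mul_one, mul_one, e]
    exact one_ne_zero (D.inj₂ _ _ _ _ _ _ _ _ _ _ _ _ _ _ h3).1.symm⟩
  haveI : Nonempty ι := Fintype.card_pos_iff.1 (by omega)
  obtain ⟨φ, hφ, -, -⟩ := exists_cover (p := 3) hperf Φ
    (Cfsg.Agent.ChevalleyStructure.Ree.Perfect.commutator_eq_top hK hm)
    (fun r hr hne => by
      rcases lt_trichotomy r 3 with h | h | h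
      · have h2 : r = 2 := by
          have := hr.two_le
          omega
        subst h2
        exact S2113.noPCov_two hm hK
      · exact absurd h hne
      · have : Fact r.Prime := ⟨hr⟩
        exact NoPCov.of_cyclic_sylow hr fun P => Cfsg.Agent.S1156.result hm hK h P)
    (πG := MonoidHom.id _) Function.surjective_id
    (by rw [(MonoidHom.ker_eq_bot_iff _).2 Function.injective_id]; exact bot_le)
  have hfin : Finite (Cfsg.Lie.twistedG2 K (3 ^ m)) := finite D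
  rw [hK]
  refine (ree_sp1 hK D).both (reeT_comm D) (reeT_inv D) hφ hP (fun t ht => ?_) hg
  rw [← hK]
  exact reeT_pow D t ht

end Ree

end Cfsg.Agent.H905.Md
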