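import Mathlib
import Cfsg.Agent.H905.DCIndex
import Cfsg.Agent.Nodes.TypeD

/-!
# The index of a proper parabolic subgroup, the finite types (helper905, generated)

`index_…` : `N ≤ |W : W_J|` for `J ≠ I`, for the types `B_l` (`l = 3..11`), `D_l` (`l = 4..11`), `E_6, E_7, E_8, F_4, G_2`.
-/

set_option autoImplicit false
set_option linter.style.longLine false

namespace Cfsg.Agent.H905.DC

open CoxeterSystem Cfsg.Agent.ChevalleyStructure.CoxeterGeom Cfsg.Agent.Tits.Roots Cfsg.Agent.Tits.Core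

/-- Cartan matrix -/
def cB3 : Fin 3 → Fin 3 → ℤ := ![![2, -1, 0], ![-1, 2, -2], ![0, -1, 2]]

set_option backward.isDefEq.respectTransparency false in
theorem isCartan_cB3 : IsCartan (CoxeterMatrix.B 3) cB3 := by constructor <;> decide +kernel

theorem index_cB3 {W : Type*} [Group W] [Finite W] (cs : CoxeterSystem (CoxeterMatrix.B 3) W) {J : Set (Fin 3)} (hJ : J ≠ Set.univ) :
    6 ≤ (WJ cs J).index := by
  obtain ⟨i, hi⟩ : ∃ i, i ∉ J := by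
    by_contra hcon
    push Not at hcon
    exact hJ (Set.eq_univ_of_forall hcon)
  fin_cases i
  · exact length_le_index cs isCartan_cB3 hi [[], [0], [0, 1], [0, 1, 2], [0, 1, 2, 1], [0, 1, 2, 1, 0]] (by decide +kernel)
  · exact length_le_index cs isCartan_cB3 hi [[], [1], [1, 0], [1, 2], [1, 0, 2], [1, 2, 1]] (by decide +kernel)
  · exact length_le_index cs isCartan_cB3 hi [[], [2], [2, 1], [2, 1, 0], [2, 1, 2], [2, 1, 0, 2]] (by decide +kernel)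

/-- Cartan matrix -/
def cB4 : Fin 4 → Fin 4 → ℤ := ![![2, -1, 0, 0], ![-1, 2, -1, 0], ![0, -1, 2, -2], ![0, 0, -1, 2]]

set_option backward.isDefEq.respectTransparency false in
theorem isCartan_cB4 : IsCartan (CoxeterMatrix.B 4) cB4 := by constructor <;> decide +kernel

theorem index_cB4 {W : Type*} [Group W] [Finite W] (cs : CoxeterSystem (CoxeterMatrix.B 4) W) {J : Set (Fin 4)} (hJ : J ≠ Set.univ) :
    8 ≤ (WJ cs J).index := by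
  obtain ⟨i, hi⟩ : ∃ i, i ∉ J := by
    by_contra hcon
    push Not at hcon
    exact hJ (Set.eq_univ_of_forall hcon)
  fin_cases i
  · exact length_le_index cs isCartan_cB4 hi [[], [0], [0, 1], [0, 1, 2], [0, 1, 2, 3], [0, 1, 2, 3, 2], [0, 1, 2, 3, 2, 1], [0, 1, 2, 3, 2, 1, 0]] (by decide +kernel)
  · exact length_le_index cs isCartan_cB4 hi [[], [1], [1, 0], [1, 2], [1, 0, 2], [1, 2, 3], [1, 0, 2, 1], [1, 0, 2, 3]] (by decide +kernel)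
  · exact length_le_index cs isCartan_cB4 hi [[], [2], [2, 1], [2, 3], [2, 1, 0], [2, 1, 3], [2, 3, 2], [2, 1, 0, 3]] (by decide +kernel)
  · exact length_le_index cs isCartan_cB4 hi [[], [3], [3, 2], [3, 2, 1], [3, 2, 3], [3, 2, 1, 0], [3, 2, 1, 3], [3, 2, 1, 0, 3]] (by decide +kernel)

/-- Cartan matrix -/
def cB5 : Fin 5 → Fin 5 → ℤ := ![![2, -1, 0, 0, 0], ![-1, 2, -1, 0, 0], ![0, -1, 2, -1, 0], ![0, 0, -1, 2, -2], ![0, 0, 0, -1, 2]]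

set_option backward.isDefEq.respectTransparency false in
theorem isCartan_cB5 : IsCartan (CoxeterMatrix.B 5) cB5 := by constructor <;> decide +kernel

theorem index_cB5 {W : Type*} [Group W] [Finite W] (cs : CoxeterSystem (CoxeterMatrix.B 5) W) {J : Set (Fin 5)} (hJ : J ≠ Set.univ) :
    10 ≤ (WJ cs J).index := by
  obtain ⟨i, hi⟩ : ∃ i, i ∉ J := by
    by_contra hcon
    push Not at hcon
    exact hJ (Set.eq_univ_of_forall hcon)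
  fin_cases i
  · exact length_le_index cs isCartan_cB5 hi [[], [0], [0, 1], [0, 1, 2], [0, 1, 2, 3], [0, 1, 2, 3, 4], [0, 1, 2, 3, 4, 3], [0, 1, 2, 3, 4, 3, 2], [0, 1, 2, 3, 4, 3, 2, 1], [0, 1, 2, 3, 4, 3, 2, 1, 0]] (by decide +kernel)
  · exact length_le_index cs isCartan_cB5 hi [[], [1], [1, 0], [1, 2], [1, 0, 2], [1, 2, 3], [1, 0, 2, 1], [1, 0, 2, 3], [1, 2, 3, 4], [1, 0, 2, 1, 3]] (by decide +kernel)
  · exact length_le_index cs isCartan_cB5 hi [[], [2], [2, 1], [2, 3], [2, 1, 0], [2, 1, 3], [2, 3, 4], [2, 1, 0, 3], [2, 1, 3, 2], [2, 1, 3, 4]] (by decide +kernel)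
  · exact length_le_index cs isCartan_cB5 hi [[], [3], [3, 2], [3, 4], [3, 2, 1], [3, 2, 4], [3, 4, 3], [3, 2, 1, 0], [3, 2, 1, 4], [3, 2, 4, 3]] (by decide +kernel)
  · exact length_le_index cs isCartan_cB5 hi [[], [4], [4, 3], [4, 3, 2], [4, 3, 4], [4, 3, 2, 1], [4, 3, 2, 4], [4, 3, 2, 1, 0], [4, 3, 2, 1, 4], [4, 3, 2, 4, 3]] (by decide +kernel)

/-- Cartan matrix -/
def cB6 : Fin 6 → Fin 6 → ℤ := ![![2, -1, 0, 0, 0, 0], ![-1, 2, -1, 0, 0, 0], ![0, -1, 2, -1, 0, 0], ![0, 0, -1, 2, -1, 0], ![0, 0, 0, -1, 2, -2], ![0, 0, 0, 0, -1, 2]]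

set_option backward.isDefEq.respectTransparency false in
theorem isCartan_cB6 : IsCartan (CoxeterMatrix.B 6) cB6 := by constructor <;> decide +kernel

theorem index_cB6 {W : Type*} [Group W] [Finite W] (cs : CoxeterSystem (CoxeterMatrix.B 6) W) {J : Set (Fin 6)} (hJ : J ≠ Set.univ) :
    12 ≤ (WJ cs J).index := by
  obtain ⟨i, hi⟩ : ∃ i, i ∉ J := by
    by_contra hcon
    push Not at hcon
    exact hJ (Set.eq_univ_of_forall hcon)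
  fin_cases i
  · exact length_le_index cs isCartan_cB6 hi [[], [0], [0, 1], [0, 1, 2], [0, 1, 2, 3], [0, 1, 2, 3, 4], [0, 1, 2, 3, 4, 5], [0, 1, 2, 3, 4, 5, 4], [0, 1, 2, 3, 4, 5, 4, 3], [0, 1, 2, 3, 4, 5, 4, 3, 2], [0, 1, 2, 3, 4, 5, 4, 3, 2, 1], [0, 1, 2, 3, 4, 5, 4, 3, 2, 1, 0]] (by decide +kernel)
  · exact length_le_index cs isCartan_cB6 hi [[], [1], [1, 0], [1, 2], [1, 0, 2], [1, 2, 3], [1, 0, 2, 1], [1, 0, 2, 3], [1, 2, 3, 4], [1, 0, 2, 1, 3], [1, 0, 2, 3, 4], [1, 2, 3, 4, 5]] (by decide +kernel)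
  · exact length_le_index cs isCartan_cB6 hi [[], [2], [2, 1], [2, 3], [2, 1, 0], [2, 1, 3], [2, 3, 4], [2, 1, 0, 3], [2, 1, 3, 2], [2, 1, 3, 4], [2, 3, 4, 5], [2, 1, 0, 3, 2]] (by decide +kernel)
  · exact length_le_index cs isCartan_cB6 hi [[], [3], [3, 2], [3, 4], [3, 2, 1], [3, 2, 4], [3, 4, 5], [3, 2, 1, 0], [3, 2, 1, 4], [3, 2, 4, 3], [3, 2, 4, 5], [3, 4, 5, 4]] (by decide +kernel)
  · exact length_le_index cs isCartan_cB6 hi [[], [4], [4, 3], [4, 5], [4, 3, 2], [4, 3, 5], [4, 5, 4], [4, 3, 2, 1], [4, 3, 2, 5], [4, 3, 5, 4], [4, 5, 4, 3], [4, 3, 2, 1, 0]] (by decide +kernel)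
  · exact length_le_index cs isCartan_cB6 hi [[], [5], [5, 4], [5, 4, 3], [5, 4, 5], [5, 4, 3, 2], [5, 4, 3, 5], [5, 4, 3, 2, 1], [5, 4, 3, 2, 5], [5, 4, 3, 5, 4], [5, 4, 3, 2, 1, 0], [5, 4, 3, 2, 1, 5]] (by decide +kernel)

/-- Cartan matrix -/
def cB7 : Fin 7 → Fin 7 → ℤ := ![![2, -1, 0, 0, 0, 0, 0], ![-1, 2, -1, 0, 0, 0, 0], ![0, -1, 2, -1, 0, 0, 0], ![0, 0, -1, 2, -1, 0, 0], ![0, 0, 0, -1, 2, -1, 0], ![0, 0, 0, 0, -1, 2, -2], ![0, 0, 0, 0, 0, -1, 2]]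

set_option backward.isDefEq.respectTransparency false in
theorem isCartan_cB7 : IsCartan (CoxeterMatrix.B 7) cB7 := by constructor <;> decide +kernel

theorem index_cB7 {W : Type*} [Group W] [Finite W] (cs : CoxeterSystem (CoxeterMatrix.B 7) W) {J : Set (Fin 7)} (hJ : J ≠ Set.univ) :
    13 ≤ (WJ cs J).index := by
  obtain ⟨i, hi⟩ : ∃ i, i ∉ J := by
    by_contra hcon
    push Not at hcon
    exact hJ (Set.eq_univ_of_forall hcon)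
  fin_cases i
  · exact length_le_index cs isCartan_cB7 hi [[], [0], [0, 1], [0, 1, 2], [0, 1, 2, 3], [0, 1, 2, 3, 4], [0, 1, 2, 3, 4, 5], [0, 1, 2, 3, 4, 5, 6], [0, 1, 2, 3, 4, 5, 6, 5], [0, 1, 2, 3, 4, 5, 6, 5, 4], [0, 1, 2, 3, 4, 5, 6, 5, 4, 3], [0, 1, 2, 3, 4, 5, 6, 5, 4, 3, 2], [0, 1, 2, 3, 4, 5, 6, 5, 4, 3, 2, 1]] (by decide +kernel)
  · exact length_le_index cs isCartan_cB7 hi [[], [1], [1, 0], [1, 2], [1, 0, 2], [1, 2, 3], [1, 0, 2, 1], [1, 0, 2, 3], [1, 2, 3, 4], [1, 0, 2, 1, 3], [1, 0, 2, 3, 4], [1, 2, 3, 4, 5], [1, 0, 2, 1, 3, 2]] (by decide +kernel)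
  · exact length_le_index cs isCartan_cB7 hi [[], [2], [2, 1], [2, 3], [2, 1, 0], [2, 1, 3], [2, 3, 4], [2, 1, 0, 3], [2, 1, 3, 2], [2, 1, 3, 4], [2, 3, 4, 5], [2, 1, 0, 3, 2], [2, 1, 0, 3, 4]] (by decide +kernel)
  · exact length_le_index cs isCartan_cB7 hi [[], [3], [3, 2], [3, 4], [3, 2, 1], [3, 2, 4], [3, 4, 5], [3, 2, 1, 0], [3, 2, 1, 4], [3, 2, 4, 3], [3, 2, 4, 5], [3, 4, 5, 6], [3, 2, 1, 0, 4]] (by decide +kernel)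
  · exact length_le_index cs isCartan_cB7 hi [[], [4], [4, 3], [4, 5], [4, 3, 2], [4, 3, 5], [4, 5, 6], [4, 3, 2, 1], [4, 3, 2, 5], [4, 3, 5, 4], [4, 3, 5, 6], [4, 5, 6, 5], [4, 3, 2, 1, 0]] (by decide +kernel)
  · exact length_le_index cs isCartan_cB7 hi [[], [5], [5, 4], [5, 6], [5, 4, 3], [5, 4, 6], [5, 6, 5], [5, 4, 3, 2], [5, 4, 3, 6], [5, 4, 6, 5], [5, 6, 5, 4], [5, 4, 3, 2, 1], [5, 4, 3, 2, 6]] (by decide +kernel)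
  · exact length_le_index cs isCartan_cB7 hi [[], [6], [6, 5], [6, 5, 4], [6, 5, 6], [6, 5, 4, 3], [6, 5, 4, 6], [6, 5, 4, 3, 2], [6, 5, 4, 3, 6], [6, 5, 4, 6, 5], [6, 5, 4, 3, 2, 1], [6, 5, 4, 3, 2, 6], [6, 5, 4, 3, 6, 5]] (by decide +kernel)

/-- Cartan matrix -/
def cB8 : Fin 8 → Fin 8 → ℤ := ![![2, -1, 0, 0, 0, 0, 0, 0], ![-1, 2, -1, 0, 0, 0, 0, 0], ![0, -1, 2, -1, 0, 0, 0, 0], ![0, 0, -1, 2, -1, 0, 0, 0], ![0, 0, 0, -1, 2, -1, 0, 0], ![0, 0, 0, 0, -1, 2, -1, 0], ![0, 0, 0, 0, 0, -1, 2, -2], ![0, 0, 0, 0, 0, 0, -1, 2]]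

set_option backward.isDefEq.respectTransparency false in
theorem isCartan_cB8 : IsCartan (CoxeterMatrix.B 8) cB8 := by constructor <;> decide +kernel

theorem index_cB8 {W : Type*} [Group W] [Finite W] (cs : CoxeterSystem (CoxeterMatrix.B 8) W) {J : Set (Fin 8)} (hJ : J ≠ Set.univ) :
    13 ≤ (WJ cs J).index := by
  obtain ⟨i, hi⟩ : ∃ i, i ∉ J := by
    by_contra hcon
    push Not at hcon
    exact hJ (Set.eq_univ_of_forall hcon)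
  fin_cases i
  · exact length_le_index cs isCartan_cB8 hi [[], [0], [0, 1], [0, 1, 2], [0, 1, 2, 3], [0, 1, 2, 3, 4], [0, 1, 2, 3, 4, 5], [0, 1, 2, 3, 4, 5, 6], [0, 1, 2, 3, 4, 5, 6, 7], [0, 1, 2, 3, 4, 5, 6, 7, 6], [0, 1, 2, 3, 4, 5, 6, 7, 6, 5], [0, 1, 2, 3, 4, 5, 6, 7, 6, 5, 4], [0, 1, 2, 3, 4, 5, 6, 7, 6, 5, 4, 3]] (by decide +kernel)
  · exact length_le_index cs isCartan_cB8 hi [[], [1], [1, 0], [1, 2], [1, 0, 2], [1, 2, 3], [1, 0, 2, 1], [1, 0, 2, 3], [1, 2, 3, 4], [1, 0, 2, 1, 3], [1, 0, 2, 3, 4], [1, 2, 3, 4, 5], [1, 0, 2, 1, 3, 2]] (by decide +kernel)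
  · exact length_le_index cs isCartan_cB8 hi [[], [2], [2, 1], [2, 3], [2, 1, 0], [2, 1, 3], [2, 3, 4], [2, 1, 0, 3], [2, 1, 3, 2], [2, 1, 3, 4], [2, 3, 4, 5], [2, 1, 0, 3, 2], [2, 1, 0, 3, 4]] (by decide +kernel)
  · exact length_le_index cs isCartan_cB8 hi [[], [3], [3, 2], [3, 4], [3, 2, 1], [3, 2, 4], [3, 4, 5], [3, 2, 1, 0], [3, 2, 1, 4], [3, 2, 4, 3], [3, 2, 4, 5], [3, 4, 5, 6], [3, 2, 1, 0, 4]] (by decide +kernel)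
  · exact length_le_index cs isCartan_cB8 hi [[], [4], [4, 3], [4, 5], [4, 3, 2], [4, 3, 5], [4, 5, 6], [4, 3, 2, 1], [4, 3, 2, 5], [4, 3, 5, 4], [4, 3, 5, 6], [4, 5, 6, 7], [4, 3, 2, 1, 0]] (by decide +kernel)
  · exact length_le_index cs isCartan_cB8 hi [[], [5], [5, 4], [5, 6], [5, 4, 3], [5, 4, 6], [5, 6, 7], [5, 4, 3, 2], [5, 4, 3, 6], [5, 4, 6, 5], [5, 4, 6, 7], [5, 6, 7, 6], [5, 4, 3, 2, 1]] (by decide +kernel)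
  · exact length_le_index cs isCartan_cB8 hi [[], [6], [6, 5], [6, 7], [6, 5, 4], [6, 5, 7], [6, 7, 6], [6, 5, 4, 3], [6, 5, 4, 7], [6, 5, 7, 6], [6, 7, 6, 5], [6, 5, 4, 3, 2], [6, 5, 4, 3, 7]] (by decide +kernel)
  · exact length_le_index cs isCartan_cB8 hi [[], [7], [7, 6], [7, 6, 5], [7, 6, 7], [7, 6, 5, 4], [7, 6, 5, 7], [7, 6, 5, 4, 3], [7, 6, 5, 4, 7], [7, 6, 5, 7, 6], [7, 6, 5, 4, 3, 2], [7, 6, 5, 4, 3, 7], [7, 6, 5, 4, 7, 6]] (by decide +kernel)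

/-- Cartan matrix -/
def cB9 : Fin 9 → Fin 9 → ℤ := ![![2, -1, 0, 0, 0, 0, 0, 0, 0], ![-1, 2, -1, 0, 0, 0, 0, 0, 0], ![0, -1, 2, -1, 0, 0, 0, 0, 0], ![0, 0, -1, 2, -1, 0, 0, 0, 0], ![0, 0, 0, -1, 2, -1, 0, 0, 0], ![0, 0, 0, 0, -1, 2, -1, 0, 0], ![0, 0, 0, 0, 0, -1, 2, -1, 0], ![0, 0, 0, 0, 0, 0, -1, 2, -2], ![0, 0, 0, 0, 0, 0, 0, -1, 2]]

set_option backward.isDefEq.respectTransparency false in
theorem isCartan_cB9 : IsCartan (CoxeterMatrix.B 9) cB9 := by constructor <;> decide +kernel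

theorem index_cB9 {W : Type*} [Group W] [Finite W] (cs : CoxeterSystem (CoxeterMatrix.B 9) W) {J : Set (Fin 9)} (hJ : J ≠ Set.univ) :
    13 ≤ (WJ cs J).index := by
  obtain ⟨i, hi⟩ : ∃ i, i ∉ J := by
    by_contra hcon
    push Not at hcon
    exact hJ (Set.eq_univ_of_forall hcon)
  fin_cases i
  · exact length_le_index cs isCartan_cB9 hi [[], [0], [0, 1], [0, 1, 2], [0, 1, 2, 3], [0, 1, 2, 3, 4], [0, 1, 2, 3, 4, 5], [0, 1, 2, 3, 4, 5, 6], [0, 1, 2, 3, 4, 5, 6, 7], [0, 1, 2, 3, 4, 5, 6, 7, 8], [0, 1, 2, 3, 4, 5, 6, 7, 8, 7], [0, 1, 2, 3, 4, 5, 6, 7, 8, 7, 6], [0, 1, 2, 3, 4, 5, 6, 7, 8, 7, 6, 5]] (by decide +kernel)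
  · exact length_le_index cs isCartan_cB9 hi [[], [1], [1, 0], [1, 2], [1, 0, 2], [1, 2, 3], [1, 0, 2, 1], [1, 0, 2, 3], [1, 2, 3, 4], [1, 0, 2, 1, 3], [1, 0, 2, 3, 4], [1, 2, 3, 4, 5], [1, 0, 2, 1, 3, 2]] (by decide +kernel)
  · exact length_le_index cs isCartan_cB9 hi [[], [2], [2, 1], [2, 3], [2, 1, 0], [2, 1, 3], [2, 3, 4], [2, 1, 0, 3], [2, 1, 3, 2], [2, 1, 3, 4], [2, 3, 4, 5], [2, 1, 0, 3, 2], [2, 1, 0, 3, 4]] (by decide +kernel)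
  · exact length_le_index cs isCartan_cB9 hi [[], [3], [3, 2], [3, 4], [3, 2, 1], [3, 2, 4], [3, 4, 5], [3, 2, 1, 0], [3, 2, 1, 4], [3, 2, 4, 3], [3, 2, 4, 5], [3, 4, 5, 6], [3, 2, 1, 0, 4]] (by decide +kernel)
  · exact length_le_index cs isCartan_cB9 hi [[], [4], [4, 3], [4, 5], [4, 3, 2], [4, 3, 5], [4, 5, 6], [4, 3, 2, 1], [4, 3, 2, 5], [4, 3, 5, 4], [4, 3, 5, 6], [4, 5, 6, 7], [4, 3, 2, 1, 0]] (by decide +kernel)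
  · exact length_le_index cs isCartan_cB9 hi [[], [5], [5, 4], [5, 6], [5, 4, 3], [5, 4, 6], [5, 6, 7], [5, 4, 3, 2], [5, 4, 3, 6], [5, 4, 6, 5], [5, 4, 6, 7], [5, 6, 7, 8], [5, 4, 3, 2, 1]] (by decide +kernel)
  · exact length_le_index cs isCartan_cB9 hi [[], [6], [6, 5], [6, 7], [6, 5, 4], [6, 5, 7], [6, 7, 8], [6, 5, 4, 3], [6, 5, 4, 7], [6, 5, 7, 6], [6, 5, 7, 8], [6, 7, 8, 7], [6, 5, 4, 3, 2]] (by decide +kernel)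
  · exact length_le_index cs isCartan_cB9 hi [[], [7], [7, 6], [7, 8], [7, 6, 5], [7, 6, 8], [7, 8, 7], [7, 6, 5, 4], [7, 6, 5, 8], [7, 6, 8, 7], [7, 8, 7, 6], [7, 6, 5, 4, 3], [7, 6, 5, 4, 8]] (by decide +kernel)
  · exact length_le_index cs isCartan_cB9 hi [[], [8], [8, 7], [8, 7, 6], [8, 7, 8], [8, 7, 6, 5], [8, 7, 6, 8], [8, 7, 6, 5, 4], [8, 7, 6, 5, 8], [8, 7, 6, 8, 7], [8, 7, 6, 5, 4, 3], [8, 7, 6, 5, 4, 8], [8, 7, 6, 5, 8, 7]] (by decide +kernel)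

/-- Cartan matrix -/
def cB10 : Fin 10 → Fin 10 → ℤ := ![![2, -1, 0, 0, 0, 0, 0, 0, 0, 0], ![-1, 2, -1, 0, 0, 0, 0, 0, 0, 0], ![0, -1, 2, -1, 0, 0, 0, 0, 0, 0], ![0, 0, -1, 2, -1, 0, 0, 0, 0, 0], ![0, 0, 0, -1, 2, -1, 0, 0, 0, 0], ![0, 0, 0, 0, -1, 2, -1, 0, 0, 0], ![0, 0, 0, 0, 0, -1, 2, -1, 0, 0], ![0, 0, 0, 0, 0, 0, -1, 2, -1, 0], ![0, 0, 0, 0, 0, 0, 0, -1, 2, -2], ![0, 0, 0, 0, 0, 0, 0, 0, -1, 2]]

set_option backward.isDefEq.respectTransparency false in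
theorem isCartan_cB10 : IsCartan (CoxeterMatrix.B 10) cB10 := by constructor <;> decide +kernel

theorem index_cB10 {W : Type*} [Group W] [Finite W] (cs : CoxeterSystem (CoxeterMatrix.B 10) W) {J : Set (Fin 10)} (hJ : J ≠ Set.univ) :
    13 ≤ (WJ cs J).index := by
  obtain ⟨i, hi⟩ : ∃ i, i ∉ J := by
    by_contra hcon
    push Not at hcon
    exact hJ (Set.eq_univ_of_forall hcon)
  fin_cases i
  · exact length_le_index cs isCartan_cB10 hi [[], [0], [0, 1], [0, 1, 2], [0, 1, 2, 3], [0, 1, 2, 3, 4], [0, 1, 2, 3, 4, 5], [0, 1, 2, 3, 4, 5, 6], [0, 1, 2, 3, 4, 5, 6, 7], [0, 1, 2, 3, 4, 5, 6, 7, 8], [0, 1, 2, 3, 4, 5, 6, 7, 8, 9], [0, 1, 2, 3, 4, 5, 6, 7, 8, 9, 8], [0, 1, 2, 3, 4, 5, 6, 7, 8, 9, 8, 7]] (by decide +kernel)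
  · exact length_le_index cs isCartan_cB10 hi [[], [1], [1, 0], [1, 2], [1, 0, 2], [1, 2, 3], [1, 0, 2, 1], [1, 0, 2, 3], [1, 2, 3, 4], [1, 0, 2, 1, 3], [1, 0, 2, 3, 4], [1, 2, 3, 4, 5], [1, 0, 2, 1, 3, 2]] (by decide +kernel)
  · exact length_le_index cs isCartan_cB10 hi [[], [2], [2, 1], [2, 3], [2, 1, 0], [2, 1, 3], [2, 3, 4], [2, 1, 0, 3], [2, 1, 3, 2], [2, 1, 3, 4], [2, 3, 4, 5], [2, 1, 0, 3, 2], [2, 1, 0, 3, 4]] (by decide +kernel)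
  · exact length_le_index cs isCartan_cB10 hi [[], [3], [3, 2], [3, 4], [3, 2, 1], [3, 2, 4], [3, 4, 5], [3, 2, 1, 0], [3, 2, 1, 4], [3, 2, 4, 3], [3, 2, 4, 5], [3, 4, 5, 6], [3, 2, 1, 0, 4]] (by decide +kernel)
  · exact length_le_index cs isCartan_cB10 hi [[], [4], [4, 3], [4, 5], [4, 3, 2], [4, 3, 5], [4, 5, 6], [4, 3, 2, 1], [4, 3, 2, 5], [4, 3, 5, 4], [4, 3, 5, 6], [4, 5, 6, 7], [4, 3, 2, 1, 0]] (by decide +kernel)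
  · exact length_le_index cs isCartan_cB10 hi [[], [5], [5, 4], [5, 6], [5, 4, 3], [5, 4, 6], [5, 6, 7], [5, 4, 3, 2], [5, 4, 3, 6], [5, 4, 6, 5], [5, 4, 6, 7], [5, 6, 7, 8], [5, 4, 3, 2, 1]] (by decide +kernel)
  · exact length_le_index cs isCartan_cB10 hi [[], [6], [6, 5], [6, 7], [6, 5, 4], [6, 5, 7], [6, 7, 8], [6, 5, 4, 3], [6, 5, 4, 7], [6, 5, 7, 6], [6, 5, 7, 8], [6, 7, 8, 9], [6, 5, 4, 3, 2]] (by decide +kernel)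
  · exact length_le_index cs isCartan_cB10 hi [[], [7], [7, 6], [7, 8], [7, 6, 5], [7, 6, 8], [7, 8, 9], [7, 6, 5, 4], [7, 6, 5, 8], [7, 6, 8, 7], [7, 6, 8, 9], [7, 8, 9, 8], [7, 6, 5, 4, 3]] (by decide +kernel)
  · exact length_le_index cs isCartan_cB10 hi [[], [8], [8, 7], [8, 9], [8, 7, 6], [8, 7, 9], [8, 9, 8], [8, 7, 6, 5], [8, 7, 6, 9], [8, 7, 9, 8], [8, 9, 8, 7], [8, 7, 6, 5, 4], [8, 7, 6, 5, 9]] (by decide +kernel)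
  · exact length_le_index cs isCartan_cB10 hi [[], [9], [9, 8], [9, 8, 7], [9, 8, 9], [9, 8, 7, 6], [9, 8, 7, 9], [9, 8, 7, 6, 5], [9, 8, 7, 6, 9], [9, 8, 7, 9, 8], [9, 8, 7, 6, 5, 4], [9, 8, 7, 6, 5, 9], [9, 8, 7, 6, 9, 8]] (by decide +kernel)

/-- Cartan matrix -/
def cB11 : Fin 11 → Fin 11 → ℤ := ![![2, -1, 0, 0, 0, 0, 0, 0, 0, 0, 0], ![-1, 2, -1, 0, 0, 0, 0, 0, 0, 0, 0], ![0, -1, 2, -1, 0, 0, 0, 0, 0, 0, 0], ![0, 0, -1, 2, -1, 0, 0, 0, 0, 0, 0], ![0, 0, 0, -1, 2, -1, 0, 0, 0, 0, 0], ![0, 0, 0, 0, -1, 2, -1, 0, 0, 0, 0], ![0, 0, 0, 0, 0, -1, 2, -1, 0, 0, 0], ![0, 0, 0, 0, 0, 0, -1, 2, -1, 0, 0], ![0, 0, 0, 0, 0, 0, 0, -1, 2, -1, 0], ![0, 0, 0, 0, 0, 0, 0, 0, -1, 2, -2], ![0, 0, 0, 0, 0, 0, 0, 0, 0, -1, 2]]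

set_option backward.isDefEq.respectTransparency false in
theorem isCartan_cB11 : IsCartan (CoxeterMatrix.B 11) cB11 := by constructor <;> decide +kernel

theorem index_cB11 {W : Type*} [Group W] [Finite W] (cs : CoxeterSystem (CoxeterMatrix.B 11) W) {J : Set (Fin 11)} (hJ : J ≠ Set.univ) :
    13 ≤ (WJ cs J).index := by
  obtain ⟨i, hi⟩ : ∃ i, i ∉ J := by
    by_contra hcon
    push Not at hcon
    exact hJ (Set.eq_univ_of_forall hcon)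
  fin_cases i
  · exact length_le_index cs isCartan_cB11 hi [[], [0], [0, 1], [0, 1, 2], [0, 1, 2, 3], [0, 1, 2, 3, 4], [0, 1, 2, 3, 4, 5], [0, 1, 2, 3, 4, 5, 6], [0, 1, 2, 3, 4, 5, 6, 7], [0, 1, 2, 3, 4, 5, 6, 7, 8], [0, 1, 2, 3, 4, 5, 6, 7, 8, 9], [0, 1, 2, 3, 4, 5, 6, 7, 8, 9, 10], [0, 1, 2, 3, 4, 5, 6, 7, 8, 9, 10, 9]] (by decide +kernel)
  · exact length_le_index cs isCartan_cB11 hi [[], [1], [1, 0], [1, 2], [1, 0, 2], [1, 2, 3], [1, 0, 2, 1], [1, 0, 2, 3], [1, 2, 3, 4], [1, 0, 2, 1, 3], [1, 0, 2, 3, 4], [1, 2, 3, 4, 5], [1, 0, 2, 1, 3, 2]] (by decide +kernel)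
  · exact length_le_index cs isCartan_cB11 hi [[], [2], [2, 1], [2, 3], [2, 1, 0], [2, 1, 3], [2, 3, 4], [2, 1, 0, 3], [2, 1, 3, 2], [2, 1, 3, 4], [2, 3, 4, 5], [2, 1, 0, 3, 2], [2, 1, 0, 3, 4]] (by decide +kernel)
  · exact length_le_index cs isCartan_cB11 hi [[], [3], [3, 2], [3, 4], [3, 2, 1], [3, 2, 4], [3, 4, 5], [3, 2, 1, 0], [3, 2, 1, 4], [3, 2, 4, 3], [3, 2, 4, 5], [3, 4, 5, 6], [3, 2, 1, 0, 4]] (by decide +kernel)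
  · exact length_le_index cs isCartan_cB11 hi [[], [4], [4, 3], [4, 5], [4, 3, 2], [4, 3, 5], [4, 5, 6], [4, 3, 2, 1], [4, 3, 2, 5], [4, 3, 5, 4], [4, 3, 5, 6], [4, 5, 6, 7], [4, 3, 2, 1, 0]] (by decide +kernel)
  · exact length_le_index cs isCartan_cB11 hi [[], [5], [5, 4], [5, 6], [5, 4, 3], [5, 4, 6], [5, 6, 7], [5, 4, 3, 2], [5, 4, 3, 6], [5, 4, 6, 5], [5, 4, 6, 7], [5, 6, 7, 8], [5, 4, 3, 2, 1]] (by decide +kernel)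
  · exact length_le_index cs isCartan_cB11 hi [[], [6], [6, 5], [6, 7], [6, 5, 4], [6, 5, 7], [6, 7, 8], [6, 5, 4, 3], [6, 5, 4, 7], [6, 5, 7, 6], [6, 5, 7, 8], [6, 7, 8, 9], [6, 5, 4, 3, 2]] (by decide +kernel)
  · exact length_le_index cs isCartan_cB11 hi [[], [7], [7, 6], [7, 8], [7, 6, 5], [7, 6, 8], [7, 8, 9], [7, 6, 5, 4], [7, 6, 5, 8], [7, 6, 8, 7], [7, 6, 8, 9], [7, 8, 9, 10], [7, 6, 5, 4, 3]] (by decide +kernel)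
  · exact length_le_index cs isCartan_cB11 hi [[], [8], [8, 7], [8, 9], [8, 7, 6], [8, 7, 9], [8, 9, 10], [8, 7, 6, 5], [8, 7, 6, 9], [8, 7, 9, 8], [8, 7, 9, 10], [8, 9, 10, 9], [8, 7, 6, 5, 4]] (by decide +kernel)
  · exact length_le_index cs isCartan_cB11 hi [[], [9], [9, 8], [9, 10], [9, 8, 7], [9, 8, 10], [9, 10, 9], [9, 8, 7, 6], [9, 8, 7, 10], [9, 8, 10, 9], [9, 10, 9, 8], [9, 8, 7, 6, 5], [9, 8, 7, 6, 10]] (by decide +kernel)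
  · exact length_le_index cs isCartan_cB11 hi [[], [10], [10, 9], [10, 9, 8], [10, 9, 10], [10, 9, 8, 7], [10, 9, 8, 10], [10, 9, 8, 7, 6], [10, 9, 8, 7, 10], [10, 9, 8, 10, 9], [10, 9, 8, 7, 6, 5], [10, 9, 8, 7, 6, 10], [10, 9, 8, 7, 10, 9]] (by decide +kernel)

/-- Cartan matrix -/
def cD4 : Fin 4 → Fin 4 → ℤ := ![![2, -1, 0, 0], ![-1, 2, -1, -1], ![0, -1, 2, 0], ![0, -1, 0, 2]]

set_option backward.isDefEq.respectTransparency false in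
theorem isCartan_cD4 : IsCartan (Nodes.TypeD.M 2) cD4 := by constructor <;> decide +kernel

theorem index_cD4 {W : Type*} [Group W] [Finite W] (cs : CoxeterSystem (Nodes.TypeD.M 2) W) {J : Set (Fin 4)} (hJ : J ≠ Set.univ) :
    8 ≤ (WJ cs J).index := by
  obtain ⟨i, hi⟩ : ∃ i, i ∉ J := by
    by_contra hcon
    push Not at hcon
    exact hJ (Set.eq_univ_of_forall hcon)
  fin_cases i
  · exact length_le_index cs isCartan_cD4 hi [[], [0], [0, 1], [0, 1, 2], [0, 1, 3], [0, 1, 2, 3], [0, 1, 2, 3, 1], [0, 1, 2, 3, 1, 0]] (by decide +kernel)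
  · exact length_le_index cs isCartan_cD4 hi [[], [1], [1, 0], [1, 2], [1, 3], [1, 0, 2], [1, 0, 3], [1, 2, 3]] (by decide +kernel)
  · exact length_le_index cs isCartan_cD4 hi [[], [2], [2, 1], [2, 1, 0], [2, 1, 3], [2, 1, 0, 3], [2, 1, 0, 3, 1], [2, 1, 0, 3, 1, 2]] (by decide +kernel)
  · exact length_le_index cs isCartan_cD4 hi [[], [3], [3, 1], [3, 1, 0], [3, 1, 2], [3, 1, 0, 2], [3, 1, 0, 2, 1], [3, 1, 0, 2, 1, 3]] (by decide +kernel)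

/-- Cartan matrix -/
def cD5 : Fin 5 → Fin 5 → ℤ := ![![2, -1, 0, 0, 0], ![-1, 2, -1, 0, 0], ![0, -1, 2, -1, -1], ![0, 0, -1, 2, 0], ![0, 0, -1, 0, 2]]

set_option backward.isDefEq.respectTransparency false in
theorem isCartan_cD5 : IsCartan (Nodes.TypeD.M 3) cD5 := by constructor <;> decide +kernel

theorem index_cD5 {W : Type*} [Group W] [Finite W] (cs : CoxeterSystem (Nodes.TypeD.M 3) W) {J : Set (Fin 5)} (hJ : J ≠ Set.univ) :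
    10 ≤ (WJ cs J).index := by
  obtain ⟨i, hi⟩ : ∃ i, i ∉ J := by
    by_contra hcon
    push Not at hcon
    exact hJ (Set.eq_univ_of_forall hcon)
  fin_cases i
  · exact length_le_index cs isCartan_cD5 hi [[], [0], [0, 1], [0, 1, 2], [0, 1, 2, 3], [0, 1, 2, 4], [0, 1, 2, 3, 4], [0, 1, 2, 3, 4, 2], [0, 1, 2, 3, 4, 2, 1], [0, 1, 2, 3, 4, 2, 1, 0]] (by decide +kernel)
  · exact length_le_index cs isCartan_cD5 hi [[], [1], [1, 0], [1, 2], [1, 0, 2], [1, 2, 3], [1, 2, 4], [1, 0, 2, 1], [1, 0, 2, 3], [1, 0, 2, 4]] (by decide +kernel)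
  · exact length_le_index cs isCartan_cD5 hi [[], [2], [2, 1], [2, 3], [2, 4], [2, 1, 0], [2, 1, 3], [2, 1, 4], [2, 3, 4], [2, 1, 0, 3]] (by decide +kernel)
  · exact length_le_index cs isCartan_cD5 hi [[], [3], [3, 2], [3, 2, 1], [3, 2, 4], [3, 2, 1, 0], [3, 2, 1, 4], [3, 2, 1, 0, 4], [3, 2, 1, 4, 2], [3, 2, 1, 0, 4, 2]] (by decide +kernel)
  · exact length_le_index cs isCartan_cD5 hi [[], [4], [4, 2], [4, 2, 1], [4, 2, 3], [4, 2, 1, 0], [4, 2, 1, 3], [4, 2, 1, 0, 3], [4, 2, 1, 3, 2], [4, 2, 1, 0, 3, 2]] (by decide +kernel)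

/-- Cartan matrix -/
def cD6 : Fin 6 → Fin 6 → ℤ := ![![2, -1, 0, 0, 0, 0], ![-1, 2, -1, 0, 0, 0], ![0, -1, 2, -1, 0, 0], ![0, 0, -1, 2, -1, -1], ![0, 0, 0, -1, 2, 0], ![0, 0, 0, -1, 0, 2]]

set_option backward.isDefEq.respectTransparency false in
theorem isCartan_cD6 : IsCartan (Nodes.TypeD.M 4) cD6 := by constructor <;> decide +kernel

theorem index_cD6 {W : Type*} [Group W] [Finite W] (cs : CoxeterSystem (Nodes.TypeD.M 4) W) {J : Set (Fin 6)} (hJ : J ≠ Set.univ) :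
    12 ≤ (WJ cs J).index := by
  obtain ⟨i, hi⟩ : ∃ i, i ∉ J := by
    by_contra hcon
    push Not at hcon
    exact hJ (Set.eq_univ_of_forall hcon)
  fin_cases i
  · exact length_le_index cs isCartan_cD6 hi [[], [0], [0, 1], [0, 1, 2], [0, 1, 2, 3], [0, 1, 2, 3, 4], [0, 1, 2, 3, 5], [0, 1, 2, 3, 4, 5], [0, 1, 2, 3, 4, 5, 3], [0, 1, 2, 3, 4, 5, 3, 2], [0, 1, 2, 3, 4, 5, 3, 2, 1], [0, 1, 2, 3, 4, 5, 3, 2, 1, 0]] (by decide +kernel)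
  · exact length_le_index cs isCartan_cD6 hi [[], [1], [1, 0], [1, 2], [1, 0, 2], [1, 2, 3], [1, 0, 2, 1], [1, 0, 2, 3], [1, 2, 3, 4], [1, 2, 3, 5], [1, 0, 2, 1, 3], [1, 0, 2, 3, 4]] (by decide +kernel)
  · exact length_le_index cs isCartan_cD6 hi [[], [2], [2, 1], [2, 3], [2, 1, 0], [2, 1, 3], [2, 3, 4], [2, 3, 5], [2, 1, 0, 3], [2, 1, 3, 2], [2, 1, 3, 4], [2, 1, 3, 5]] (by decide +kernel)
  · exact length_le_index cs isCartan_cD6 hi [[], [3], [3, 2], [3, 4], [3, 5], [3, 2, 1], [3, 2, 4], [3, 2, 5], [3, 4, 5], [3, 2, 1, 0], [3, 2, 1, 4], [3, 2, 1, 5]] (by decide +kernel)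
  · exact length_le_index cs isCartan_cD6 hi [[], [4], [4, 3], [4, 3, 2], [4, 3, 5], [4, 3, 2, 1], [4, 3, 2, 5], [4, 3, 2, 1, 0], [4, 3, 2, 1, 5], [4, 3, 2, 5, 3], [4, 3, 2, 1, 0, 5], [4, 3, 2, 1, 5, 3]] (by decide +kernel)
  · exact length_le_index cs isCartan_cD6 hi [[], [5], [5, 3], [5, 3, 2], [5, 3, 4], [5, 3, 2, 1], [5, 3, 2, 4], [5, 3, 2, 1, 0], [5, 3, 2, 1, 4], [5, 3, 2, 4, 3], [5, 3, 2, 1, 0, 4], [5, 3, 2, 1, 4, 3]] (by decide +kernel)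

/-- Cartan matrix -/
def cD7 : Fin 7 → Fin 7 → ℤ := ![![2, -1, 0, 0, 0, 0, 0], ![-1, 2, -1, 0, 0, 0, 0], ![0, -1, 2, -1, 0, 0, 0], ![0, 0, -1, 2, -1, 0, 0], ![0, 0, 0, -1, 2, -1, -1], ![0, 0, 0, 0, -1, 2, 0], ![0, 0, 0, 0, -1, 0, 2]]

set_option backward.isDefEq.respectTransparency false in
theorem isCartan_cD7 : IsCartan (Nodes.TypeD.M 5) cD7 := by constructor <;> decide +kernel

theorem index_cD7 {W : Type*} [Group W] [Finite W] (cs : CoxeterSystem (Nodes.TypeD.M 5) W) {J : Set (Fin 7)} (hJ : J ≠ Set.univ) :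
    13 ≤ (WJ cs J).index := by
  obtain ⟨i, hi⟩ : ∃ i, i ∉ J := by
    by_contra hcon
    push Not at hcon
    exact hJ (Set.eq_univ_of_forall hcon)
  fin_cases i
  · exact length_le_index cs isCartan_cD7 hi [[], [0], [0, 1], [0, 1, 2], [0, 1, 2, 3], [0, 1, 2, 3, 4], [0, 1, 2, 3, 4, 5], [0, 1, 2, 3, 4, 6], [0, 1, 2, 3, 4, 5, 6], [0, 1, 2, 3, 4, 5, 6, 4], [0, 1, 2, 3, 4, 5, 6, 4, 3], [0, 1, 2, 3, 4, 5, 6, 4, 3, 2], [0, 1, 2, 3, 4, 5, 6, 4, 3, 2, 1]] (by decide +kernel)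
  · exact length_le_index cs isCartan_cD7 hi [[], [1], [1, 0], [1, 2], [1, 0, 2], [1, 2, 3], [1, 0, 2, 1], [1, 0, 2, 3], [1, 2, 3, 4], [1, 0, 2, 1, 3], [1, 0, 2, 3, 4], [1, 2, 3, 4, 5], [1, 2, 3, 4, 6]] (by decide +kernel)
  · exact length_le_index cs isCartan_cD7 hi [[], [2], [2, 1], [2, 3], [2, 1, 0], [2, 1, 3], [2, 3, 4], [2, 1, 0, 3], [2, 1, 3, 2], [2, 1, 3, 4], [2, 3, 4, 5], [2, 3, 4, 6], [2, 1, 0, 3, 2]] (by decide +kernel)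
  · exact length_le_index cs isCartan_cD7 hi [[], [3], [3, 2], [3, 4], [3, 2, 1], [3, 2, 4], [3, 4, 5], [3, 4, 6], [3, 2, 1, 0], [3, 2, 1, 4], [3, 2, 4, 3], [3, 2, 4, 5], [3, 2, 4, 6]] (by decide +kernel)
  · exact length_le_index cs isCartan_cD7 hi [[], [4], [4, 3], [4, 5], [4, 6], [4, 3, 2], [4, 3, 5], [4, 3, 6], [4, 5, 6], [4, 3, 2, 1], [4, 3, 2, 5], [4, 3, 2, 6], [4, 3, 5, 4]] (by decide +kernel)
  · exact length_le_index cs isCartan_cD7 hi [[], [5], [5, 4], [5, 4, 3], [5, 4, 6], [5, 4, 3, 2], [5, 4, 3, 6], [5, 4, 3, 2, 1], [5, 4, 3, 2, 6], [5, 4, 3, 6, 4], [5, 4, 3, 2, 1, 0], [5, 4, 3, 2, 1, 6], [5, 4, 3, 2, 6, 4]] (by decide +kernel)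
  · exact length_le_index cs isCartan_cD7 hi [[], [6], [6, 4], [6, 4, 3], [6, 4, 5], [6, 4, 3, 2], [6, 4, 3, 5], [6, 4, 3, 2, 1], [6, 4, 3, 2, 5], [6, 4, 3, 5, 4], [6, 4, 3, 2, 1, 0], [6, 4, 3, 2, 1, 5], [6, 4, 3, 2, 5, 4]] (by decide +kernel)

/-- Cartan matrix -/
def cD8 : Fin 8 → Fin 8 → ℤ := ![![2, -1, 0, 0, 0, 0, 0, 0], ![-1, 2, -1, 0, 0, 0, 0, 0], ![0, -1, 2, -1, 0, 0, 0, 0], ![0, 0, -1, 2, -1, 0, 0, 0], ![0, 0, 0, -1, 2, -1, 0, 0], ![0, 0, 0, 0, -1, 2, -1, -1], ![0, 0, 0, 0, 0, -1, 2, 0], ![0, 0, 0, 0, 0, -1, 0, 2]]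

set_option backward.isDefEq.respectTransparency false in
theorem isCartan_cD8 : IsCartan (Nodes.TypeD.M 6) cD8 := by constructor <;> decide +kernel

theorem index_cD8 {W : Type*} [Group W] [Finite W] (cs : CoxeterSystem (Nodes.TypeD.M 6) W) {J : Set (Fin 8)} (hJ : J ≠ Set.univ) :
    13 ≤ (WJ cs J).index := by
  obtain ⟨i, hi⟩ : ∃ i, i ∉ J := by
    by_contra hcon
    push Not at hcon
    exact hJ (Set.eq_univ_of_forall hcon)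
  fin_cases i
  · exact length_le_index cs isCartan_cD8 hi [[], [0], [0, 1], [0, 1, 2], [0, 1, 2, 3], [0, 1, 2, 3, 4], [0, 1, 2, 3, 4, 5], [0, 1, 2, 3, 4, 5, 6], [0, 1, 2, 3, 4, 5, 7], [0, 1, 2, 3, 4, 5, 6, 7], [0, 1, 2, 3, 4, 5, 6, 7, 5], [0, 1, 2, 3, 4, 5, 6, 7, 5, 4], [0, 1, 2, 3, 4, 5, 6, 7, 5, 4, 3]] (by decide +kernel)
  · exact length_le_index cs isCartan_cD8 hi [[], [1], [1, 0], [1, 2], [1, 0, 2], [1, 2, 3], [1, 0, 2, 1], [1, 0, 2, 3], [1, 2, 3, 4], [1, 0, 2, 1, 3], [1, 0, 2, 3, 4], [1, 2, 3, 4, 5], [1, 0, 2, 1, 3, 2]] (by decide +kernel)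
  · exact length_le_index cs isCartan_cD8 hi [[], [2], [2, 1], [2, 3], [2, 1, 0], [2, 1, 3], [2, 3, 4], [2, 1, 0, 3], [2, 1, 3, 2], [2, 1, 3, 4], [2, 3, 4, 5], [2, 1, 0, 3, 2], [2, 1, 0, 3, 4]] (by decide +kernel)
  · exact length_le_index cs isCartan_cD8 hi [[], [3], [3, 2], [3, 4], [3, 2, 1], [3, 2, 4], [3, 4, 5], [3, 2, 1, 0], [3, 2, 1, 4], [3, 2, 4, 3], [3, 2, 4, 5], [3, 4, 5, 6], [3, 4, 5, 7]] (by decide +kernel)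
  · exact length_le_index cs isCartan_cD8 hi [[], [4], [4, 3], [4, 5], [4, 3, 2], [4, 3, 5], [4, 5, 6], [4, 5, 7], [4, 3, 2, 1], [4, 3, 2, 5], [4, 3, 5, 4], [4, 3, 5, 6], [4, 3, 5, 7]] (by decide +kernel)
  · exact length_le_index cs isCartan_cD8 hi [[], [5], [5, 4], [5, 6], [5, 7], [5, 4, 3], [5, 4, 6], [5, 4, 7], [5, 6, 7], [5, 4, 3, 2], [5, 4, 3, 6], [5, 4, 3, 7], [5, 4, 6, 5]] (by decide +kernel)
  · exact length_le_index cs isCartan_cD8 hi [[], [6], [6, 5], [6, 5, 4], [6, 5, 7], [6, 5, 4, 3], [6, 5, 4, 7], [6, 5, 4, 3, 2], [6, 5, 4, 3, 7], [6, 5, 4, 7, 5], [6, 5, 4, 3, 2, 1], [6, 5, 4, 3, 2, 7], [6, 5, 4, 3, 7, 5]] (by decide +kernel)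
  · exact length_le_index cs isCartan_cD8 hi [[], [7], [7, 5], [7, 5, 4], [7, 5, 6], [7, 5, 4, 3], [7, 5, 4, 6], [7, 5, 4, 3, 2], [7, 5, 4, 3, 6], [7, 5, 4, 6, 5], [7, 5, 4, 3, 2, 1], [7, 5, 4, 3, 2, 6], [7, 5, 4, 3, 6, 5]] (by decide +kernel)

/-- Cartan matrix -/
def cD9 : Fin 9 → Fin 9 → ℤ := ![![2, -1, 0, 0, 0, 0, 0, 0, 0], ![-1, 2, -1, 0, 0, 0, 0, 0, 0], ![0, -1, 2, -1, 0, 0, 0, 0, 0], ![0, 0, -1, 2, -1, 0, 0, 0, 0], ![0, 0, 0, -1, 2, -1, 0, 0, 0], ![0, 0, 0, 0, -1, 2, -1, 0, 0], ![0, 0, 0, 0, 0, -1, 2, -1, -1], ![0, 0, 0, 0, 0, 0, -1, 2, 0], ![0, 0, 0, 0, 0, 0, -1, 0, 2]]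

set_option backward.isDefEq.respectTransparency false in
theorem isCartan_cD9 : IsCartan (Nodes.TypeD.M 7) cD9 := by constructor <;> decide +kernel

theorem index_cD9 {W : Type*} [Group W] [Finite W] (cs : CoxeterSystem (Nodes.TypeD.M 7) W) {J : Set (Fin 9)} (hJ : J ≠ Set.univ) :
    13 ≤ (WJ cs J).index := by
  obtain ⟨i, hi⟩ : ∃ i, i ∉ J := by
    by_contra hcon
    push Not at hcon
    exact hJ (Set.eq_univ_of_forall hcon)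
  fin_cases i
  · exact length_le_index cs isCartan_cD9 hi [[], [0], [0, 1], [0, 1, 2], [0, 1, 2, 3], [0, 1, 2, 3, 4], [0, 1, 2, 3, 4, 5], [0, 1, 2, 3, 4, 5, 6], [0, 1, 2, 3, 4, 5, 6, 7], [0, 1, 2, 3, 4, 5, 6, 8], [0, 1, 2, 3, 4, 5, 6, 7, 8], [0, 1, 2, 3, 4, 5, 6, 7, 8, 6], [0, 1, 2, 3, 4, 5, 6, 7, 8, 6, 5]] (by decide +kernel)
  · exact length_le_index cs isCartan_cD9 hi [[], [1], [1, 0], [1, 2], [1, 0, 2], [1, 2, 3], [1, 0, 2, 1], [1, 0, 2, 3], [1, 2, 3, 4], [1, 0, 2, 1, 3], [1, 0, 2, 3, 4], [1, 2, 3, 4, 5], [1, 0, 2, 1, 3, 2]] (by decide +kernel)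
  · exact length_le_index cs isCartan_cD9 hi [[], [2], [2, 1], [2, 3], [2, 1, 0], [2, 1, 3], [2, 3, 4], [2, 1, 0, 3], [2, 1, 3, 2], [2, 1, 3, 4], [2, 3, 4, 5], [2, 1, 0, 3, 2], [2, 1, 0, 3, 4]] (by decide +kernel)
  · exact length_le_index cs isCartan_cD9 hi [[], [3], [3, 2], [3, 4], [3, 2, 1], [3, 2, 4], [3, 4, 5], [3, 2, 1, 0], [3, 2, 1, 4], [3, 2, 4, 3], [3, 2, 4, 5], [3, 4, 5, 6], [3, 2, 1, 0, 4]] (by decide +kernel)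
  · exact length_le_index cs isCartan_cD9 hi [[], [4], [4, 3], [4, 5], [4, 3, 2], [4, 3, 5], [4, 5, 6], [4, 3, 2, 1], [4, 3, 2, 5], [4, 3, 5, 4], [4, 3, 5, 6], [4, 5, 6, 7], [4, 5, 6, 8]] (by decide +kernel)
  · exact length_le_index cs isCartan_cD9 hi [[], [5], [5, 4], [5, 6], [5, 4, 3], [5, 4, 6], [5, 6, 7], [5, 6, 8], [5, 4, 3, 2], [5, 4, 3, 6], [5, 4, 6, 5], [5, 4, 6, 7], [5, 4, 6, 8]] (by decide +kernel)
  · exact length_le_index cs isCartan_cD9 hi [[], [6], [6, 5], [6, 7], [6, 8], [6, 5, 4], [6, 5, 7], [6, 5, 8], [6, 7, 8], [6, 5, 4, 3], [6, 5, 4, 7], [6, 5, 4, 8], [6, 5, 7, 6]] (by decide +kernel)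
  · exact length_le_index cs isCartan_cD9 hi [[], [7], [7, 6], [7, 6, 5], [7, 6, 8], [7, 6, 5, 4], [7, 6, 5, 8], [7, 6, 5, 4, 3], [7, 6, 5, 4, 8], [7, 6, 5, 8, 6], [7, 6, 5, 4, 3, 2], [7, 6, 5, 4, 3, 8], [7, 6, 5, 4, 8, 6]] (by decide +kernel)
  · exact length_le_index cs isCartan_cD9 hi [[], [8], [8, 6], [8, 6, 5], [8, 6, 7], [8, 6, 5, 4], [8, 6, 5, 7], [8, 6, 5, 4, 3], [8, 6, 5, 4, 7], [8, 6, 5, 7, 6], [8, 6, 5, 4, 3, 2], [8, 6, 5, 4, 3, 7], [8, 6, 5, 4, 7, 6]] (by decide +kernel)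

/-- Cartan matrix -/
def cD10 : Fin 10 → Fin 10 → ℤ := ![![2, -1, 0, 0, 0, 0, 0, 0, 0, 0], ![-1, 2, -1, 0, 0, 0, 0, 0, 0, 0], ![0, -1, 2, -1, 0, 0, 0, 0, 0, 0], ![0, 0, -1, 2, -1, 0, 0, 0, 0, 0], ![0, 0, 0, -1, 2, -1, 0, 0, 0, 0], ![0, 0, 0, 0, -1, 2, -1, 0, 0, 0], ![0, 0, 0, 0, 0, -1, 2, -1, 0, 0], ![0, 0, 0, 0, 0, 0, -1, 2, -1, -1], ![0, 0, 0, 0, 0, 0, 0, -1, 2, 0], ![0, 0, 0, 0, 0, 0, 0, -1, 0, 2]]

set_option backward.isDefEq.respectTransparency false in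
theorem isCartan_cD10 : IsCartan (Nodes.TypeD.M 8) cD10 := by constructor <;> decide +kernel

theorem index_cD10 {W : Type*} [Group W] [Finite W] (cs : CoxeterSystem (Nodes.TypeD.M 8) W) {J : Set (Fin 10)} (hJ : J ≠ Set.univ) :
    13 ≤ (WJ cs J).index := by
  obtain ⟨i, hi⟩ : ∃ i, i ∉ J := by
    by_contra hcon
    push Not at hcon
    exact hJ (Set.eq_univ_of_forall hcon)
  fin_cases i
  · exact length_le_index cs isCartan_cD10 hi [[], [0], [0, 1], [0, 1, 2], [0, 1, 2, 3], [0, 1, 2, 3, 4], [0, 1, 2, 3, 4, 5], [0, 1, 2, 3, 4, 5, 6], [0, 1, 2, 3, 4, 5, 6, 7], [0, 1, 2, 3, 4, 5, 6, 7, 8], [0, 1, 2, 3, 4, 5, 6, 7, 9], [0, 1, 2, 3, 4, 5, 6, 7, 8, 9], [0, 1, 2, 3, 4, 5, 6, 7, 8, 9, 7]] (by decide +kernel)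
  · exact length_le_index cs isCartan_cD10 hi [[], [1], [1, 0], [1, 2], [1, 0, 2], [1, 2, 3], [1, 0, 2, 1], [1, 0, 2, 3], [1, 2, 3, 4], [1, 0, 2, 1, 3], [1, 0, 2, 3, 4], [1, 2, 3, 4, 5], [1, 0, 2, 1, 3, 2]] (by decide +kernel)
  · exact length_le_index cs isCartan_cD10 hi [[], [2], [2, 1], [2, 3], [2, 1, 0], [2, 1, 3], [2, 3, 4], [2, 1, 0, 3], [2, 1, 3, 2], [2, 1, 3, 4], [2, 3, 4, 5], [2, 1, 0, 3, 2], [2, 1, 0, 3, 4]] (by decide +kernel)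
  · exact length_le_index cs isCartan_cD10 hi [[], [3], [3, 2], [3, 4], [3, 2, 1], [3, 2, 4], [3, 4, 5], [3, 2, 1, 0], [3, 2, 1, 4], [3, 2, 4, 3], [3, 2, 4, 5], [3, 4, 5, 6], [3, 2, 1, 0, 4]] (by decide +kernel)
  · exact length_le_index cs isCartan_cD10 hi [[], [4], [4, 3], [4, 5], [4, 3, 2], [4, 3, 5], [4, 5, 6], [4, 3, 2, 1], [4, 3, 2, 5], [4, 3, 5, 4], [4, 3, 5, 6], [4, 5, 6, 7], [4, 3, 2, 1, 0]] (by decide +kernel)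
  · exact length_le_index cs isCartan_cD10 hi [[], [5], [5, 4], [5, 6], [5, 4, 3], [5, 4, 6], [5, 6, 7], [5, 4, 3, 2], [5, 4, 3, 6], [5, 4, 6, 5], [5, 4, 6, 7], [5, 6, 7, 8], [5, 6, 7, 9]] (by decide +kernel)
  · exact length_le_index cs isCartan_cD10 hi [[], [6], [6, 5], [6, 7], [6, 5, 4], [6, 5, 7], [6, 7, 8], [6, 7, 9], [6, 5, 4, 3], [6, 5, 4, 7], [6, 5, 7, 6], [6, 5, 7, 8], [6, 5, 7, 9]] (by decide +kernel)
  · exact length_le_index cs isCartan_cD10 hi [[], [7], [7, 6], [7, 8], [7, 9], [7, 6, 5], [7, 6, 8], [7, 6, 9], [7, 8, 9], [7, 6, 5, 4], [7, 6, 5, 8], [7, 6, 5, 9], [7, 6, 8, 7]] (by decide +kernel)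
  · exact length_le_index cs isCartan_cD10 hi [[], [8], [8, 7], [8, 7, 6], [8, 7, 9], [8, 7, 6, 5], [8, 7, 6, 9], [8, 7, 6, 5, 4], [8, 7, 6, 5, 9], [8, 7, 6, 9, 7], [8, 7, 6, 5, 4, 3], [8, 7, 6, 5, 4, 9], [8, 7, 6, 5, 9, 7]] (by decide +kernel)
  · exact length_le_index cs isCartan_cD10 hi [[], [9], [9, 7], [9, 7, 6], [9, 7, 8], [9, 7, 6, 5], [9, 7, 6, 8], [9, 7, 6, 5, 4], [9, 7, 6, 5, 8], [9, 7, 6, 8, 7], [9, 7, 6, 5, 4, 3], [9, 7, 6, 5, 4, 8], [9, 7, 6, 5, 8, 7]] (by decide +kernel)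

/-- Cartan matrix -/
def cD11 : Fin 11 → Fin 11 → ℤ := ![![2, -1, 0, 0, 0, 0, 0, 0, 0, 0, 0], ![-1, 2, -1, 0, 0, 0, 0, 0, 0, 0, 0], ![0, -1, 2, -1, 0, 0, 0, 0, 0, 0, 0], ![0, 0, -1, 2, -1, 0, 0, 0, 0, 0, 0], ![0, 0, 0, -1, 2, -1, 0, 0, 0, 0, 0], ![0, 0, 0, 0, -1, 2, -1, 0, 0, 0, 0], ![0, 0, 0, 0, 0, -1, 2, -1, 0, 0, 0], ![0, 0, 0, 0, 0, 0, -1, 2, -1, 0, 0], ![0, 0, 0, 0, 0, 0, 0, -1, 2, -1, -1], ![0, 0, 0, 0, 0, 0, 0, 0, -1, 2, 0], ![0, 0, 0, 0, 0, 0, 0, 0, -1, 0, 2]]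

set_option backward.isDefEq.respectTransparency false in
theorem isCartan_cD11 : IsCartan (Nodes.TypeD.M 9) cD11 := by constructor <;> decide +kernel

theorem index_cD11 {W : Type*} [Group W] [Finite W] (cs : CoxeterSystem (Nodes.TypeD.M 9) W) {J : Set (Fin 11)} (hJ : J ≠ Set.univ) :
    13 ≤ (WJ cs J).index := by
  obtain ⟨i, hi⟩ : ∃ i, i ∉ J := by
    by_contra hcon
    push Not at hcon
    exact hJ (Set.eq_univ_of_forall hcon)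
  fin_cases i
  · exact length_le_index cs isCartan_cD11 hi [[], [0], [0, 1], [0, 1, 2], [0, 1, 2, 3], [0, 1, 2, 3, 4], [0, 1, 2, 3, 4, 5], [0, 1, 2, 3, 4, 5, 6], [0, 1, 2, 3, 4, 5, 6, 7], [0, 1, 2, 3, 4, 5, 6, 7, 8], [0, 1, 2, 3, 4, 5, 6, 7, 8, 9], [0, 1, 2, 3, 4, 5, 6, 7, 8, 10], [0, 1, 2, 3, 4, 5, 6, 7, 8, 9, 10]] (by decide +kernel)
  · exact length_le_index cs isCartan_cD11 hi [[], [1], [1, 0], [1, 2], [1, 0, 2], [1, 2, 3], [1, 0, 2, 1], [1, 0, 2, 3], [1, 2, 3, 4], [1, 0, 2, 1, 3], [1, 0, 2, 3, 4], [1, 2, 3, 4, 5], [1, 0, 2, 1, 3, 2]] (by decide +kernel)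
  · exact length_le_index cs isCartan_cD11 hi [[], [2], [2, 1], [2, 3], [2, 1, 0], [2, 1, 3], [2, 3, 4], [2, 1, 0, 3], [2, 1, 3, 2], [2, 1, 3, 4], [2, 3, 4, 5], [2, 1, 0, 3, 2], [2, 1, 0, 3, 4]] (by decide +kernel)
  · exact length_le_index cs isCartan_cD11 hi [[], [3], [3, 2], [3, 4], [3, 2, 1], [3, 2, 4], [3, 4, 5], [3, 2, 1, 0], [3, 2, 1, 4], [3, 2, 4, 3], [3, 2, 4, 5], [3, 4, 5, 6], [3, 2, 1, 0, 4]] (by decide +kernel)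
  · exact length_le_index cs isCartan_cD11 hi [[], [4], [4, 3], [4, 5], [4, 3, 2], [4, 3, 5], [4, 5, 6], [4, 3, 2, 1], [4, 3, 2, 5], [4, 3, 5, 4], [4, 3, 5, 6], [4, 5, 6, 7], [4, 3, 2, 1, 0]] (by decide +kernel)
  · exact length_le_index cs isCartan_cD11 hi [[], [5], [5, 4], [5, 6], [5, 4, 3], [5, 4, 6], [5, 6, 7], [5, 4, 3, 2], [5, 4, 3, 6], [5, 4, 6, 5], [5, 4, 6, 7], [5, 6, 7, 8], [5, 4, 3, 2, 1]] (by decide +kernel)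
  · exact length_le_index cs isCartan_cD11 hi [[], [6], [6, 5], [6, 7], [6, 5, 4], [6, 5, 7], [6, 7, 8], [6, 5, 4, 3], [6, 5, 4, 7], [6, 5, 7, 6], [6, 5, 7, 8], [6, 7, 8, 9], [6, 7, 8, 10]] (by decide +kernel)
  · exact length_le_index cs isCartan_cD11 hi [[], [7], [7, 6], [7, 8], [7, 6, 5], [7, 6, 8], [7, 8, 9], [7, 8, 10], [7, 6, 5, 4], [7, 6, 5, 8], [7, 6, 8, 7], [7, 6, 8, 9], [7, 6, 8, 10]] (by decide +kernel)
  · exact length_le_index cs isCartan_cD11 hi [[], [8], [8, 7], [8, 9], [8, 10], [8, 7, 6], [8, 7, 9], [8, 7, 10], [8, 9, 10], [8, 7, 6, 5], [8, 7, 6, 9], [8, 7, 6, 10], [8, 7, 9, 8]] (by decide +kernel)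
  · exact length_le_index cs isCartan_cD11 hi [[], [9], [9, 8], [9, 8, 7], [9, 8, 10], [9, 8, 7, 6], [9, 8, 7, 10], [9, 8, 7, 6, 5], [9, 8, 7, 6, 10], [9, 8, 7, 10, 8], [9, 8, 7, 6, 5, 4], [9, 8, 7, 6, 5, 10], [9, 8, 7, 6, 10, 8]] (by decide +kernel)
  · exact length_le_index cs isCartan_cD11 hi [[], [10], [10, 8], [10, 8, 7], [10, 8, 9], [10, 8, 7, 6], [10, 8, 7, 9], [10, 8, 7, 6, 5], [10, 8, 7, 6, 9], [10, 8, 7, 9, 8], [10, 8, 7, 6, 5, 4], [10, 8, 7, 6, 5, 9], [10, 8, 7, 6, 9, 8]] (by decide +kernel)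

/-- Cartan matrix -/
def cE6 : Fin 6 → Fin 6 → ℤ := ![![2, 0, -1, 0, 0, 0], ![0, 2, 0, -1, 0, 0], ![-1, 0, 2, -1, 0, 0], ![0, -1, -1, 2, -1, 0], ![0, 0, 0, -1, 2, -1], ![0, 0, 0, 0, -1, 2]]

set_option backward.isDefEq.respectTransparency false in
theorem isCartan_cE6 : IsCartan CoxeterMatrix.E₆ cE6 := by constructor <;> decide +kernel

theorem index_cE6 {W : Type*} [Group W] [Finite W] (cs : CoxeterSystem CoxeterMatrix.E₆ W) {J : Set (Fin 6)} (hJ : J ≠ Set.univ) :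
    13 ≤ (WJ cs J).index := by
  obtain ⟨i, hi⟩ : ∃ i, i ∉ J := by
    by_contra hcon
    push Not at hcon
    exact hJ (Set.eq_univ_of_forall hcon)
  fin_cases i
  · exact length_le_index cs isCartan_cE6 hi [[], [0], [0, 2], [0, 2, 3], [0, 2, 3, 1], [0, 2, 3, 4], [0, 2, 3, 1, 4], [0, 2, 3, 4, 5], [0, 2, 3, 1, 4, 3], [0, 2, 3, 1, 4, 5], [0, 2, 3, 1, 4, 3, 2], [0, 2, 3, 1, 4, 3, 5], [0, 2, 3, 1, 4, 3, 2, 0]] (by decide +kernel)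
  · exact length_le_index cs isCartan_cE6 hi [[], [1], [1, 3], [1, 3, 2], [1, 3, 4], [1, 3, 2, 0], [1, 3, 2, 4], [1, 3, 4, 5], [1, 3, 2, 0, 4], [1, 3, 2, 4, 3], [1, 3, 2, 4, 5], [1, 3, 2, 0, 4, 3], [1, 3, 2, 0, 4, 5]] (by decide +kernel)
  · exact length_le_index cs isCartan_cE6 hi [[], [2], [2, 0], [2, 3], [2, 0, 3], [2, 3, 1], [2, 3, 4], [2, 0, 3, 1], [2, 0, 3, 2], [2, 0, 3, 4], [2, 3, 1, 4], [2, 3, 4, 5], [2, 0, 3, 1, 2]] (by decide +kernel)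
  · exact length_le_index cs isCartan_cE6 hi [[], [3], [3, 1], [3, 2], [3, 4], [3, 1, 2], [3, 1, 4], [3, 2, 0], [3, 2, 4], [3, 4, 5], [3, 1, 2, 0], [3, 1, 2, 3], [3, 1, 2, 4]] (by decide +kernel)
  · exact length_le_index cs isCartan_cE6 hi [[], [4], [4, 3], [4, 5], [4, 3, 1], [4, 3, 2], [4, 3, 5], [4, 3, 1, 2], [4, 3, 1, 5], [4, 3, 2, 0], [4, 3, 2, 5], [4, 3, 5, 4], [4, 3, 1, 2, 0]] (by decide +kernel)
  · exact length_le_index cs isCartan_cE6 hi [[], [5], [5, 4], [5, 4, 3], [5, 4, 3, 1], [5, 4, 3, 2], [5, 4, 3, 1, 2], [5, 4, 3, 2, 0], [5, 4, 3, 1, 2, 0], [5, 4, 3, 1, 2, 3], [5, 4, 3, 1, 2, 0, 3], [5, 4, 3, 1, 2, 3, 4], [5, 4, 3, 1, 2, 0, 3, 2]] (by decide +kernel)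

/-- Cartan matrix -/
def cE7 : Fin 7 → Fin 7 → ℤ := ![![2, 0, -1, 0, 0, 0, 0], ![0, 2, 0, -1, 0, 0, 0], ![-1, 0, 2, -1, 0, 0, 0], ![0, -1, -1, 2, -1, 0, 0], ![0, 0, 0, -1, 2, -1, 0], ![0, 0, 0, 0, -1, 2, -1], ![0, 0, 0, 0, 0, -1, 2]]

set_option backward.isDefEq.respectTransparency false in
theorem isCartan_cE7 : IsCartan CoxeterMatrix.E₇ cE7 := by constructor <;> decide +kernel

theorem index_cE7 {W : Type*} [Group W] [Finite W] (cs : CoxeterSystem CoxeterMatrix.E₇ W) {J : Set (Fin 7)} (hJ : J ≠ Set.univ) :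
    13 ≤ (WJ cs J).index := by
  obtain ⟨i, hi⟩ : ∃ i, i ∉ J := by
    by_contra hcon
    push Not at hcon
    exact hJ (Set.eq_univ_of_forall hcon)
  fin_cases i
  · exact length_le_index cs isCartan_cE7 hi [[], [0], [0, 2], [0, 2, 3], [0, 2, 3, 1], [0, 2, 3, 4], [0, 2, 3, 1, 4], [0, 2, 3, 4, 5], [0, 2, 3, 1, 4, 3], [0, 2, 3, 1, 4, 5], [0, 2, 3, 4, 5, 6], [0, 2, 3, 1, 4, 3, 2], [0, 2, 3, 1, 4, 3, 5]] (by decide +kernel)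
  · exact length_le_index cs isCartan_cE7 hi [[], [1], [1, 3], [1, 3, 2], [1, 3, 4], [1, 3, 2, 0], [1, 3, 2, 4], [1, 3, 4, 5], [1, 3, 2, 0, 4], [1, 3, 2, 4, 3], [1, 3, 2, 4, 5], [1, 3, 4, 5, 6], [1, 3, 2, 0, 4, 3]] (by decide +kernel)
  · exact length_le_index cs isCartan_cE7 hi [[], [2], [2, 0], [2, 3], [2, 0, 3], [2, 3, 1], [2, 3, 4], [2, 0, 3, 1], [2, 0, 3, 2], [2, 0, 3, 4], [2, 3, 1, 4], [2, 3, 4, 5], [2, 0, 3, 1, 2]] (by decide +kernel)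
  · exact length_le_index cs isCartan_cE7 hi [[], [3], [3, 1], [3, 2], [3, 4], [3, 1, 2], [3, 1, 4], [3, 2, 0], [3, 2, 4], [3, 4, 5], [3, 1, 2, 0], [3, 1, 2, 3], [3, 1, 2, 4]] (by decide +kernel)
  · exact length_le_index cs isCartan_cE7 hi [[], [4], [4, 3], [4, 5], [4, 3, 1], [4, 3, 2], [4, 3, 5], [4, 5, 6], [4, 3, 1, 2], [4, 3, 1, 5], [4, 3, 2, 0], [4, 3, 2, 5], [4, 3, 5, 4]] (by decide +kernel)
  · exact length_le_index cs isCartan_cE7 hi [[], [5], [5, 4], [5, 6], [5, 4, 3], [5, 4, 6], [5, 4, 3, 1], [5, 4, 3, 2], [5, 4, 3, 6], [5, 4, 6, 5], [5, 4, 3, 1, 2], [5, 4, 3, 1, 6], [5, 4, 3, 2, 0]] (by decide +kernel)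
  · exact length_le_index cs isCartan_cE7 hi [[], [6], [6, 5], [6, 5, 4], [6, 5, 4, 3], [6, 5, 4, 3, 1], [6, 5, 4, 3, 2], [6, 5, 4, 3, 1, 2], [6, 5, 4, 3, 2, 0], [6, 5, 4, 3, 1, 2, 0], [6, 5, 4, 3, 1, 2, 3], [6, 5, 4, 3, 1, 2, 0, 3], [6, 5, 4, 3, 1, 2, 3, 4]] (by decide +kernel)

/-- Cartan matrix -/
def cE8 : Fin 8 → Fin 8 → ℤ := ![![2, 0, -1, 0, 0, 0, 0, 0], ![0, 2, 0, -1, 0, 0, 0, 0], ![-1, 0, 2, -1, 0, 0, 0, 0], ![0, -1, -1, 2, -1, 0, 0, 0], ![0, 0, 0, -1, 2, -1, 0, 0], ![0, 0, 0, 0, -1, 2, -1, 0], ![0, 0, 0, 0, 0, -1, 2, -1], ![0, 0, 0, 0, 0, 0, -1, 2]]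

set_option backward.isDefEq.respectTransparency false in
theorem isCartan_cE8 : IsCartan CoxeterMatrix.E₈ cE8 := by constructor <;> decide +kernel

theorem index_cE8 {W : Type*} [Group W] [Finite W] (cs : CoxeterSystem CoxeterMatrix.E₈ W) {J : Set (Fin 8)} (hJ : J ≠ Set.univ) :
    13 ≤ (WJ cs J).index := by
  obtain ⟨i, hi⟩ : ∃ i, i ∉ J := by
    by_contra hcon
    push Not at hcon
    exact hJ (Set.eq_univ_of_forall hcon)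
  fin_cases i
  · exact length_le_index cs isCartan_cE8 hi [[], [0], [0, 2], [0, 2, 3], [0, 2, 3, 1], [0, 2, 3, 4], [0, 2, 3, 1, 4], [0, 2, 3, 4, 5], [0, 2, 3, 1, 4, 3], [0, 2, 3, 1, 4, 5], [0, 2, 3, 4, 5, 6], [0, 2, 3, 1, 4, 3, 2], [0, 2, 3, 1, 4, 3, 5]] (by decide +kernel)
  · exact length_le_index cs isCartan_cE8 hi [[], [1], [1, 3], [1, 3, 2], [1, 3, 4], [1, 3, 2, 0], [1, 3, 2, 4], [1, 3, 4, 5], [1, 3, 2, 0, 4], [1, 3, 2, 4, 3], [1, 3, 2, 4, 5], [1, 3, 4, 5, 6], [1, 3, 2, 0, 4, 3]] (by decide +kernel)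
  · exact length_le_index cs isCartan_cE8 hi [[], [2], [2, 0], [2, 3], [2, 0, 3], [2, 3, 1], [2, 3, 4], [2, 0, 3, 1], [2, 0, 3, 2], [2, 0, 3, 4], [2, 3, 1, 4], [2, 3, 4, 5], [2, 0, 3, 1, 2]] (by decide +kernel)
  · exact length_le_index cs isCartan_cE8 hi [[], [3], [3, 1], [3, 2], [3, 4], [3, 1, 2], [3, 1, 4], [3, 2, 0], [3, 2, 4], [3, 4, 5], [3, 1, 2, 0], [3, 1, 2, 3], [3, 1, 2, 4]] (by decide +kernel)
  · exact length_le_index cs isCartan_cE8 hi [[], [4], [4, 3], [4, 5], [4, 3, 1], [4, 3, 2], [4, 3, 5], [4, 5, 6], [4, 3, 1, 2], [4, 3, 1, 5], [4, 3, 2, 0], [4, 3, 2, 5], [4, 3, 5, 4]] (by decide +kernel)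
  · exact length_le_index cs isCartan_cE8 hi [[], [5], [5, 4], [5, 6], [5, 4, 3], [5, 4, 6], [5, 6, 7], [5, 4, 3, 1], [5, 4, 3, 2], [5, 4, 3, 6], [5, 4, 6, 5], [5, 4, 6, 7], [5, 4, 3, 1, 2]] (by decide +kernel)
  · exact length_le_index cs isCartan_cE8 hi [[], [6], [6, 5], [6, 7], [6, 5, 4], [6, 5, 7], [6, 5, 4, 3], [6, 5, 4, 7], [6, 5, 7, 6], [6, 5, 4, 3, 1], [6, 5, 4, 3, 2], [6, 5, 4, 3, 7], [6, 5, 4, 7, 6]] (by decide +kernel)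
  · exact length_le_index cs isCartan_cE8 hi [[], [7], [7, 6], [7, 6, 5], [7, 6, 5, 4], [7, 6, 5, 4, 3], [7, 6, 5, 4, 3, 1], [7, 6, 5, 4, 3, 2], [7, 6, 5, 4, 3, 1, 2], [7, 6, 5, 4, 3, 2, 0], [7, 6, 5, 4, 3, 1, 2, 0], [7, 6, 5, 4, 3, 1, 2, 3], [7, 6, 5, 4, 3, 1, 2, 0, 3]] (by decide +kernel)

/-- Cartan matrix -/
def cF4 : Fin 4 → Fin 4 → ℤ := ![![2, -1, 0, 0], ![-1, 2, -2, 0], ![0, -1, 2, -1], ![0, 0, -1, 2]]

set_option backward.isDefEq.respectTransparency false in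
theorem isCartan_cF4 : IsCartan CoxeterMatrix.F₄ cF4 := by constructor <;> decide +kernel

theorem index_cF4 {W : Type*} [Group W] [Finite W] (cs : CoxeterSystem CoxeterMatrix.F₄ W) {J : Set (Fin 4)} (hJ : J ≠ Set.univ) :
    13 ≤ (WJ cs J).index := by
  obtain ⟨i, hi⟩ : ∃ i, i ∉ J := by
    by_contra hcon
    push Not at hcon
    exact hJ (Set.eq_univ_of_forall hcon)
  fin_cases i
  · exact length_le_index cs isCartan_cF4 hi [[], [0], [0, 1], [0, 1, 2], [0, 1, 2, 1], [0, 1, 2, 3], [0, 1, 2, 1, 0], [0, 1, 2, 1, 3], [0, 1, 2, 1, 0, 3], [0, 1, 2, 1, 3, 2], [0, 1, 2, 1, 0, 3, 2], [0, 1, 2, 1, 3, 2, 1], [0, 1, 2, 1, 0, 3, 2, 1]] (by decide +kernel)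
  · exact length_le_index cs isCartan_cF4 hi [[], [1], [1, 0], [1, 2], [1, 0, 2], [1, 2, 1], [1, 2, 3], [1, 0, 2, 1], [1, 0, 2, 3], [1, 2, 1, 0], [1, 2, 1, 3], [1, 0, 2, 1, 0], [1, 0, 2, 1, 2]] (by decide +kernel)
  · exact length_le_index cs isCartan_cF4 hi [[], [2], [2, 1], [2, 3], [2, 1, 0], [2, 1, 2], [2, 1, 3], [2, 1, 0, 2], [2, 1, 0, 3], [2, 1, 2, 3], [2, 1, 3, 2], [2, 1, 0, 2, 1], [2, 1, 0, 2, 3]] (by decide +kernel)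
  · exact length_le_index cs isCartan_cF4 hi [[], [3], [3, 2], [3, 2, 1], [3, 2, 1, 0], [3, 2, 1, 2], [3, 2, 1, 0, 2], [3, 2, 1, 2, 3], [3, 2, 1, 0, 2, 1], [3, 2, 1, 0, 2, 3], [3, 2, 1, 0, 2, 1, 2], [3, 2, 1, 0, 2, 1, 3], [3, 2, 1, 0, 2, 1, 2, 3]] (by decide +kernel)

/-- Cartan matrix -/
def cG2 : Fin 2 → Fin 2 → ℤ := ![![2, -1], ![-3, 2]]

set_option backward.isDefEq.respectTransparency false in
theorem isCartan_cG2 : IsCartan CoxeterMatrix.G₂ cG2 := by constructor <;> decide +kernel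

theorem index_cG2 {W : Type*} [Group W] [Finite W] (cs : CoxeterSystem CoxeterMatrix.G₂ W) {J : Set (Fin 2)} (hJ : J ≠ Set.univ) :
    6 ≤ (WJ cs J).index := by
  obtain ⟨i, hi⟩ : ∃ i, i ∉ J := by
    by_contra hcon
    push Not at hcon
    exact hJ (Set.eq_univ_of_forall hcon)
  fin_cases i
  · exact length_le_index cs isCartan_cG2 hi [[], [0], [0, 1], [0, 1, 0], [0, 1, 0, 1], [0, 1, 0, 1, 0]] (by decide +kernel)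
  · exact length_le_index cs isCartan_cG2 hi [[], [1], [1, 0], [1, 0, 1], [1, 0, 1, 0], [1, 0, 1, 0, 1]] (by decide +kernel)

end Cfsg.Agent.H905.DC
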