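import Cfsg.Agent.H905.MdH
import Cfsg.Agent.H905.DCMain
import Cfsg.Agent.H485.TypList
import Cfsg.Agent.H410.TwFFourAS
import Cfsg.Agent.KFacts.RgdLieCharP

/-!
# The dimensions of modules of groups of Lie type in the defining characteristic: the list (helper905)

`P ≤ GL(ι, F)` irreducible, `T = P/scalars` simple of Lie type in characteristic `p = char F`.

* `exists_index` : `|W : W_J| ≤ |ι|` for a proper `J` if `T` has a split (B,N)-pair of type `M`;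
* `exists_index_rgdt`, `le_card_B`, `le_card_D`, `le_card_E6`, ..., `le_card_2F4` : bounds for the types;
* **`small_dc`** : `IsLieTypeChar p (P/scalars)` and `|ι| ≤ 12` imply `SmallDC p |ι| (P/scalars)` (the list).
-/

set_option autoImplicit false
set_option linter.unusedSectionVars false
set_option linter.style.haveILetI false

namespace Cfsg.Agent.H905.Md

open Cfsg.Agent.Tits.Core Cfsg.Agent.Tits.Core.Bldg Cfsg.Agent.Tits.Exchange Cfsg.Agent.Tits
open Cfsg.Agent.FixBN Cfsg.Agent.FixBN.Cox Cfsg.Agent.Omega.CR Cfsg.Agent.Omega.CR.Bl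
open Cfsg.Agent.Nodes.RGDLift Cfsg.Agent.Omega.ML.Ex.Typ Cfsg.Agent.Omega.ML.LieRow Cfsg.Agent.H905.DC
open Cfsg.Agent.Nodes.BNOf Cfsg.Agent.Nodes.Reps Cfsg.Agent.Tits.Roots Cfsg.Agent.ChevalleyStructure.CoxeterGeom
open Cfsg Cfsg.Geo
open scoped MatrixGroups

universe u v

/-- the natural representation -/
def natP {F : Type*} [Field F] {ι : Type} [Fintype ι] [DecidableEq ι] (P : Subgroup (GL ι F)) :
    P →* Module.End F (ι → F) :=
  (Matrix.toLinAlgEquiv' (R := F) (n := ι)).toAlgHom.toMonoidHom.comp ((Units.coeHom _).comp P.subtype)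

theorem natP_apply {F : Type*} [Field F] {ι : Type} [Fintype ι] [DecidableEq ι] (P : Subgroup (GL ι F)) (g : P)
    (v : ι → F) : natP P g v = Matrix.mulVec ((g : GL ι F) : Matrix ι ι F) v := rfl

theorem natP_injective {F : Type*} [Field F] {ι : Type} [Fintype ι] [DecidableEq ι] (P : Subgroup (GL ι F)) :
    Function.Injective (natP P) := by
  intro a b h
  apply Subtype.ext
  apply Units.ext
  exact (Matrix.toLinAlgEquiv' (R := F) (n := ι)).injective h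

theorem natP_irr {F : Type*} [Field F] {ι : Type} [Fintype ι] [DecidableEq ι] {P : Subgroup (GL ι F)}
    (hP : ActsIrreducibly (matrixSet P)) (L : Submodule F (ι → F)) (hL : Ivt (natP P) ⊤ L) : L = ⊥ ∨ L = ⊤ := by
  refine hP L ?_
  rintro _ ⟨g, hg, rfl⟩ _ ⟨v, hv, rfl⟩
  rw [Matrix.toLin'_apply]
  exact hL ⟨g, hg⟩ (Subgroup.mem_top _) v hv

section

variable {F : Type u} [Field F] [Finite F] {ι : Type} [Fintype ι] [DecidableEq ι] {P : Subgroup (GL ι F)}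
  {p : ℕ} [hp : Fact p.Prime] [CharP F p]

theorem exists_index (hP : ActsIrreducibly (matrixSet P)) {I : Type*} [Finite I] [Nonempty I] {M : CoxeterMatrix I}
    (h : HasSplitT p M (P ⧸ (scalars ι F).subgroupOf P)) (hd : p ∣ Nat.card (P ⧸ (scalars ι F).subgroupOf P)) :
    ∃ J : Set I, J ≠ Set.univ ∧ ∀ {W' : Type v} [Group W'] (cs' : CoxeterSystem M W'),
      (WJ cs' J).index ≤ Fintype.card ι := by
  have h1 := (hasSysT_of_splitT hp.out h).lift (QuotientGroup.mk' ((scalars ι F).subgroupOf P))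
    (by rw [QuotientGroup.ker_mk']; exact subgroupOf_scalars_le P)
    (by rw [QuotientGroup.ker_mk']; exact card_scalars_coprime P) (QuotientGroup.mk'_surjective _)
  have hd2 : p ∣ Nat.card P := hd.trans (Subgroup.card_quotient_dvd_card _)
  obtain ⟨y, hy⟩ := exists_prime_orderOf_dvd_card' p hd2
  obtain ⟨J, hJ, h2⟩ := exists_index_le.{u, v} h1 (natP P) (natP_irr hP) ⟨y, 1, by
    rw [pow_one, ← hy]; exact pow_orderOf_eq_one y, fun e => by
      have h3 : y = 1 := natP_injective P (e.trans (map_one _).symm)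
      rw [h3, orderOf_one] at hy
      exact hp.out.one_lt.ne hy⟩
  refine ⟨J, hJ, fun cs' => ?_⟩
  rw [← Module.finrank_fintype_fun_eq_card F (η := ι)]
  exact h2 cs'

omit [Field F] [Finite F] [Fintype ι] [DecidableEq ι] [CharP F p] in
theorem dvd_card_of_rgdt {l : ℕ} (hl : 0 < l) {M : CoxeterMatrix (Fin l)} {G : Type*} [Group G] [Finite G]
    (h : HasRGDT p M G) : p ∣ Nat.card G := by
  obtain ⟨A, hA, T, n, X, hW, R, hX⟩ := h
  by_contra hcon
  have hcop : (Nat.card G).Coprime p := by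
    rw [Nat.coprime_comm, Nat.Prime.coprime_iff_not_dvd hp.out]
    exact hcon
  have key : X (sr ⟨0, hl⟩) = ⊥ := by
    rw [Subgroup.eq_bot_iff_forall]
    intro x hx
    obtain ⟨k, hk⟩ := R.pgrp ⟨0, hl⟩ ⟨x, hx⟩
    have hk' : x ^ p ^ k = 1 := congrArg Subtype.val hk
    exact orderOf_eq_one_iff.1 (Nat.eq_one_of_dvd_coprimes (hcop.pow_right k) (orderOf_dvd_natCard x)
      (orderOf_dvd_of_pow_eq_one hk'))
  apply R.notp ⟨0, hl⟩
  have h1 := R.conj ⟨0, hl⟩ _ (isRoot_sr M.toCoxeterSystem hA ⟨0, hl⟩)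
  rw [rep_simple_sr, key] at h1
  rw [← h1, key]
  unfold cj
  rw [Subgroup.map_bot, sup_bot_eq]
  exact IsPGroup.of_bot

/-! ### the types -/

omit hp in
theorem center_soc [IsSimpleGroup (P ⧸ (scalars ι F).subgroupOf P)] (hperf : ⁅P, P⁆ = P) :
    Subgroup.center (P ⧸ (scalars ι F).subgroupOf P) = ⊥ := by
  rcases (inferInstance : IsSimpleGroup (P ⧸ (scalars ι F).subgroupOf P)).eq_bot_or_eq_top_of_normal
    (Subgroup.center (P ⧸ (scalars ι F).subgroupOf P)) inferInstance with h | h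
  · exact h
  · exfalso
    have h1 : commutator (P ⧸ (scalars ι F).subgroupOf P) = ⊤ := by
      have h2 := commutator_eq_top_of_perfect hperf
      have h3 : (commutator P).map (QuotientGroup.mk' ((scalars ι F).subgroupOf P)) =
          commutator (P ⧸ (scalars ι F).subgroupOf P) := by
        rw [commutator_def, commutator_def, Subgroup.map_commutator, ← MonoidHom.range_eq_map,
          MonoidHom.range_eq_top.2 (QuotientGroup.mk'_surjective _)]
      rw [← h3, h2, ← MonoidHom.range_eq_map, MonoidHom.range_eq_top.2 (QuotientGroup.mk'_surjective _)]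
    have h2 : commutator (P ⧸ (scalars ι F).subgroupOf P) = ⊥ := by
      rw [commutator_def, eq_bot_iff, Subgroup.commutator_le]
      intro a _ b _
      rw [Subgroup.mem_bot, commutatorElement_eq_one_iff_mul_comm]
      have h7 : b ∈ Subgroup.center (P ⧸ (scalars ι F).subgroupOf P) := by rw [h]; trivial
      exact Subgroup.mem_center_iff.1 h7 a
    rw [h1] at h2
    exact top_ne_bot h2

/-- the index for root group data -/
theorem exists_index_rgdt (hP : ActsIrreducibly (matrixSet P)) (hperf : ⁅P, P⁆ = P)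
    [IsSimpleGroup (P ⧸ (scalars ι F).subgroupOf P)] {l : ℕ} (hl : 0 < l) {M : CoxeterMatrix (Fin l)}
    (h : HasRGDT p M (P ⧸ (scalars ι F).subgroupOf P)) :
    ∃ J : Set (Fin l), J ≠ Set.univ ∧ (WJ M.toCoxeterSystem J).index ≤ Fintype.card ι ∧ Finite M.Group ∧
      l + 1 ≤ (WJ M.toCoxeterSystem J).index := by
  haveI : Nonempty (Fin l) := ⟨⟨0, hl⟩⟩
  obtain ⟨J, hJ, h1⟩ := exists_index.{u, 0} hP (h.hasSplitT hp.out hl) (dvd_card_of_rgdt hl h)
  obtain ⟨A, hA, T, n, X, hW, R, hX⟩ := h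
  refine ⟨J, hJ, h1 _, hW, ?_⟩
  have hc := KFacts.RgdLieCharP.conn_of_simple R hX (center_soc hperf)
  have h2 := DC.rank_lt_index M.toCoxeterSystem hA hc hJ
  rwa [Fintype.card_fin] at h2

/-- type `B_m` -/
theorem le_card_B (hP : ActsIrreducibly (matrixSet P)) (hperf : ⁅P, P⁆ = P)
    [IsSimpleGroup (P ⧸ (scalars ι F).subgroupOf P)] {m : ℕ} (hm : 3 ≤ m)
    (h : HasRGDT p (CoxeterMatrix.B m) (P ⧸ (scalars ι F).subgroupOf P)) : min (2 * m) 13 ≤ Fintype.card ι := by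
  obtain ⟨J, hJ, h1, hW, h2⟩ := exists_index_rgdt hP hperf (by omega) h
  refine le_trans ?_ h1
  rcases (show m = 3 ∨ m = 4 ∨ m = 5 ∨ m = 6 ∨ m = 7 ∨ m = 8 ∨ m = 9 ∨ m = 10 ∨ m = 11 ∨ 12 ≤ m by omega) with
    rfl | rfl | rfl | rfl | rfl | rfl | rfl | rfl | rfl | h3
  · exact index_cB3 _ hJ
  · exact index_cB4 _ hJ
  · exact index_cB5 _ hJ
  · exact index_cB6 _ hJ
  · exact index_cB7 _ hJ
  · exact index_cB8 _ hJ
  · exact index_cB9 _ hJ
  · exact index_cB10 _ hJ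
  · exact index_cB11 _ hJ
  · omega

/-- type `D_m` -/
theorem le_card_D (hP : ActsIrreducibly (matrixSet P)) (hperf : ⁅P, P⁆ = P)
    [IsSimpleGroup (P ⧸ (scalars ι F).subgroupOf P)] {n : ℕ}
    (h : HasRGDT p (Nodes.TypeD.M (n + 2)) (P ⧸ (scalars ι F).subgroupOf P)) :
    min (2 * (n + 4)) 13 ≤ Fintype.card ι := by
  obtain ⟨J, hJ, h1, hW, h2⟩ := exists_index_rgdt hP hperf (by omega) h
  refine le_trans ?_ h1
  rcases (show n = 0 ∨ n = 1 ∨ n = 2 ∨ n = 3 ∨ n = 4 ∨ n = 5 ∨ n = 6 ∨ n = 7 ∨ 8 ≤ n by omega) with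
    rfl | rfl | rfl | rfl | rfl | rfl | rfl | rfl | h3
  · exact index_cD4 _ hJ
  · exact index_cD5 _ hJ
  · exact index_cD6 _ hJ
  · exact index_cD7 _ hJ
  · exact index_cD8 _ hJ
  · exact index_cD9 _ hJ
  · exact index_cD10 _ hJ
  · exact index_cD11 _ hJ
  · omega

theorem le_card_E6 (hP : ActsIrreducibly (matrixSet P)) (hperf : ⁅P, P⁆ = P)
    [IsSimpleGroup (P ⧸ (scalars ι F).subgroupOf P)]
    (h : HasRGDT p CoxeterMatrix.E₆ (P ⧸ (scalars ι F).subgroupOf P)) : 13 ≤ Fintype.card ι := by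
  obtain ⟨J, hJ, h1, hW, h2⟩ := exists_index_rgdt hP hperf (by omega) h
  exact (index_cE6 _ hJ).trans h1

theorem le_card_E7 (hP : ActsIrreducibly (matrixSet P)) (hperf : ⁅P, P⁆ = P)
    [IsSimpleGroup (P ⧸ (scalars ι F).subgroupOf P)]
    (h : HasRGDT p CoxeterMatrix.E₇ (P ⧸ (scalars ι F).subgroupOf P)) : 13 ≤ Fintype.card ι := by
  obtain ⟨J, hJ, h1, hW, h2⟩ := exists_index_rgdt hP hperf (by omega) h
  exact (index_cE7 _ hJ).trans h1

theorem le_card_E8 (hP : ActsIrreducibly (matrixSet P)) (hperf : ⁅P, P⁆ = P)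
    [IsSimpleGroup (P ⧸ (scalars ι F).subgroupOf P)]
    (h : HasRGDT p CoxeterMatrix.E₈ (P ⧸ (scalars ι F).subgroupOf P)) : 13 ≤ Fintype.card ι := by
  obtain ⟨J, hJ, h1, hW, h2⟩ := exists_index_rgdt hP hperf (by omega) h
  exact (index_cE8 _ hJ).trans h1

theorem le_card_F4 (hP : ActsIrreducibly (matrixSet P)) (hperf : ⁅P, P⁆ = P)
    [IsSimpleGroup (P ⧸ (scalars ι F).subgroupOf P)]
    (h : HasRGDT p CoxeterMatrix.F₄ (P ⧸ (scalars ι F).subgroupOf P)) : 13 ≤ Fintype.card ι := by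
  obtain ⟨J, hJ, h1, hW, h2⟩ := exists_index_rgdt hP hperf (by omega) h
  exact (index_cF4 _ hJ).trans h1

theorem le_card_G2 (hP : ActsIrreducibly (matrixSet P)) (hperf : ⁅P, P⁆ = P)
    [IsSimpleGroup (P ⧸ (scalars ι F).subgroupOf P)]
    (h : HasRGDT p CoxeterMatrix.G₂ (P ⧸ (scalars ι F).subgroupOf P)) : 6 ≤ Fintype.card ι := by
  obtain ⟨J, hJ, h1, hW, h2⟩ := exists_index_rgdt hP hperf (by omega) h
  exact (index_cG2 _ hJ).trans h1

/-- type `²F₄` -/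
theorem le_card_2F4 (hP : ActsIrreducibly (matrixSet P)) (h : Cfsg.Lie.Iso2F4 (P ⧸ (scalars ι F).subgroupOf P))
    [IsSimpleGroup (P ⧸ (scalars ι F).subgroupOf P)] (hp2 : p = 2) :
    8 ≤ Fintype.card ι := by
  subst hp2
  obtain ⟨K, _, _, m, hm, hK, ⟨e⟩⟩ := h
  obtain ⟨Q, UE, s, t, hsp, hS, hrel⟩ := H410.TwFFourAS.exists_split (K := K) hm hK
  have hspl := Transport.split e.symm Q hsp
  set Pb := Transport.mapBN e.symm Q with hPb
  have hPS : Pb.S = {e.symm s, e.symm t} := by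
    show e.symm '' Q.S = _
    rw [hS, Set.image_pair]
  have hN : ((Pb.B ⊓ Pb.N).subgroupOf Pb.N).Normal := Cfsg.Agent.Tits.OfBN.normal_subgroupOf Pb
  obtain ⟨M, cs, hcs⟩ := S0320.result Pb
  have hI : Finite Pb.S := OfBN.finite_I (Equiv.refl Pb.S)
  have hIn : Nonempty Pb.S := ⟨⟨e.symm s, by rw [hPS]; exact Set.mem_insert _ _⟩⟩
  have h16 : Nat.card (Pb.N ⧸ (Pb.B ⊓ Pb.N).subgroupOf Pb.N) = 16 := by
    rw [← hrel]
    have h1 : Pb.B ⊓ Pb.N = (Q.B ⊓ Q.N).map e.symm.toMonoidHom := by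
      show Q.B.map e.symm.toMonoidHom ⊓ Q.N.map e.symm.toMonoidHom = _
      rw [Subgroup.map_inf _ _ _ e.symm.injective]
    have h2 : Pb.N = Q.N.map e.symm.toMonoidHom := rfl
    rw [← Subgroup.relIndex_map_map_of_injective (f := e.symm.toMonoidHom) (Q.B ⊓ Q.N) Q.N e.symm.injective, ← h1, ← h2]
    rfl
  have hT : HasSplitT 2 M (P ⧸ (scalars ι F).subgroupOf P) := ⟨Pb, _, Equiv.refl _, hspl, hN, cs, hcs⟩
  have hd : 2 ∣ Nat.card (P ⧸ (scalars ι F).subgroupOf P) := by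
    have h1 : Nat.card (Pb.N ⧸ (Pb.B ⊓ Pb.N).subgroupOf Pb.N) ∣ Nat.card (P ⧸ (scalars ι F).subgroupOf P) :=
      (Subgroup.card_quotient_dvd_card _).trans (Subgroup.card_subgroup_dvd_card _)
    rw [h16] at h1
    exact (by norm_num : 2 ∣ 16).trans h1
  obtain ⟨J, hJ, h1⟩ := exists_index hP hT hd
  have h2 := h1 cs
  have h3 : (WJ cs J).index * Nat.card (WJ cs J) = 16 := by
    rw [mul_comm, Subgroup.card_mul_index, h16]
  have h4 : Nat.card (WJ cs J) ≤ 2 := by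
    have hsub : ∃ i, J ⊆ {i} := by
      obtain ⟨k, hk⟩ : ∃ k, k ∉ J := by
        by_contra hcon
        push Not at hcon
        exact hJ (Set.eq_univ_of_forall hcon)
      have hk' : (k : P ⧸ (scalars ι F).subgroupOf P) ∈ Pb.S := k.2
      have hmem : ∀ x, x ∈ Pb.S → x = e.symm s ∨ x = e.symm t := by
        intro x hx
        rw [hPS] at hx
        exact hx
      have hall : ∀ j : Pb.S, (j : P ⧸ (scalars ι F).subgroupOf P) = e.symm s ∨
          (j : P ⧸ (scalars ι F).subgroupOf P) = e.symm t := fun j => hmem j j.2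
      rcases hall k with h5 | h5
      · refine ⟨⟨e.symm t, by rw [hPS]; exact Set.mem_insert_of_mem _ rfl⟩, fun j hj => ?_⟩
        rcases hall j with h6 | h6
        · exact absurd (Subtype.ext (h6.trans h5.symm) : j = k) (fun h7 => hk (h7 ▸ hj))
        · exact Subtype.ext h6
      · refine ⟨⟨e.symm s, by rw [hPS]; exact Set.mem_insert _ _⟩, fun j hj => ?_⟩
        rcases hall j with h6 | h6
        · exact Subtype.ext h6
        · exact absurd (Subtype.ext (h6.trans h5.symm) : j = k) (fun h7 => hk (h7 ▸ hj))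
    obtain ⟨i, hi⟩ := hsub
    have h5 : WJ cs J ≤ Subgroup.zpowers (cs.simple i) := by
      unfold WJ
      rw [Subgroup.closure_le]
      rintro _ ⟨j, hj, rfl⟩
      rw [show j = i from hi hj]
      exact Subgroup.mem_zpowers _
    have h6 : Finite (Pb.N ⧸ (Pb.B ⊓ Pb.N).subgroupOf Pb.N) := inferInstance
    refine (Subgroup.card_le_of_le h5).trans ?_
    rw [Nat.card_zpowers]
    exact orderOf_le_of_pow_eq_one (by norm_num) (by rw [pow_two, cs.simple_mul_simple_self])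
  nlinarith [h2, h3, h4, Nat.card_pos (α := WJ cs J)]

end

/-! ### the list -/

/-- the groups of Lie type in characteristic `p` whose index bound allows the dimension `n ≤ 12` -/
def SmallDC (p n : ℕ) (T : Type*) [Group T] : Prop :=
  (∃ (K : Type) (_ : Field K) (_ : Fintype K) (_ : CharP K p) (l : ℕ),
    1 ≤ l ∧ (l = 1 → 4 ≤ Nat.card K) ∧ Nonempty (T ≃* Matrix.ProjectiveSpecialLinearGroup (Fin (l + 1)) K)) ∨
  (∃ (K : Type) (_ : Field K) (_ : Fintype K) (_ : CharP K p) (m : ℕ),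
    2 ≤ m ∧ (m = 2 ∨ 2 * m ≤ n) ∧ (m = 2 → 3 ≤ Fintype.card K) ∧ Nonempty (T ≃* PSp m K)) ∨
  (∃ (K : Type) (_ : Field K) (_ : Fintype K) (_ : CharP K p) (N q : ℕ),
    Fintype.card K = q ^ 2 ∧ 3 ≤ N ∧ (N ≤ 5 ∨ 2 * (N / 2) ≤ n) ∧ ¬ (N = 3 ∧ q = 2) ∧ Nonempty (T ≃* PSU N K q)) ∨
  (p = 2 ∧ Lie.IsoSuzuki T) ∨ (p = 3 ∧ Lie.IsoRee T) ∨
  (∃ (K : Type) (_ : Field K) (_ : Fintype K) (_ : CharP K p) (m : ℕ),
    3 ≤ m ∧ 2 * m ≤ n ∧ Odd (Fintype.card K) ∧ Nonempty (T ≃* POmega K (quadFormOdd m K))) ∨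
  (∃ (K : Type) (_ : Field K) (_ : Fintype K) (_ : CharP K p) (m : ℕ),
    4 ≤ m ∧ 2 * m ≤ n ∧ Nonempty (T ≃* POmega K (quadFormPlus m K))) ∨
  (∃ (K : Type) (_ : Field K) (_ : Fintype K) (_ : CharP K p) (m : ℕ) (a b : K),
    4 ≤ m ∧ 2 * (m - 1) ≤ n ∧ (∀ z₁ z₂ : K, z₁ ^ 2 + a * z₁ * z₂ + b * z₂ ^ 2 = 0 → z₁ = 0 ∧ z₂ = 0) ∧
    Nonempty (T ≃* POmega K (quadFormMinus (m - 1) K a b))) ∨
  (6 ≤ n ∧ ∃ (K : Type) (_ : Field K) (_ : Fintype K) (_ : CharP K p),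
    3 ≤ Fintype.card K ∧ Nonempty (T ≃* Lie.chevG2.group K)) ∨
  (6 ≤ n ∧ ∃ (K : Type) (_ : Field K) (_ : Fintype K) (_ : CharP K p) (q : ℕ), IsPrimePow q ∧
    Fintype.card K = q ^ 3 ∧ Nonempty (T ≃* Lie.twistedD4 K q)) ∨
  (8 ≤ n ∧ p = 2 ∧ Lie.Iso2F4 T)

section

variable {F : Type u} [Field F] [Finite F] {ι : Type} [Fintype ι] [DecidableEq ι] {P : Subgroup (GL ι F)}
  {p : ℕ} [hp : Fact p.Prime] [CharP F p]

/-- **The groups of Lie type in characteristic `p` in dimension `≤ 12`.** -/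
theorem small_dc (hP : ActsIrreducibly (matrixSet P)) (hperf : ⁅P, P⁆ = P)
    [IsSimpleGroup (P ⧸ (scalars ι F).subgroupOf P)] (h : IsLieTypeChar p (P ⧸ (scalars ι F).subgroupOf P))
    (hn : Fintype.card ι ≤ 12) : SmallDC p (Fintype.card ι) (P ⧸ (scalars ι F).subgroupOf P) := by
  unfold SmallDC
  rcases h with h | h | h | h | h | h | h | h | h | h | h
  · obtain ⟨K, i1, i2, i3, n, hn, h4, ⟨e⟩⟩ := h
    obtain ⟨n, rfl⟩ : ∃ k, n = k + 1 := ⟨n - 1, by omega⟩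
    exact Or.inl ⟨K, i1, i2, i3, n, by omega, fun h => by
      rw [Nat.card_eq_fintype_card]; exact h4 (by omega), ⟨e⟩⟩
  · obtain ⟨K, i1, i2, i3, m, hm, h3, ⟨e⟩⟩ := h
    refine Or.inr (Or.inl ⟨K, i1, i2, i3, m, hm, ?_, h3, ⟨e⟩⟩)
    rcases (show m = 2 ∨ 3 ≤ m by omega) with h | h
    · exact Or.inl h
    · have h5 := le_card_B (p := p) hP hperf h ((typ_PSp (by omega)).of_equiv e.symm)
      omega
  · obtain ⟨K, i1, i2, i3, N, q, hF, hN, hq, ⟨e⟩⟩ := h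
    refine Or.inr (Or.inr (Or.inl ⟨K, i1, i2, i3, N, q, hF, hN, ?_, hq, ⟨e⟩⟩))
    rcases (show N ≤ 5 ∨ 6 ≤ N by omega) with h | h
    · exact Or.inl h
    · obtain ⟨m, hm, h5⟩ := typ_PSU (p := p) hF hN
      have h6 := le_card_B (p := p) hP hperf (by omega) (h5.of_equiv e.symm)
      omega
  · obtain ⟨K, i1, i2, i3, m, hm, hodd, ⟨e⟩⟩ := h
    have h2 : (2 : K) ≠ 0 := by
      intro h0
      have h3 : CharP K 2 := CharTwo.of_one_ne_zero_of_two_eq_zero one_ne_zero h0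
      obtain ⟨k, -, hk⟩ := FiniteField.card K 2
      rw [hk] at hodd
      exact absurd hodd (by
        rw [Nat.not_odd_iff_even]
        exact (even_two).pow_of_ne_zero k.ne_zero)
    have h5 := le_card_B (p := p) hP hperf hm ((H485.TypList.typ_PO_odd h2 (by omega)).of_equiv e.symm)
    exact Or.inr (Or.inr (Or.inr (Or.inr (Or.inr (Or.inl ⟨K, i1, i2, i3, m, hm, by omega, hodd, ⟨e⟩⟩)))))
  · obtain ⟨K, i1, i2, i3, m, hm, ⟨e⟩⟩ := h
    obtain ⟨n, rfl⟩ : ∃ n, m = n + 1 + 3 := ⟨m - 4, by omega⟩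
    have h5 := le_card_D (p := p) hP hperf ((typ_PO_plus (n + 1)).of_equiv e.symm)
    exact Or.inr (Or.inr (Or.inr (Or.inr (Or.inr (Or.inr (Or.inl
      ⟨K, i1, i2, i3, _, hm, by omega, ⟨e⟩⟩))))))
  · obtain ⟨K, i1, i2, i3, m, a, b, hm, hab, ⟨e⟩⟩ := h
    have h5 := le_card_B (p := p) hP hperf (by omega) ((typ_PO_minus hab (by omega)).of_equiv e.symm)
    exact Or.inr (Or.inr (Or.inr (Or.inr (Or.inr (Or.inr (Or.inr (Or.inl
      ⟨K, i1, i2, i3, m, a, b, hm, by omega, hab, ⟨e⟩⟩)))))))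
  · obtain ⟨K, i1, i2, i3, ⟨h3, ⟨e⟩⟩ | ⟨⟨e⟩⟩ | ⟨⟨e⟩⟩ | ⟨⟨e⟩⟩ | ⟨⟨e⟩⟩⟩ := h
    · have h5 := le_card_G2 (p := p) hP hperf ((typ_group (by simp [Nodes.RGDChev.IsType, Nodes.RGDChev.typeList]) K p).of_equiv e.symm)
      exact Or.inr (Or.inr (Or.inr (Or.inr (Or.inr (Or.inr (Or.inr (Or.inr (Or.inl
        ⟨h5, K, i1, i2, i3, h3, ⟨e⟩⟩))))))))
    · have h5 := le_card_F4 (p := p) hP hperf ((typ_group (by simp [Nodes.RGDChev.IsType, Nodes.RGDChev.typeList]) K p).of_equiv e.symm)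
      omega
    · have h5 := le_card_E6 (p := p) hP hperf ((typ_group (by simp [Nodes.RGDChev.IsType, Nodes.RGDChev.typeList]) K p).of_equiv e.symm)
      omega
    · have h5 := le_card_E7 (p := p) hP hperf ((typ_group (by simp [Nodes.RGDChev.IsType, Nodes.RGDChev.typeList]) K p).of_equiv e.symm)
      omega
    · have h5 := le_card_E8 (p := p) hP hperf ((typ_group (by simp [Nodes.RGDChev.IsType, Nodes.RGDChev.typeList]) K p).of_equiv e.symm)
      omega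
  · obtain ⟨K, i1, i2, i3, q, hq, ⟨hK, ⟨e⟩⟩ | ⟨hK, ⟨e⟩⟩⟩ := h
    · have h5 := le_card_F4 (p := p) hP hperf ((typ_twE6 hq hK p).of_equiv e.symm)
      omega
    · have h5 := le_card_G2 (p := p) hP hperf ((typ_twD4 hq hK p).of_equiv e.symm)
      exact Or.inr (Or.inr (Or.inr (Or.inr (Or.inr (Or.inr (Or.inr (Or.inr (Or.inr (Or.inl
        ⟨h5, K, i1, i2, i3, q, hq, hK, ⟨e⟩⟩)))))))))
  · exact Or.inr (Or.inr (Or.inr (Or.inl h)))
  · exact Or.inr (Or.inr (Or.inr (Or.inr (Or.inr (Or.inr (Or.inr (Or.inr (Or.inr (Or.inr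
      ⟨le_card_2F4 hP h.2 h.1, h.1, h.2⟩)))))))))
  · exact Or.inr (Or.inr (Or.inr (Or.inr (Or.inl h))))

end

end Cfsg.Agent.H905.Md
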