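import Cfsg.Agent.H905.Sp4Dim
import Cfsg.Agent.H905.MdR
import Cfsg.Agent.H905.MdL

/-!
# `PSp_4(K)` in the defining characteristic, degree at most 12 (helper905)

`P ≤ GL(ι, F)` a core, `P / scalars ≃ PSp_4(K)`, `3 ≤ |K|`, `char F = char K = p`, `|ι| ≤ 12`.

* `Data P K p` : the representation of `Sp_4(K)` with its highest weight vector and matrix coefficient; `exists_data`;
* `Data.field` : `K` embeds into `F`; `Data.sign` : the sign of an invariant form;
* **`core_psp4`** : `|F| = |K|`, `SD P` and `|ι| = 4`, or `p` odd, `|ι| = 5, 10` and a quadratic form, or `p = 5`,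
  `|ι| = 12` and an alternating form.
-/

set_option autoImplicit false
set_option linter.unusedSectionVars false
set_option linter.style.haveILetI false

namespace Cfsg.Agent.H905.Sp4

open CoxeterSystem Cfsg.Agent.ChevalleyStructure.CoxeterGeom Cfsg.Agent.Tits.Roots Cfsg.Agent.Nodes.TypeC
open Cfsg.Agent.Nodes.Comb Cfsg.Agent.Nodes.Reps Cfsg.Agent.Nodes.WittRoot Cfsg.Agent.Nodes.BNOf
open Cfsg.Agent.Nodes.WittRGD Cfsg.Agent.Nodes.RGDLib Cfsg.Agent.Nodes.OppDec Cfsg.Agent.Nodes.WittAll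
open Cfsg.Agent.Nodes.Bruhat Cfsg.Agent.Omega.CR Cfsg.Agent.Omega.FOne.Lift.Sd Cfsg.Agent.Nodes.StabComb
open Cfsg.Agent.Tits.Core Cfsg.Agent.Tits.Exchange Cfsg.Agent.H905.Md Cfsg.Agent.KFacts.RgdOpp
open Cfsg.Agent.TitsThree Cfsg.Agent.TitsThree.Siegel Cfsg.Agent.TitsThree.WittFrame
  Cfsg.Agent.TitsThree.FrameCN Cfsg.Agent.TitsThree.SpIdent Cfsg.Agent.TitsThree.SpGen
open Cfsg.Agent.H62.SpCross Cfsg.Agent.H62.FrameSL Cfsg.Agent.H911 Cfsg.Agent.H67
open Cfsg Cfsg.Geo Cfsg.Agent.H915.LD Cfsg.Agent.H151.Six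
open scoped MatrixGroups Matrix commutatorElement

universe u

/-! ### the quarter turn -/

section Turn

variable {K : Type u} [Field K]

/-- the quarter turn -/
def turnL (K : Type u) [Field K] : V4 K ≃ₗ[K] V4 K where
  toFun v := Sum.elim (fun i => v (.inr i)) (fun i => -v (.inl i))
  map_add' v w := by
    funext x
    rcases x with x | x
    · rfl
    · change -(v (.inl x) + w (.inl x)) = -v (.inl x) + -w (.inl x)
      ring
  map_smul' a v := by
    funext x
    rcases x with x | x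
    · rfl
    · change -(a * v (.inl x)) = a * -v (.inl x)
      ring
  invFun v := Sum.elim (fun i => -v (.inr i)) (fun i => v (.inl i))
  left_inv v := by
    funext x
    rcases x with x | x
    · change - -v (.inl x) = v (.inl x)
      ring
    · rfl
  right_inv v := by
    funext x
    rcases x with x | x
    · rfl
    · change - -v (.inr x) = v (.inr x)
      ring

theorem turnL_inl (v : V4 K) (i : Fin 2) : turnL K v (.inl i) = v (.inr i) := rfl

theorem turnL_inr (v : V4 K) (i : Fin 2) : turnL K v (.inr i) = -v (.inl i) := rfl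

/-- the quarter turn in `Sp_4(K)` -/
def turn (K : Type u) [Field K] : isos (form 2 K) := ⟨turnL K, fun v w => by
  rw [h_eq, h_eq]
  simp only [turnL_inl, turnL_inr]
  ring⟩

theorem turn_sq (v : V4 K) : (turn K * turn K).1 v = -v := by
  change turnL K (turnL K v) = -v
  funext x
  rcases x with x | x
  · rw [turnL_inl, turnL_inr]
    rfl
  · rw [turnL_inr, turnL_inl]
    rfl

theorem F1_turn : F1 (turn K * turn K).1 = -1 := by
  unfold F1
  rw [turn_sq]
  simp

theorem F2_turn : F2 (turn K * turn K).1 = 1 := by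
  unfold F2
  rw [turn_sq, turn_sq]
  simp

theorem turn_mono : Mono (frame 2 K) (turn K).1 ng := by
  rintro ⟨i, s⟩
  cases s
  · refine ⟨-1, by simp, ?_⟩
    change turnL K (Pi.single (.inl i) 1) = (-1 : K) • (Pi.single (.inr i) 1 : V4 K)
    funext x
    rcases x with x | x
    · rw [turnL_inl]
      simp
    · rw [turnL_inr]
      by_cases hx : x = i
      · subst hx; simp
      · simp [hx]
  · refine ⟨1, by simp, ?_⟩
    change turnL K (Pi.single (.inr i) 1) = (1 : K) • (Pi.single (.inl i) 1 : V4 K)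
    funext x
    rcases x with x | x
    · rw [turnL_inl]
      by_cases hx : x = i
      · subst hx; simp
      · simp [hx]
    · rw [turnL_inr]
      simp

theorem turn_sq_mem : turn K * turn K ∈ T4 K := by
  rw [mem_T]
  have h1 := turn_mono (K := K)
  have h2 := (h1.mul h1).congr (ρ := id) fun x => ng_ng x
  exact h2

variable [Finite K] {W : Type*} [Group W] (cs : CoxeterSystem (CoxeterMatrix.B 2) W) (p : ℕ)
  [hp : Fact p.Prime]

/-- the quarter turn represents `w₀ = -1` -/
theorem rp_turn [CharP K p] : ∃ v : W, (∀ x, rep cs (isCartan 2) v x = -x) ∧ Rp cs (R4 (K := K) (p := p) cs).nsys v (turn K) := by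
  obtain ⟨v, hv, k, hk, h1, h2⟩ := exists_neg (model 2 K) (ambT K p) (p0 := adm 1)
    (show (1 : K) ≠ 0 from one_ne_zero) (cs := cs) (R4 (K := K) (p := p) cs).nsys
  refine ⟨v, hv, ?_⟩
  set k' : isos (form 2 K) := ⟨k, hk⟩ with hk'
  have h3 : k'⁻¹ * turn K ∈ T4 K := by
    rw [mem_T]
    have h4 : Mono (frame 2 K) k⁻¹ ng := h2.inv (ρ := ng) fun x => ng_ng x
    exact (h4.mul turn_mono).congr (ρ := id) fun x => ng_ng x
  have h4 := h1.mul (rp_of_mem (cs := cs) (hN := (R4 (K := K) (p := p) cs).nsys) h3)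
  have h5 : (model 2 K).φ ⟨k, hk⟩ * (k'⁻¹ * turn K) = turn K := by
    change k' * (k'⁻¹ * turn K) = turn K
    group
  rwa [h5, mul_one] at h4

include p hp in
theorem turn_conj [CharP K p] : ∀ u ∈ RGD.Sup (X4 K) (RGD.Pos cs (isCartan 2)),
    turn K * u * (turn K)⁻¹ ∈ UN cs (isCartan 2) (X4 K) := by
  obtain ⟨v, hv, h1⟩ := rp_turn (K := K) cs p
  haveI := finite_isos (m := 2) (F := K)
  intro u hu
  rw [← conj_UN (R4 (K := K) (p := p) cs) hv h1]
  exact conj_mem_cj.2 hu

include p hp in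
theorem turn_conj' [CharP K p] : ∀ u ∈ UN cs (isCartan 2) (X4 K),
    (turn K)⁻¹ * u * turn K ∈ RGD.Sup (X4 K) (RGD.Pos cs (isCartan 2)) := by
  obtain ⟨v, hv, h1⟩ := rp_turn (K := K) cs p
  haveI := finite_isos (m := 2) (F := K)
  intro u hu
  rw [← conj_UN (R4 (K := K) (p := p) cs) hv h1] at hu
  exact mem_cj.1 hu

end Turn

/-! ### the data of a core -/

section Core

variable {F : Type*} [Field F] {ι : Type} [Fintype ι] [DecidableEq ι]

/-- the simple module of `Sp_4(K)` with its highest weight vector -/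
structure Data (P : Subgroup (GL ι F)) (K : Type u) [Field K] [Finite K] (p : ℕ) where
  rep : isos (form 2 K) →* GL ι F
  range_rep : rep.range = P
  j : K →+* AlgebraicClosure F
  a : ℕ
  b : ℕ
  v : ι → AlgebraicClosure F
  ψ : Module.Dual (AlgebraicClosure F) (ι → AlgebraicClosure F)
  v_mem : v ∈ D (CoxeterMatrix.B 2).toCoxeterSystem (isCartan 2) (X4 K) (lin (acRep rep))
  ψ_mem : ψ ∈ fx (dualRep (lin (acRep rep))) (UN (CoxeterMatrix.B 2).toCoxeterSystem (isCartan 2) (X4 K))
  pair : ψ v = 1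
  tor : ∀ t ∈ T4 K, lin (acRep rep) t v = (j (F1 t.1) ^ a * j (F2 t.1) ^ b) • v
  coef : ∀ y : isos (form 2 K), ψ (lin (acRep rep) y v) = j (F1 y.1) ^ a * j (F2 y.1) ^ b
  irr : ∀ L : Submodule (AlgebraicClosure F) (ι → AlgebraicClosure F), Ivt (lin (acRep rep)) ⊤ L → L = ⊥ ∨ L = ⊤
  good : Good p a b (Fintype.card ι)

theorem Data.v_ne {P : Subgroup (GL ι F)} {K : Type u} [Field K] [Finite K] {p : ℕ} (D : Data P K p) : D.v ≠ 0 := by
  intro h
  have h1 := D.pair
  rw [h, map_zero] at h1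
  exact zero_ne_one h1

variable [Finite F] {P : Subgroup (GL ι F)} {K : Type u} [Field K] [Finite K] (p : ℕ) [hp : Fact p.Prime]
  [hFp : CharP F p] [hKp : CharP K p]
include hFp hKp

omit [Finite F] in
theorem exists_lift_ac : Nonempty (K →+* AlgebraicClosure F) := by
  have hchar : CharP (AlgebraicClosure F) p := charP_of_injective_algebraMap (algebraMap F _).injective p
  letI : Algebra (ZMod p) K := ZMod.algebra K p
  letI : Algebra (ZMod p) (AlgebraicClosure F) := ZMod.algebra _ p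
  haveI : Algebra.IsAlgebraic (ZMod p) K := Algebra.IsAlgebraic.of_finite _ _
  exact ⟨(IsAlgClosed.lift : K →ₐ[ZMod p] AlgebraicClosure F).toRingHom⟩

theorem exists_rep (hC : Core P) (hK : 3 ≤ Nat.card K) (Φ : Soc P ≃* PSp 2 K) :
    ∃ φ : isos (form 2 K) →* GL ι F, φ.range = P := by
  obtain ⟨φ, h1, -, -⟩ := psp_cover p hC.perfect (by norm_num) (Or.inr (Or.inl ⟨rfl, hK⟩)) Φ
  refine ⟨φ.comp (isoSp 2 K).toMonoidHom, ?_⟩
  rw [← h1]
  ext y
  constructor
  · rintro ⟨x, rfl⟩
    exact ⟨_, rfl⟩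
  · rintro ⟨x, rfl⟩
    refine ⟨(isoSp 2 K).symm x, ?_⟩
    change φ (isoSp 2 K ((isoSp 2 K).symm x)) = φ x
    rw [MulEquiv.apply_symm_apply]

theorem exists_data (hC : Core P) (hK : 3 ≤ Nat.card K) (Φ : Soc P ≃* PSp 2 K) (hn : Fintype.card ι ≤ 12) :
    Nonempty (Data P K p) := by
  have := Fintype.ofFinite K
  have hchar : CharP (AlgebraicClosure F) p := charP_of_injective_algebraMap (algebraMap F _).injective p
  haveI := hC.nonempty
  obtain ⟨φ, hφ⟩ := exists_rep p hC hK Φ
  obtain ⟨j⟩ := exists_lift_ac (F := F) (K := K) p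
  have hirr : ∀ L : Submodule (AlgebraicClosure F) (ι → AlgebraicClosure F),
      Ivt (lin (acRep φ)) ⊤ L → L = ⊥ ∨ L = ⊤ :=
    fun L hL => acRep_irr hφ (H920.span_eq_top hC.absIrred) rfl L hL
  have hfin : Module.finrank (AlgebraicClosure F) (ι → AlgebraicClosure F) = Fintype.card ι :=
    Module.finrank_fintype_fun_eq_card _
  obtain ⟨c₁, c₂, c, ψ, h1, h2, h3, h4, h5, h6, h7, h8⟩ := exists_coef (CoxeterMatrix.B 2).toCoxeterSystem p hirr
    (by rw [hfin]; exact hC.two_le) j
  have hc0 : c ≠ 0 := by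
    rintro rfl
    rw [map_zero] at h6
    exact zero_ne_one h6
  have hψ0 : ψ ≠ 0 := by
    rintro rfl
    exact zero_ne_one h6
  have hgood := good_of_coef p hirr hc0 hψ0 (by
    rintro rfl
    obtain ⟨a, -, ha⟩ := FiniteField.card K 2
    rw [Nat.card_eq_fintype_card, ha] at hK
    rw [ha]
    rcases Nat.lt_or_ge (a : ℕ) 2 with h | h
    · interval_cases h9 : (a : ℕ)
      · simp at hK
      · simp at hK
    · calc 4 = 2 ^ 2 := by norm_num
        _ ≤ 2 ^ (a : ℕ) := Nat.pow_le_pow_right (by norm_num) h) (by rwa [← Nat.card_eq_fintype_card])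
    (by rwa [← Nat.card_eq_fintype_card]) h3 h8 (by rwa [hfin])
  rw [hfin] at hgood
  exact ⟨⟨φ, hφ, j, c₁, c₂, c, ψ, h4, h5, h6, h7, h8, hirr, hgood⟩⟩

end Core

/-! ### the field -/

section Field

variable {F : Type*} [Field F] [Finite F] {ι : Type} [Fintype ι] [DecidableEq ι] {P : Subgroup (GL ι F)}
  {K : Type u} [Field K] [Finite K] {p : ℕ} [hp : Fact p.Prime] [hFp : CharP F p] [hKp : CharP K p]

omit [Finite F] hp hFp hKp in
theorem dgY_tor (D : Data P K p) (l : Fin 2 → Kˣ) : lin (acRep D.rep) (dgY l) D.v =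
    (D.j (l 0) ^ D.a * D.j (l 0 * l 1) ^ D.b) • D.v := by
  rw [D.tor _ (dgY_mem l), F1_dg, F2_dg]

/-- the values of the highest weight are in `F` -/
theorem Data.chi_mem (D : Data P K p) (hC : Core P) {t : isos (form 2 K)} (ht : t ∈ T4 K) :
    ∃ x : F, algebraMap F (AlgebraicClosure F) x = D.j (F1 t.1) ^ D.a * D.j (F2 t.1) ^ D.b := by
  haveI := finite_isos (m := 2) (F := K)
  haveI := hC.nonempty
  haveI : Finite (CoxeterMatrix.B 2).Group := finite_W (CoxeterMatrix.B 2).toCoxeterSystem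
  exact Md.chi_mem (R4 (K := K) (p := p) (CoxeterMatrix.B 2).toCoxeterSystem) (GG4 _) D.range_rep hC.absIrred
    D.v_mem D.v_ne D.tor ht

omit [Finite K] hKp in
/-- `p`-th roots -/
theorem mem_of_pow_mem {x : AlgebraicClosure F} (i : ℕ)
    (h : ∃ y : F, algebraMap F (AlgebraicClosure F) y = x ^ p ^ i) :
    ∃ y : F, algebraMap F (AlgebraicClosure F) y = x := by
  have hchar : CharP (AlgebraicClosure F) p := charP_of_injective_algebraMap (algebraMap F _).injective p
  obtain ⟨y, hy⟩ := h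
  have h1 : Function.Surjective (iterateFrobenius F p i) :=
    Finite.injective_iff_surjective.1 (iterateFrobenius_inj F p i)
  obtain ⟨z, rfl⟩ := h1 y
  refine ⟨z, iterateFrobenius_inj (AlgebraicClosure F) p i ?_⟩
  rw [iterateFrobenius_def, iterateFrobenius_def, ← hy, iterateFrobenius_def, map_pow]

omit hp hFp hKp [Finite F] [Finite K] in
theorem exists_hom_of_mem (j : K →+* AlgebraicClosure F)
    (h : ∀ x : K, ∃ y : F, algebraMap F (AlgebraicClosure F) y = j x) :
    ∃ s : K →+* F, ∀ x, algebraMap F (AlgebraicClosure F) (s x) = j x := by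
  choose f hf using h
  refine ⟨⟨⟨⟨f, ?_⟩, ?_⟩, ?_, ?_⟩, hf⟩
  · apply (algebraMap F (AlgebraicClosure F)).injective
    rw [hf, map_one, map_one]
  · intro x y
    apply (algebraMap F (AlgebraicClosure F)).injective
    change algebraMap F (AlgebraicClosure F) (f (x * y)) = algebraMap F (AlgebraicClosure F) (f x * f y)
    rw [hf, map_mul, map_mul, hf, hf]
  · apply (algebraMap F (AlgebraicClosure F)).injective
    change algebraMap F (AlgebraicClosure F) (f 0) = algebraMap F (AlgebraicClosure F) 0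
    rw [hf, map_zero, map_zero]
  · intro x y
    apply (algebraMap F (AlgebraicClosure F)).injective
    change algebraMap F (AlgebraicClosure F) (f (x + y)) = algebraMap F (AlgebraicClosure F) (f x + f y)
    rw [hf, map_add, map_add, hf, hf]

/-- the image of `K` is in `F` -/
theorem Data.mem_j (D : Data P K p) (hC : Core P) : ∀ x : K, ∃ y : F, algebraMap F (AlgebraicClosure F) y = D.j x := by
  have hchar : CharP (AlgebraicClosure F) p := charP_of_injective_algebraMap (algebraMap F _).injective p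
  -- units suffice
  have hunit : (∀ s : Kˣ, ∃ y : F, algebraMap F (AlgebraicClosure F) y = D.j s) →
      ∀ x : K, ∃ y : F, algebraMap F (AlgebraicClosure F) y = D.j x := by
    intro h x
    rcases eq_or_ne x 0 with rfl | hx
    · exact ⟨0, by rw [map_zero, map_zero]⟩
    · exact h (Units.mk0 x hx)
  rcases D.good with ⟨i, h1, h2, -⟩ | ⟨hp2, i, h1, h2, -⟩ | ⟨-, i, h1, h2, -⟩ | ⟨hp2, i, h1, h2, -⟩ | ⟨hp5, i, h1, h2, -⟩
  · apply hunit
    intro s
    have h3 := D.chi_mem hC (dgY_mem ![s, 1])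
    rw [F1_dg, F2_dg, h1, h2] at h3
    apply mem_of_pow_mem (p := p) i
    simpa using h3
  · apply hunit
    intro s
    have h3 := D.chi_mem hC (dgY_mem ![1, s])
    rw [F1_dg, F2_dg, h1, h2] at h3
    subst hp2
    apply mem_of_pow_mem (p := 2) i
    simpa using h3
  · apply hunit
    intro s
    have h3 := D.chi_mem hC (dgY_mem ![1, s])
    rw [F1_dg, F2_dg, h1, h2] at h3
    apply mem_of_pow_mem (p := p) i
    simpa using h3
  · -- squares
    have h2K : (2 : K) ≠ 0 := by
      intro h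
      have h5 : ((2 : ℕ) : K) = 0 := by exact_mod_cast h
      rw [CharP.cast_eq_zero_iff K p] at h5
      exact hp2 ((Nat.prime_dvd_prime_iff_eq hp.out Nat.prime_two).1 h5)
    have hsq : ∀ x : K, ∃ y : F, algebraMap F (AlgebraicClosure F) y = D.j (x ^ 2) := by
      intro x
      rcases eq_or_ne x 0 with rfl | hx
      · exact ⟨0, by simp⟩
      · have h3 := D.chi_mem hC (dgY_mem ![Units.mk0 x hx, 1])
        rw [F1_dg, F2_dg, h1, h2] at h3
        apply mem_of_pow_mem (p := p) i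
        simpa [pow_mul] using h3
    intro x
    obtain ⟨y, hy⟩ := hsq ((x + 1) / 2)
    obtain ⟨z, hz⟩ := hsq ((x - 1) / 2)
    refine ⟨y - z, ?_⟩
    rw [map_sub, hy, hz, ← map_sub]
    congr 1
    field_simp
    ring
  · apply hunit
    intro s
    have h3 := D.chi_mem hC (dgY_mem ![s, s⁻¹])
    rw [F1_dg, F2_dg, h1, h2] at h3
    subst hp5
    apply mem_of_pow_mem (p := 5) i
    simpa using h3

/-- `j` has its values in `F` -/
theorem Data.exists_hom (D : Data P K p) (hC : Core P) :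
    ∃ s : K →+* F, ∀ x, algebraMap F (AlgebraicClosure F) (s x) = D.j x :=
  exists_hom_of_mem D.j (D.mem_j hC)

/-- **`K` embeds into `F`.** -/
theorem Data.field (D : Data P K p) (hC : Core P) : Nonempty (K →+* F) :=
  let ⟨s, _⟩ := D.exists_hom hC
  ⟨s⟩

theorem card_eq_of_fr (hC : Core P) (D : Data P K p) (hfr : Fr P (Nat.card K)) : Nat.card F = Nat.card K := by
  have := Fintype.ofFinite K
  obtain ⟨a, -, ha⟩ := FiniteField.card K p
  have hcard : Nat.card K = p ^ (a : ℕ) := by rw [Nat.card_eq_fintype_card, ha]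
  rw [hcard] at hfr
  obtain ⟨j, hj, hj'⟩ := card_pow_eq (F := F) p a.ne_zero (hC.pow_eq p hfr)
  obtain ⟨f⟩ := D.field hC
  have h1 : Nat.card K ≤ Nat.card F := Nat.card_le_card_of_injective f f.injective
  rw [← hcard] at hj'
  have h2 : 1 < Nat.card F := Finite.one_lt_card
  have h3 : j = 1 := by
    by_contra hne
    have h4 : Nat.card F ^ 1 < Nat.card F ^ j := Nat.pow_lt_pow_right h2 (by omega)
    rw [pow_one] at h4
    omega
  rw [h3, pow_one] at hj'
  exact hj'

end Field

/-! ### the forms -/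

section Forms

variable {F : Type*} [Field F] [Finite F] {ι : Type} [Fintype ι] [DecidableEq ι] {P : Subgroup (GL ι F)}
  {K : Type u} [Field K] [Finite K] {p : ℕ} [hp : Fact p.Prime] [hFp : CharP F p] [hKp : CharP K p]

/-- **The sign of an invariant form.** -/
theorem Data.sign (D : Data P K p) (hC : Core P) {B : Matrix ι ι F} {ε : F} (hB : Bᵀ = ε • B) (hdet : IsUnit B.det)
    (hfix : ∀ g ∈ P, (g : Matrix ι ι F)ᵀ * B * (g : Matrix ι ι F) = B) : ε * (-1) ^ D.a = 1 := by
  haveI := finite_isos (m := 2) (F := K)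
  haveI := hC.nonempty
  haveI : Finite (CoxeterMatrix.B 2).Group := finite_W (CoxeterMatrix.B 2).toCoxeterSystem
  have h1 := form_sign (R4 (K := K) (p := p) (CoxeterMatrix.B 2).toCoxeterSystem) (GG4 _) D.range_rep hC.absIrred
    hB hdet hfix (turn_conj (K := K) (CoxeterMatrix.B 2).toCoxeterSystem p) D.v_mem D.v_ne D.tor
    (D.tor _ turn_sq_mem)
  rw [F1_turn, F2_turn, map_one, one_pow, mul_one, map_neg, map_one] at h1
  apply (algebraMap F (AlgebraicClosure F)).injective
  rw [map_mul, map_pow, map_neg, map_one, h1]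

theorem Data.even_of_fixQ (D : Data P K p) (hC : Core P) (hp2 : p ≠ 2) (h : FixQ P) : Even D.a := by
  obtain ⟨B, h1, h2, h3⟩ := exists_symm h
  have h4 := D.sign hC (ε := 1) (by rw [one_smul]; exact h1) h2 h3
  rw [one_mul] at h4
  by_contra hodd
  rw [Nat.not_even_iff_odd] at hodd
  rw [hodd.neg_one_pow] at h4
  have h5 : ((2 : ℕ) : F) = 0 := by push_cast; linear_combination -h4
  rw [CharP.cast_eq_zero_iff F p] at h5
  exact hp2 ((Nat.prime_dvd_prime_iff_eq hp.out Nat.prime_two).1 h5)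

theorem Data.odd_of_fixA (D : Data P K p) (hC : Core P) (hp2 : p ≠ 2) (h : FixA P) : Odd D.a := by
  obtain ⟨B, h1, h2, h3⟩ := exists_skew h
  have h4 := D.sign hC (ε := -1) (by rw [neg_one_smul]; exact h1) h2 h3
  by_contra heven
  rw [Nat.not_odd_iff_even] at heven
  rw [heven.neg_one_pow] at h4
  have h5 : ((2 : ℕ) : F) = 0 := by push_cast; linear_combination -h4
  rw [CharP.cast_eq_zero_iff F p] at h5
  exact hp2 ((Nat.prime_dvd_prime_iff_eq hp.out Nat.prime_two).1 h5)

variable (p)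
include hp hFp hKp

theorem sd_psp4 (hC : Core P) (hK : 3 ≤ Nat.card K) (Φ : Soc P ≃* PSp 2 K) : SD P ∧ Fr P (Nat.card K) := by
  haveI := hC.nonempty
  exact ⟨fun g hg => (psp_both p hC.absIrred hC.perfect (by norm_num) (Or.inr (Or.inl ⟨rfl, hK⟩)) Φ hg).2,
    fun g hg => (psp_both p hC.absIrred hC.perfect (by norm_num) (Or.inr (Or.inl ⟨rfl, hK⟩)) Φ hg).1⟩

/-- **`PSp_4(K)` in the defining characteristic, degree at most 12.** -/
theorem core_psp4 (hC : Core P) (hK : 3 ≤ Nat.card K) (Φ : Soc P ≃* PSp 2 K) (hn : Fintype.card ι ≤ 12) :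
    SD P ∧ Nat.card F = Nat.card K ∧ (
      (Fintype.card ι = 4 ∧ FixA P ∧ (p ≠ 2 → ¬ FixQ P)) ∨
      (p ≠ 2 ∧ Fintype.card ι = 5 ∧ FixQ P ∧ ¬ FixA P) ∨
      (p ≠ 2 ∧ Fintype.card ι = 10 ∧ FixQ P ∧ ¬ FixA P) ∨
      (p = 5 ∧ Fintype.card ι = 12 ∧ FixA P ∧ ¬ FixQ P)) := by
  obtain ⟨hsd, hfr⟩ := sd_psp4 p hC hK Φ
  obtain ⟨D⟩ := exists_data p hC hK Φ hn
  have hF := card_eq_of_fr hC D hfr
  refine ⟨hsd, hF, ?_⟩
  have hform := hC.forms_of_sd hsd
  have hpodd : p ≠ 2 → Odd p := fun h => hp.out.odd_of_ne_two h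
  have hA : p ≠ 2 → Even D.a → FixQ P ∧ ¬ FixA P := by
    intro h2 he
    have h3 : ¬ FixA P := fun h => (Nat.not_even_iff_odd.2 (D.odd_of_fixA hC h2 h)) he
    exact ⟨hform.resolve_right h3, h3⟩
  have hQ : p ≠ 2 → Odd D.a → FixA P ∧ ¬ FixQ P := by
    intro h2 ho
    have h3 : ¬ FixQ P := fun h => (Nat.not_odd_iff_even.2 (D.even_of_fixQ hC h2 h)) ho
    exact ⟨hform.resolve_left h3, h3⟩
  have hchar2 : p = 2 → FixA P := by
    rintro rfl
    rcases hform with h | h
    · obtain ⟨Q, hQ, hfix⟩ := h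
      have h2F : (2 : F) = 0 := CharTwo.two_eq_zero
      refine ⟨QuadraticMap.polar Q, ⟨hQ.polar_bilinear, ?_, ?_, hQ.nondegenerate⟩, ?_⟩
      · intro v w
        rw [QuadraticMap.polar_comm, CharTwo.neg_eq]
      · intro v
        unfold QuadraticMap.polar
        have h5 := hQ.smul 2 v
        rw [two_smul, h2F] at h5
        rw [h5]
        linear_combination (- Q v) * h2F
      · intro s hs u v
        unfold QuadraticMap.polar
        rw [← Matrix.mulVec_add, hfix s hs, hfix s hs, hfix s hs]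
    · exact h
  rcases D.good with ⟨i, h1, h2, h3⟩ | ⟨hp2, i, h1, h2, h3⟩ | ⟨hp2, i, h1, h2, h3⟩ | ⟨hp2, i, h1, h2, h3⟩ |
    ⟨hp5, i, h1, h2, h3⟩
  · left
    refine ⟨h3, ?_, ?_⟩
    · by_cases hp2 : p = 2
      · exact hchar2 hp2
      · exact (hQ hp2 (by rw [h1]; exact (hpodd hp2).pow)).1
    · intro hp2
      exact (hQ hp2 (by rw [h1]; exact (hpodd hp2).pow)).2
  · left
    exact ⟨h3, hchar2 hp2, fun h => absurd hp2 h⟩
  · right; left
    have h4 := hA hp2 (by rw [h1]; exact Even.zero)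
    exact ⟨hp2, h3, h4⟩
  · right; right; left
    have h4 := hA hp2 (by rw [h1]; exact even_two_mul _)
    exact ⟨hp2, h3, h4⟩
  · right; right; right
    have hp2 : p ≠ 2 := by rw [hp5]; norm_num
    have h4 := hQ hp2 (by rw [h1]; exact (by decide : Odd 5).pow)
    exact ⟨hp5, h3, h4⟩

end Forms

end Cfsg.Agent.H905.Sp4
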