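import Cfsg.Agent.H905.SLProper2

/-!
`SL ι F` preserves no non-zero form up to scalars, and lies in no tensor decomposition stabiliser;
summary: for `3 ≤ n`, `SL_n(F)` lies in no member of `Geo.InLinearClass n F`.
-/

set_option autoImplicit false
set_option linter.unusedSectionVars false

namespace Cfsg.Agent.H905

open Matrix Cfsg
open scoped commutatorElement Kronecker

variable {ι : Type} [Fintype ι] [DecidableEq ι] {F : Type*} [Field F]

/-! ### Forms -/

theorem similarity_inv {f : (ι → F) → (ι → F) → F} {g : GL ι F} {c : Fˣ}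
    (h : ∀ u v, f ((g : Matrix ι ι F) *ᵥ u) ((g : Matrix ι ι F) *ᵥ v) = (c : F) * f u v)
    (u v : ι → F) :
    f ((g⁻¹ : GL ι F).val *ᵥ u) ((g⁻¹ : GL ι F).val *ᵥ v) = ((c⁻¹ : Fˣ) : F) * f u v := by
  have h1 := h ((g⁻¹ : GL ι F).val *ᵥ u) ((g⁻¹ : GL ι F).val *ᵥ v)
  rw [Matrix.mulVec_mulVec, Matrix.mulVec_mulVec, ← Units.val_mul, mul_inv_cancel, Units.val_one,
    Matrix.one_mulVec, Matrix.one_mulVec] at h1
  rw [h1, ← mul_assoc, Units.inv_mul, one_mul]

theorem commutator_similarity_le (f : (ι → F) → (ι → F) → F) :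
    ⁅Geo.similarityGroup f, Geo.similarityGroup f⁆ ≤ preserving (glToMat ι F) f := by
  rw [Subgroup.commutator_le]
  rintro a ⟨c, hc⟩ b ⟨d, hd⟩ u v
  have hc' := similarity_inv hc
  have hd' := similarity_inv hd
  change f ((⁅a, b⁆ : GL ι F).val *ᵥ u) ((⁅a, b⁆ : GL ι F).val *ᵥ v) = f u v
  rw [commutatorElement_def, Units.val_mul, Units.val_mul, Units.val_mul]
  simp only [← Matrix.mulVec_mulVec]
  rw [hc, hd, hc', hd', Units.val_inv_eq_inv_val, Units.val_inv_eq_inv_val]
  have h1 := c.ne_zero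
  have h2 := d.ne_zero
  field_simp

theorem sl_preserving_of_similarity (hn : 3 ≤ Fintype.card ι) {f : (ι → F) → (ι → F) → F}
    (h : Geo.specialLinear ι F ≤ Geo.similarityGroup f) :
    ∀ g ∈ Geo.specialLinear ι F, ∀ u v,
      f ((g : Matrix ι ι F) *ᵥ u) ((g : Matrix ι ι F) *ᵥ v) = f u v := by
  intro g hg
  exact sl_le_of_commutator_le hn h (commutator_similarity_le f) hg

theorem exists_linearIndependent_extend (hn : 3 ≤ Fintype.card ι) {u w : ι → F}
    (h : LinearIndependent F ![u, w]) : ∃ v, LinearIndependent F ![u, v] ∧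
      LinearIndependent F ![u, v + w] := by
  obtain ⟨v, hv⟩ : ∃ v, v ∉ Submodule.span F (Set.range ![u, w]) := by
    by_contra hcon
    push Not at hcon
    have htop : Submodule.span F (Set.range ![u, w]) = ⊤ := eq_top_iff.2 fun x _ => hcon x
    have h1 := finrank_range_le_card (R := F) ![u, w]
    unfold Set.finrank at h1
    rw [htop, finrank_top, Module.finrank_fintype_fun_eq_card, Fintype.card_fin] at h1
    omega
  have hu : u ∈ Submodule.span F (Set.range ![u, w]) := Submodule.subset_span ⟨0, rfl⟩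
  have hw : w ∈ Submodule.span F (Set.range ![u, w]) := Submodule.subset_span ⟨1, rfl⟩
  have hu0 : u ≠ 0 := h.ne_zero 0
  have key : ∀ x : ι → F, x ∉ Submodule.span F (Set.range ![u, w]) →
      LinearIndependent F ![u, x] := by
    intro x hx
    rw [LinearIndependent.pair_iff' hu0]
    intro a ha
    exact hx (ha ▸ Submodule.smul_mem _ a hu)
  refine ⟨v, key v hv, key _ fun hmem => hv ?_⟩
  have := Submodule.sub_mem _ hmem hw
  simpa using this

/-- A biadditive form preserved by `SL` vanishes. -/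
theorem form_eq_zero_of_sl_preserving (hn : 3 ≤ Fintype.card ι) {f : (ι → F) → (ι → F) → F}
    (haddl : ∀ x y v, f (x + y) v = f x v + f y v) (haddr : ∀ v x y, f v (x + y) = f v x + f v y)
    (h : ∀ g ∈ Geo.specialLinear ι F, ∀ u v,
      f ((g : Matrix ι ι F) *ᵥ u) ((g : Matrix ι ι F) *ᵥ v) = f u v) (u v : ι → F) : f u v = 0 := by
  have h1 : ∀ u w, LinearIndependent F ![u, w] → f u w = 0 := by
    intro u w huw
    obtain ⟨v, hv1, hv2⟩ := exists_linearIndependent_extend hn huw
    obtain ⟨g, hg, hgu, hgv⟩ := exists_sl_pair hv1 hv2 hn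
    have h2 := h g hg u v
    rw [hgu, hgv, haddr] at h2
    simpa using h2
  by_cases hu : u = 0
  · have h2 := haddl 0 0 v
    rw [add_zero] at h2
    rw [hu]
    simpa using h2
  · by_cases huv : LinearIndependent F ![u, v]
    · exact h1 u v huv
    · -- `v = a u`
      rw [LinearIndependent.pair_iff' hu] at huv
      push Not at huv
      obtain ⟨a, rfl⟩ := huv
      obtain ⟨w, hw⟩ : ∃ w, LinearIndependent F ![u, w] := by
        obtain ⟨w, hw⟩ : ∃ w, w ∉ Submodule.span F {u} := by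
          by_contra hcon
          push Not at hcon
          have htop : Submodule.span F {u} = ⊤ := eq_top_iff.2 fun x _ => hcon x
          have h1 := finrank_span_le_card (R := F) ({u} : Set (ι → F))
          rw [htop, finrank_top, Module.finrank_fintype_fun_eq_card, Set.toFinset_card] at h1
          simp at h1
          omega
        refine ⟨w, ?_⟩
        rw [LinearIndependent.pair_iff' hu]
        intro a ha
        exact hw (ha ▸ Submodule.smul_mem _ a (Submodule.mem_span_singleton_self u))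
      have hw2 : LinearIndependent F ![u, a • u + w] := by
        rw [LinearIndependent.pair_iff' hu] at hw ⊢
        intro b hb
        refine hw (b - a) ?_
        rw [sub_smul, hb]
        simp
      have h3 := h1 u _ hw2
      rw [haddr, h1 u w hw, add_zero] at h3
      exact h3

theorem not_sl_le_similarityGroup (hn : 3 ≤ Fintype.card ι) {f : (ι → F) → (ι → F) → F}
    (haddl : ∀ x y v, f (x + y) v = f x v + f y v) (haddr : ∀ v x y, f v (x + y) = f v x + f v y)
    (hf : Geo.IsNondegenerateForm f) : ¬ Geo.specialLinear ι F ≤ Geo.similarityGroup f := by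
  intro h
  have : Nonempty ι := Fintype.card_pos_iff.1 (by omega)
  obtain ⟨v, hv⟩ := exists_ne (0 : ι → F)
  obtain ⟨⟨x, hx⟩, -⟩ := hf v hv
  exact hx (form_eq_zero_of_sl_preserving hn haddl haddr (sl_preserving_of_similarity hn h) x v)

theorem not_sl_le_similarityGroup_symplectic (hn : 3 ≤ Fintype.card ι)
    {f : (ι → F) → (ι → F) → F} (hf : Geo.IsSymplecticForm f) :
    ¬ Geo.specialLinear ι F ≤ Geo.similarityGroup f :=
  not_sl_le_similarityGroup hn hf.bilinear.add_left hf.bilinear.add_right hf.nondegenerate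

theorem unitary_add_right {σ : F ≃+* F} {f : (ι → F) → (ι → F) → F}
    (hf : Geo.IsUnitaryForm σ f) (v x y : ι → F) : f v (x + y) = f v x + f v y := by
  rw [hf.herm v (x + y), hf.add_left, map_add, ← hf.herm, ← hf.herm]

theorem not_sl_le_similarityGroup_unitary (hn : 3 ≤ Fintype.card ι) {σ : F ≃+* F}
    {f : (ι → F) → (ι → F) → F} (hf : Geo.IsUnitaryForm σ f) :
    ¬ Geo.specialLinear ι F ≤ Geo.similarityGroup f :=
  not_sl_le_similarityGroup hn hf.add_left (unitary_add_right hf) hf.nondegenerate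

theorem quadSimilarityGroup_le_polar (Q : (ι → F) → F) :
    Geo.quadSimilarityGroup Q ≤ Geo.similarityGroup (QuadraticMap.polar Q) := by
  rintro g ⟨c, hc⟩
  refine ⟨c, fun u v => ?_⟩
  simp only [QuadraticMap.polar, ← Matrix.mulVec_add, hc]
  ring

theorem not_sl_le_quadSimilarityGroup (hn : 3 ≤ Fintype.card ι) {Q : (ι → F) → F}
    (hQ : Geo.IsNondegenerateQuadraticForm Q) :
    ¬ Geo.specialLinear ι F ≤ Geo.quadSimilarityGroup Q := fun h =>
  not_sl_le_similarityGroup hn hQ.polar_bilinear.add_left hQ.polar_bilinear.add_right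
    hQ.nondegenerate (h.trans (quadSimilarityGroup_le_polar Q))

/-! ### Reindexing -/

theorem glReindex_val {κ : Type} [Fintype κ] [DecidableEq κ] (e : κ ≃ ι) (g : GL κ F) (i j : ι) :
    (Geo.glReindex e g : Matrix ι ι F) i j = (g : Matrix κ κ F) (e.symm i) (e.symm j) := rfl

theorem sl_le_map_glReindex {κ : Type} [Fintype κ] [DecidableEq κ] (e : κ ≃ ι)
    {K : Subgroup (GL κ F)} (h : Geo.specialLinear ι F ≤ K.map (Geo.glReindex e).toMonoidHom) :
    Geo.specialLinear κ F ≤ K := by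
  intro g hg
  have h1 : Geo.glReindex e g ∈ Geo.specialLinear ι F := by
    rw [mem_sl_iff] at hg ⊢
    rw [← hg]
    change ((Matrix.reindexAlgEquiv F F e) (g : Matrix κ κ F)).det = _
    rw [Matrix.coe_reindexAlgEquiv]
    exact Matrix.det_reindex_self e _
  obtain ⟨k, hk, hkg⟩ := h h1
  have : k = g := (Geo.glReindex e).injective hkg
  exact this ▸ hk

/-! ### Tensor decompositions with two factors -/

theorem not_sl_le_kroneckerSubgroup {n₁ n₂ : ℕ} (h₁ : 2 ≤ n₁) (h₂ : 2 ≤ n₂) :
    ¬ Geo.specialLinear (Fin n₁ × Fin n₂) F ≤ Geo.kroneckerSubgroup n₁ n₂ F := by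
  intro h
  let x0 : Fin n₁ := ⟨0, by omega⟩
  let x1 : Fin n₁ := ⟨1, by omega⟩
  let y0 : Fin n₂ := ⟨0, by omega⟩
  let y1 : Fin n₂ := ⟨1, by omega⟩
  have hx : x0 ≠ x1 := by simp [x0, x1, Fin.ext_iff]
  have hy : y0 ≠ y1 := by simp [y0, y1, Fin.ext_iff]
  have hne : ((x0, y0) : Fin n₁ × Fin n₂) ≠ (x1, y1) := fun h => hx (congrArg Prod.fst h)
  obtain ⟨a, b, hab⟩ := h (tv_mem hne (1 : F))
  rw [tv_val] at hab
  have e : ∀ p q : Fin n₁ × Fin n₂,
      ((1 : Matrix (Fin n₁ × Fin n₂) (Fin n₁ × Fin n₂) F) +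
        (Matrix.single (x0, y0) (x1, y1) (1 : F) :
          Matrix (Fin n₁ × Fin n₂) (Fin n₁ × Fin n₂) F)) p q =
        a.val p.1 q.1 * b.val p.2 q.2 := by
    intro p q
    rw [hab]
    rfl
  -- entries
  have e1 := e (x0, y0) (x1, y1)
  have e2 := e (x0, y0) (x0, y1)
  have e3 := e (x0, y0) (x0, y0)
  rw [Matrix.add_apply, Matrix.single_apply, if_pos ⟨rfl, rfl⟩, Matrix.one_apply_ne hne,
    zero_add] at e1
  rw [Matrix.add_apply, Matrix.single_apply,
    if_neg (fun h => hx (congrArg Prod.fst h.2).symm),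
    Matrix.one_apply_ne (fun h => hy (congrArg Prod.snd h)), zero_add] at e2
  rw [Matrix.add_apply, Matrix.single_apply,
    if_neg (fun h => hx (congrArg Prod.fst h.2).symm), Matrix.one_apply_eq, add_zero] at e3
  have hb : b.val y0 y1 ≠ 0 := fun h => by
    simp only [h, mul_zero] at e1
    exact one_ne_zero e1
  have ha : a.val x0 x0 ≠ 0 := fun h => by
    simp only [h, zero_mul] at e3
    exact one_ne_zero e3
  exact mul_ne_zero ha hb e2.symm

theorem not_sl_le_tensorProductSubgroup {n₁ n₂ : ℕ} (h₁ : 2 ≤ n₁) (h₂ : 2 ≤ n₂)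
    (e : ι ≃ Fin n₁ × Fin n₂) (P : GL ι F) :
    ¬ Geo.specialLinear ι F ≤ Geo.tensorProductSubgroup n₁ n₂ e P := by
  intro h
  unfold Geo.tensorProductSubgroup at h
  rw [sl_le_map_conj_iff] at h
  exact not_sl_le_kroneckerSubgroup h₁ h₂ (sl_le_map_glReindex e.symm h)

/-! ### Tensor decompositions with equal factors -/

/-- The shape of the elements of the standard tensor-wreath group. -/
def IsWreathShape (m t : ℕ) (M : Matrix (Fin t → Fin m) (Fin t → Fin m) F) : Prop :=
  ∃ (τ : Equiv.Perm (Fin t)) (gs : Fin t → GL (Fin m) F), ∀ x y : Fin t → Fin m,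
    M x y = ∏ i, (gs i : Matrix (Fin m) (Fin m) F) (x i) (y (τ i))

theorem isWreathShape_mul {m t : ℕ} {M M' : Matrix (Fin t → Fin m) (Fin t → Fin m) F}
    {τ τ' : Equiv.Perm (Fin t)} {gs gs' : Fin t → GL (Fin m) F}
    (h : ∀ x y : Fin t → Fin m, M x y = ∏ i, (gs i : Matrix (Fin m) (Fin m) F) (x i) (y (τ i)))
    (h' : ∀ x y : Fin t → Fin m,
      M' x y = ∏ i, (gs' i : Matrix (Fin m) (Fin m) F) (x i) (y (τ' i))) (x y : Fin t → Fin m) :
    (M * M') x y =
      ∏ i, ((gs i * gs' (τ i) : GL (Fin m) F) : Matrix (Fin m) (Fin m) F) (x i) (y (τ' (τ i))) := by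
  rw [Matrix.mul_apply]
  have h1 : ∀ i, ((gs i * gs' (τ i) : GL (Fin m) F) : Matrix (Fin m) (Fin m) F) (x i)
      (y (τ' (τ i))) = ∑ c, (gs i : Matrix (Fin m) (Fin m) F) (x i) c *
        (gs' (τ i) : Matrix (Fin m) (Fin m) F) c (y (τ' (τ i))) := by
    intro i
    rw [Units.val_mul, Matrix.mul_apply]
  simp only [h1]
  rw [Fintype.prod_sum]
  -- reindex by `τ`
  rw [← (Equiv.arrowCongr τ (Equiv.refl (Fin m))).sum_comp]
  refine Finset.sum_congr rfl fun z _ => ?_
  rw [h, h', Finset.prod_mul_distrib]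
  congr 1
  · refine Finset.prod_congr rfl fun i _ => ?_
    simp
  · rw [← Equiv.prod_comp τ (fun i => (gs' i : Matrix (Fin m) (Fin m) F)
      (((τ.arrowCongr (Equiv.refl (Fin m))) z) i) (y (τ' i)))]
    refine Finset.prod_congr rfl fun i _ => ?_
    simp

theorem isWreathShape_of_mem {m t : ℕ} {g : GL (Fin t → Fin m) F}
    (hg : g ∈ Geo.tensorWreathStandard m t F) :
    IsWreathShape m t (g : Matrix (Fin t → Fin m) (Fin t → Fin m) F) := by
  unfold Geo.tensorWreathStandard at hg
  induction hg using Subgroup.closure_induction with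
  | mem g hg =>
    rcases hg with ⟨gs, hgs⟩ | ⟨σ, hσ⟩
    · exact ⟨1, gs, fun x y => by rw [hgs]; rfl⟩
    · refine ⟨σ⁻¹, fun _ => 1, fun x y => ?_⟩
      rw [hσ]
      have h1 : (∏ i, ((1 : GL (Fin m) F) : Matrix (Fin m) (Fin m) F) (x i) (y (σ⁻¹ i))) =
          ∏ i, if x i = y (σ⁻¹ i) then (1 : F) else 0 := by
        refine Finset.prod_congr rfl fun i _ => ?_
        rw [Units.val_one, Matrix.one_apply]
      rw [h1, Finset.prod_ite_zero]
      simp only [Finset.mem_univ, true_implies, Finset.prod_const_one]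
      refine if_congr ?_ rfl rfl
      constructor
      · rintro rfl i
        simp
      · intro h
        ext i
        have := h (σ i)
        simpa using congrArg Fin.val this.symm
  | one =>
    refine ⟨1, fun _ => 1, fun x y => ?_⟩
    have h1 : (∏ i, ((1 : GL (Fin m) F) : Matrix (Fin m) (Fin m) F) (x i)
        (y ((1 : Equiv.Perm (Fin t)) i))) = ∏ i, if x i = y i then (1 : F) else 0 := by
      refine Finset.prod_congr rfl fun i _ => ?_
      rw [Units.val_one, Matrix.one_apply]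
      rfl
    rw [h1, Finset.prod_ite_zero, Units.val_one, Matrix.one_apply]
    simp only [Finset.mem_univ, true_implies, Finset.prod_const_one]
    exact if_congr funext_iff rfl rfl
  | mul g h _ _ hg hh =>
    obtain ⟨τ, gs, h1⟩ := hg
    obtain ⟨τ', gs', h2⟩ := hh
    exact ⟨τ' * τ, fun i => gs i * gs' (τ i), fun x y => by
      rw [Units.val_mul]; exact isWreathShape_mul h1 h2 x y⟩
  | inv g _ hg =>
    obtain ⟨τ, gs, h1⟩ := hg
    let M' : Matrix (Fin t → Fin m) (Fin t → Fin m) F := fun x y =>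
      ∏ i, (((gs (τ⁻¹ i))⁻¹ : GL (Fin m) F) : Matrix (Fin m) (Fin m) F) (x i) (y (τ⁻¹ i))
    have h2 := isWreathShape_mul (M' := M') (τ' := τ⁻¹) (gs' := fun i => (gs (τ⁻¹ i))⁻¹) h1
      (fun _ _ => rfl)
    have h3 : (g : Matrix (Fin t → Fin m) (Fin t → Fin m) F) * M' = 1 := by
      ext x y
      rw [h2]
      have h5 : ∀ i, τ⁻¹ (τ i) = i := fun i => τ.symm_apply_apply i
      simp only [h5, mul_inv_cancel, Units.val_one, Matrix.one_apply]
      rw [Finset.prod_ite_zero]
      simp only [Finset.mem_univ, true_implies, Finset.prod_const_one]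
      exact if_congr funext_iff.symm rfl rfl
    have h4 : ((g⁻¹ : GL (Fin t → Fin m) F) : Matrix (Fin t → Fin m) (Fin t → Fin m) F) = M' := by
      calc ((g⁻¹ : GL (Fin t → Fin m) F) : Matrix (Fin t → Fin m) (Fin t → Fin m) F)
          = ((g⁻¹ : GL (Fin t → Fin m) F) : Matrix (Fin t → Fin m) (Fin t → Fin m) F) *
            ((g : Matrix (Fin t → Fin m) (Fin t → Fin m) F) * M') := by rw [h3, mul_one]
        _ = M' := by rw [← mul_assoc, ← Units.val_mul, inv_mul_cancel, Units.val_one, one_mul]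
    exact ⟨τ⁻¹, _, fun x y => by rw [h4]⟩

theorem not_sl_le_tensorWreathStandard {m t : ℕ} (hm : 2 ≤ m) (ht : 2 ≤ t) :
    ¬ Geo.specialLinear (Fin t → Fin m) F ≤ Geo.tensorWreathStandard m t F := by
  intro h
  let a0 : Fin m := ⟨0, by omega⟩
  let a1 : Fin m := ⟨1, by omega⟩
  have ha : a0 ≠ a1 := by simp [a0, a1, Fin.ext_iff]
  let i0 : Fin t := ⟨0, by omega⟩
  let i1 : Fin t := ⟨1, by omega⟩
  have hi : i0 ≠ i1 := by simp [i0, i1, Fin.ext_iff]
  let x0 : Fin t → Fin m := fun _ => a0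
  let y0 : Fin t → Fin m := fun _ => a1
  have hxy : x0 ≠ y0 := fun h => ha (congrFun h i0)
  obtain ⟨τ, gs, hs⟩ := isWreathShape_of_mem (h (tv_mem hxy (1 : F)))
  rw [tv_val] at hs
  have e1 := hs x0 x0
  have e2 := hs x0 y0
  rw [Matrix.add_apply, Matrix.one_apply_eq, Matrix.single_apply, if_neg (fun h => hxy h.2.symm),
    add_zero] at e1
  rw [Matrix.add_apply, Matrix.one_apply_ne hxy, Matrix.single_apply, if_pos ⟨rfl, rfl⟩,
    zero_add] at e2
  have n1 : ∀ i, (gs i : Matrix (Fin m) (Fin m) F) a0 a0 ≠ 0 := fun i hi =>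
    one_ne_zero (e1.trans (Finset.prod_eq_zero (Finset.mem_univ i) hi))
  have n2 : ∀ i, (gs i : Matrix (Fin m) (Fin m) F) a0 a1 ≠ 0 := fun i hi =>
    one_ne_zero (e2.trans (Finset.prod_eq_zero (Finset.mem_univ i) hi))
  let z : Fin t → Fin m := Function.update x0 i0 a1
  have hz0 : x0 ≠ z := fun h => ha (by
    have := congrFun h i0
    simpa [z, x0] using this)
  have hz1 : y0 ≠ z := fun h => ha (by
    have := congrFun h i1
    simpa [z, x0, y0, hi.symm] using this.symm)
  have e3 := hs x0 z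
  rw [Matrix.add_apply, Matrix.one_apply_ne hz0, Matrix.single_apply, if_neg (fun h => hz1 h.2),
    zero_add] at e3
  refine absurd e3.symm (Finset.prod_ne_zero_iff.2 fun i _ => ?_)
  by_cases hi : τ i = i0
  · have : z (τ i) = a1 := by simp [z, hi]
    rw [this]
    exact n2 i
  · have : z (τ i) = a0 := by simp [z, x0, hi]
    rw [this]
    exact n1 i

theorem not_sl_le_tensorWreathSubgroup {m t : ℕ} (hm : 2 ≤ m) (ht : 2 ≤ t)
    (e : ι ≃ (Fin t → Fin m)) (P : GL ι F) :
    ¬ Geo.specialLinear ι F ≤ Geo.tensorWreathSubgroup m t e P := by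
  intro h
  unfold Geo.tensorWreathSubgroup at h
  rw [sl_le_map_conj_iff] at h
  exact not_sl_le_tensorWreathStandard hm ht (sl_le_map_glReindex e.symm h)

/-! ### Summary -/

/-- `SL_n(F)`, `n ≥ 3`, lies in no member of the geometric classes (linear case). -/
theorem not_sl_le_of_inLinearClass {F : Type*} [Field F] [Fintype F] {n : ℕ} (hn : 3 ≤ n)
    {M : Subgroup (GL (Fin n) F)} (hM : Geo.InLinearClass n F M) :
    ¬ Geo.specialLinear (Fin n) F ≤ M := by
  have hn' : 3 ≤ Fintype.card (Fin n) := by simpa using hn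
  rcases hM with ⟨W, h0, h1, rfl⟩ | ⟨W, U, h0, h1, -, rfl⟩ | ⟨W, U, h0, h1, -, h3, rfl⟩ |
    ⟨t, m, D, hD, rfl⟩ | ⟨r, K, hr, hK, rfl⟩ | ⟨n₁, n₂, e, P, h1, h2, rfl⟩ |
    ⟨F₀, r, P, hr, h1, rfl⟩ | ⟨r, R, hR, rfl⟩ | ⟨m, t, e, P, h1, h2, rfl⟩ | ⟨f, hf, -, -, rfl⟩ |
    ⟨σ, f, hf, -, rfl⟩ | ⟨Q, hQ, -, -, rfl⟩
  · exact not_sl_le_subspaceStabilizer h0 h1
  · intro h
    refine not_sl_le_subspaceStabilizer h0 ?_ (h.trans inf_le_left)
    rintro rfl
    exact not_top_lt h1
  · intro h
    refine not_sl_le_subspaceStabilizer h0 ?_ (h.trans inf_le_left)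
    rintro rfl
    rw [top_inf_eq] at h1
    rw [h1, finrank_bot] at h3
    omega
  · exact not_sl_le_decompositionStabilizer hD
  · exact not_sl_le_subalgebraNormalizer hn' hr.two_le hK
  · exact not_sl_le_tensorProductSubgroup h1 (by omega) e P
  · exact not_sl_le_subfieldSubgroup hn' (subfield_ne_top_of_card hr h1) P
  · exact not_sl_le_subgroupNormalizer hn' hR.symplecticType hR.absIrred
  · exact not_sl_le_tensorWreathSubgroup (by omega) h2 e P
  · exact not_sl_le_similarityGroup_symplectic hn' hf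
  · exact not_sl_le_similarityGroup_unitary hn' hf
  · exact not_sl_le_quadSimilarityGroup hn' hQ

/-- A maximal subgroup of `SL_n(F)`, `n ≥ 3`, contained in a class member is its intersection
with `SL_n(F)`. -/
theorem eq_inf_of_inLinearClass {F : Type*} [Field F] [Fintype F] {n : ℕ} (hn : 3 ≤ n)
    {H M : Subgroup (GL (Fin n) F)} (hH : Geo.IsMaximalIn (Geo.specialLinear (Fin n) F) H)
    (hM : Geo.InLinearClass n F M) (h : H ≤ M) : H = M ⊓ Geo.specialLinear (Fin n) F :=
  eq_inf_of_isMaximalIn hH h (not_sl_le_of_inLinearClass hn hM)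

/-- A maximal subgroup of `SL` contains the scalars of `SL`. -/
theorem scalars_inf_le_of_isMaximalIn (hn : 3 ≤ Fintype.card ι) {H : Subgroup (GL ι F)}
    (hH : Geo.IsMaximalIn (Geo.specialLinear ι F) H) :
    Geo.scalars ι F ⊓ Geo.specialLinear ι F ≤ H := by
  rcases hH.2 (H ⊔ (Geo.scalars ι F ⊓ Geo.specialLinear ι F)) le_sup_left
    (sup_le hH.1.le inf_le_right) with h | h
  · rw [← h]
    exact le_sup_right
  · exfalso
    have h1 : Geo.specialLinear ι F ≤ H ⊔ Geo.scalars ι F := by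
      rw [← h]
      exact sup_le_sup_left inf_le_left _
    exact hH.1.not_ge (sl_le_of_commutator_le hn h1 (commutator_sup_scalars_le H))

/-- A maximal subgroup of `SL` does not cover `PSL`. -/
theorem sup_scalars_ne_of_isMaximalIn (hn : 3 ≤ Fintype.card ι) {H : Subgroup (GL ι F)}
    (hH : Geo.IsMaximalIn (Geo.specialLinear ι F) H) :
    H ⊔ (Geo.scalars ι F ⊓ Geo.specialLinear ι F) ≠ Geo.specialLinear ι F := by
  rw [sup_eq_left.2 (scalars_inf_le_of_isMaximalIn hn hH)]
  exact hH.1.ne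

end Cfsg.Agent.H905
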