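import Cfsg.Agent.H905.MdH
import Cfsg.Agent.H60.CrossA
import Cfsg.Agent.H60.EvenA
import Cfsg.Agent.H259.NatMod
import Cfsg.Agent.H953.Index
import Cfsg.Agent.LieClassical.FieldTransfer
import Cfsg.Agent.LieClassical.SLGen

/-!
# `PSL(m, K)` in the defining characteristic (helper905)

`P ≤ GL(ι, F)` perfect, absolutely irreducible, `Φ : P/scalars ≃ PSL(l + 1, K)`, `char K = char F = p`, `l ≥ 1`
(`|K| ≥ 4` if `l = 1`).

* `psl_cover` : `SL(l + 1, K) → GL(ι, F)` with image `P` over `Φ`;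
* **`psl_trace`** : `tr(g) ^ |K| = tr(g)`; **`psl_card`** : `|F| ^ j = |K|` if `P` is realisable over no proper subfield;
* **`psl_rank`** : `l + 1 ≤ |ι|`;
* **`psl_dim`** : `l ≥ 2` and (`|ι| < C(l + 1, 2)` or (`l = 2`, `|ι| ≤ 5`)) imply `|ι| = l + 1`;
* **`psl_eq`** : `|ι| = l + 1` implies `P = SL(ι, F)`;
* **`psl_two`** : `l = 1` implies `tr(g⁻¹) = tr(g)`.
-/

set_option autoImplicit false
set_option linter.unusedSectionVars false
set_option linter.style.haveILetI false

namespace Cfsg.Agent.H905.Md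

open Matrix CoxeterSystem Cfsg.Agent.ChevalleyStructure.CoxeterGeom Cfsg.Agent.Tits.Roots Cfsg.Agent.Tits.Core
  Cfsg.Agent.Nodes.Reps Cfsg.Agent.Nodes.BNOf Cfsg.Agent.Nodes.Bruhat Cfsg.Agent.Omega.CR
  Cfsg.Agent.Omega.FOne.Lift.Sd Cfsg.Agent.Nodes.RootsA Cfsg.Agent.H911 Cfsg.Agent.Nodes.RGDLib
open Cfsg.Agent.LieRecognition.BNCox (cA cA_apply)
open Cfsg Cfsg.Geo Cfsg.Agent.H67
open scoped MatrixGroups commutatorElement

theorem gg_eq_top {I W Y : Type*} [Fintype I] [DecidableEq I] [Group W] [Group Y] {M : CoxeterMatrix I}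
    {cs : CoxeterSystem M W} {A : I → I → ℤ} {h : IsCartan M A} {T : Subgroup Y}
    {X : (I → ℤ) → Subgroup Y} (hG : G1 cs h X = ⊤) : GG cs h T X = ⊤ := by
  rw [eq_top_iff, ← hG]
  exact le_sup_right

section SL

variable {K : Type*} [Field K] [Finite K] {l : ℕ}

theorem sl_perfect (hl : 1 ≤ l) (hK : l = 1 → 4 ≤ Nat.card K) :
    commutator (SpecialLinearGroup (Fin (l + 1)) K) = ⊤ := by
  have := Fintype.ofFinite K
  rcases Nat.lt_or_ge l 2 with h1 | h1
  · obtain rfl : l = 1 := by omega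
    exact H259.NatMod.commutator_eq_top (by rw [← Nat.card_eq_fintype_card]; have := hK rfl; omega)
  · exact LieClassical.SLGen.commutator_eq_top (by rw [Fintype.card_fin]; omega)

theorem slT_diag {m : ℕ} {t : SpecialLinearGroup (Fin m) K} (ht : t ∈ Nodes.RGDTypeA.T (Fin m) K) :
    t.1 = Matrix.diagonal fun i => t.1 i i := by
  ext i j
  by_cases hij : i = j
  · subst hij; rw [Matrix.diagonal_apply_eq]
  · rw [Matrix.diagonal_apply_ne _ hij]
    by_contra hne
    exact hij (Nodes.RGDTypeA.mem_T.1 ht i j hne)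

theorem slT_comm {m : ℕ} : ∀ s ∈ Nodes.RGDTypeA.T (Fin m) K, ∀ t ∈ Nodes.RGDTypeA.T (Fin m) K, s * t = t * s := by
  intro s hs t ht
  apply Subtype.ext
  change s.1 * t.1 = t.1 * s.1
  rw [slT_diag hs, slT_diag ht, Matrix.diagonal_mul_diagonal, Matrix.diagonal_mul_diagonal]
  congr 1
  funext i
  exact mul_comm _ _

theorem slT_pow {m : ℕ} : ∀ t ∈ Nodes.RGDTypeA.T (Fin m) K, t ^ Nat.card K = t := by
  intro t ht
  have := Fintype.ofFinite K
  apply Subtype.ext
  change t.1 ^ Nat.card K = t.1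
  rw [slT_diag ht, Matrix.diagonal_pow]
  congr 1
  funext i
  rw [Pi.pow_apply, Nat.card_eq_fintype_card, FiniteField.pow_card]

end SL

section P

variable {F : Type*} [Field F] [Finite F] {ι : Type} [Fintype ι] [DecidableEq ι] {P : Subgroup (GL ι F)}
  {K : Type*} [Field K] [Finite K] (p : ℕ) [hp : Fact p.Prime] [hFp : CharP F p] [hKp : CharP K p] {l : ℕ}
include hp hFp hKp

theorem psl_cover (hperf : ⁅P, P⁆ = P) (hl : 1 ≤ l) (hK : l = 1 → 4 ≤ Nat.card K)
    (Φ : (P ⧸ (scalars ι F).subgroupOf P) ≃* ProjectiveSpecialLinearGroup (Fin (l + 1)) K) :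
    ∃ φ : SpecialLinearGroup (Fin (l + 1)) K →* GL ι F, φ.range = P ∧
      φ.ker ≤ Subgroup.center (SpecialLinearGroup (Fin (l + 1)) K) ∧ ∀ g, ∃ hg : φ g ∈ P, prj Φ ⟨φ g, hg⟩ = g := by
  obtain ⟨φ, h1, h2, h3⟩ := exists_cover (p := p) hperf Φ (sl_perfect hl hK)
    (fun r hr hne => H60.CrossA.noPCov_SL_cross l p hr hne)
    (πG := QuotientGroup.mk' (Subgroup.center (SpecialLinearGroup (Fin (l + 1)) K)))
    (QuotientGroup.mk'_surjective _) (by rw [QuotientGroup.ker_mk'])
  rw [QuotientGroup.ker_mk'] at h2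
  exact ⟨φ, h1, h2, h3⟩

variable (hP : ActsAbsolutelyIrreducibly (matrixSet P)) (hperf : ⁅P, P⁆ = P) (hl : 1 ≤ l)
  (hK : l = 1 → 4 ≤ Nat.card K)
  (Φ : (P ⧸ (scalars ι F).subgroupOf P) ≃* ProjectiveSpecialLinearGroup (Fin (l + 1)) K)
include hP hperf hl hK Φ

omit hP hp hFp hKp in
theorem nonempty_of_psl : 2 ≤ Fintype.card ι := by
  by_contra hcon
  -- `P` is abelian
  have h1 : ∀ a b : GL ι F, a * b = b * a := by
    intro a b
    have h2 : Subsingleton ι := Fintype.card_le_one_iff_subsingleton.1 (by omega)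
    apply Units.ext
    rw [Units.val_mul, Units.val_mul]
    ext i j
    rw [Matrix.mul_apply, Matrix.mul_apply]
    refine Finset.sum_congr rfl fun x _ => ?_
    rw [Subsingleton.elim j i, Subsingleton.elim x i, mul_comm]
  have h2 : P = ⊥ := by
    rw [eq_bot_iff, ← hperf, Subgroup.commutator_le]
    intro a _ b _
    rw [Subgroup.mem_bot, commutatorElement_eq_one_iff_mul_comm]
    exact h1 a b
  have h3 : Subsingleton P := by rw [h2]; infer_instance
  have h4 : Subsingleton (ProjectiveSpecialLinearGroup (Fin (l + 1)) K) := (prj_surjective Φ).subsingleton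
  have h5 : Subgroup.center (SpecialLinearGroup (Fin (l + 1)) K) = ⊤ := QuotientGroup.subsingleton_iff.1 h4
  have h6 : commutator (SpecialLinearGroup (Fin (l + 1)) K) = ⊥ := by
    rw [commutator_def, eq_bot_iff, Subgroup.commutator_le]
    intro a _ b _
    rw [Subgroup.mem_bot, commutatorElement_eq_one_iff_mul_comm]
    have h7 : b ∈ Subgroup.center (SpecialLinearGroup (Fin (l + 1)) K) := by rw [h5]; trivial
    exact Subgroup.mem_center_iff.1 h7 a
  rw [sl_perfect hl hK] at h6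
  have h7 : (Nodes.RGDTypeA.ns l K ⟨0, hl⟩ : SpecialLinearGroup (Fin (l + 1)) K) ∈
      (⊥ : Subgroup (SpecialLinearGroup (Fin (l + 1)) K)) := by rw [← h6]; trivial
  rw [Subgroup.mem_bot] at h7
  have h8 := Nodes.RGDTypeA.mono_ns (F := K) (⟨0, hl⟩ : Fin l) (Fin.castSucc ⟨0, hl⟩) (Fin.castSucc ⟨0, hl⟩)
    (by rw [h7]; simp)
  rw [Equiv.swap_apply_left] at h8
  exact (Fin.castSucc_lt_succ (i := (⟨0, hl⟩ : Fin l))).ne h8

/-- **The traces.** -/
theorem psl_trace {g : GL ι F} (hg : g ∈ P) :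
    (g : Matrix ι ι F).trace ^ Nat.card K = (g : Matrix ι ι F).trace := by
  obtain ⟨φ, hφ, -, -⟩ := psl_cover p hperf hl hK Φ
  have h2 := nonempty_of_psl hperf hl hK Φ
  haveI : Nonempty ι := Fintype.card_pos_iff.1 (by omega)
  have := Fintype.ofFinite K
  obtain ⟨a, -, ha⟩ := FiniteField.card K p
  rw [Nat.card_eq_fintype_card, ha]
  haveI : Finite (cA l).Group := finite_W (cA l).toCoxeterSystem (isCartan l)
  refine trace_pow (Nodes.RGDTypeA.rgd (cA l).toCoxeterSystem (isCartan l) (F := K) (p := p))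
    (gg_eq_top (Nodes.RGDTypeA.G1_eq_top _ _)) slT_comm hφ hP (a := a) ?_ hg
  intro t ht
  rw [← ha, ← Nat.card_eq_fintype_card]
  exact slT_pow t ht

/-- **The field.** -/
theorem psl_card (hns : ∀ F₀ : Subfield F, F₀ ≠ ⊤ → ¬ RealisableOver F₀ (matrixSet P)) :
    ∃ j, 1 ≤ j ∧ Nat.card F ^ j = Nat.card K := by
  have := Fintype.ofFinite K
  obtain ⟨a, -, ha⟩ := FiniteField.card K p
  have h1 : Nat.card K = p ^ (a : ℕ) := by rw [Nat.card_eq_fintype_card, ha]
  rw [h1]
  refine card_pow_eq p a.ne_zero (pow_eq_of_no_subfield hP hns p a fun g hg => ?_)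
  rw [← h1]
  exact psl_trace p hP hperf hl hK Φ hg

/-- **The rank.** -/
theorem psl_rank : l + 1 ≤ Fintype.card ι := by
  obtain ⟨φ, hφ, -, -⟩ := psl_cover p hperf hl hK Φ
  have h2 := nonempty_of_psl hperf hl hK Φ
  haveI : Nonempty ι := Fintype.card_pos_iff.1 (by omega)
  haveI : Finite (cA l).Group := finite_W (cA l).toCoxeterSystem (isCartan l)
  haveI hchar : CharP (AlgebraicClosure F) p := charP_of_injective_algebraMap (algebraMap F _).injective p
  have R := Nodes.RGDTypeA.rgd (cA l).toCoxeterSystem (isCartan l) (F := K) (p := p)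
  have hirr := ac_irr R (gg_eq_top (Nodes.RGDTypeA.G1_eq_top _ _)) slT_comm hφ hP
  have hD := finrank_D R hirr slT_comm
  have h3 := le_finrank_A R hirr (by rw [hD, Module.finrank_fintype_fun_eq_card]; omega)
  rwa [hD, mul_one, Module.finrank_fintype_fun_eq_card] at h3

/-- **The dimension.** -/
theorem psl_dim (hl2 : 2 ≤ l) (hn : Fintype.card ι < (l + 1).choose 2 ∨ (l = 2 ∧ Fintype.card ι < 6)) :
    Fintype.card ι = l + 1 := by
  obtain ⟨φ, hφ, -, -⟩ := psl_cover p hperf hl hK Φ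
  have h2 := nonempty_of_psl hperf hl hK Φ
  haveI : Nonempty ι := Fintype.card_pos_iff.1 (by omega)
  haveI : Finite (cA l).Group := finite_W (cA l).toCoxeterSystem (isCartan l)
  haveI hchar : CharP (AlgebraicClosure F) p := charP_of_injective_algebraMap (algebraMap F _).injective p
  have R := Nodes.RGDTypeA.rgd (cA l).toCoxeterSystem (isCartan l) (F := K) (p := p)
  have hirr := ac_irr R (gg_eq_top (Nodes.RGDTypeA.G1_eq_top _ _)) slT_comm hφ hP
  have h3 := finrank_eq_A R hirr hl2 (finrank_D R hirr slT_comm) (by rwa [Module.finrank_fintype_fun_eq_card])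
    (by rwa [Module.finrank_fintype_fun_eq_card])
  rwa [Module.finrank_fintype_fun_eq_card] at h3

end P

section Eq

variable {F : Type*} [Field F] [Finite F] {n : ℕ} {P : Subgroup (GL (Fin n) F)}
  {K : Type*} [Field K] [Finite K] (p : ℕ) [hp : Fact p.Prime] [hFp : CharP F p] [hKp : CharP K p] {l : ℕ}
include hp hFp hKp

omit hFp in
theorem coprime_ker {H : Type*} [Group H] {φ : SpecialLinearGroup (Fin (l + 1)) K →* H}
    (hk : φ.ker ≤ Subgroup.center (SpecialLinearGroup (Fin (l + 1)) K)) : (Nat.card φ.ker).Coprime p := by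
  have := Fintype.ofFinite K
  have h1 : Nat.card φ.ker ∣ Nat.card K - 1 := by
    refine (Subgroup.card_dvd_of_le hk).trans ?_
    rw [H60.EvenA.card_center_SL (by omega), Nat.card_eq_fintype_card]
    exact Nat.gcd_dvd_right _ _
  exact Nat.Coprime.coprime_dvd_left h1 not_dvd_card_sub_one

/-- `|K| ≤ |F|` if the dimensions agree -/
theorem psl_card_le (hperf : ⁅P, P⁆ = P) (hl : 1 ≤ l) (hK : l = 1 → 4 ≤ Nat.card K)
    (Φ : (P ⧸ (scalars (Fin n) F).subgroupOf P) ≃* ProjectiveSpecialLinearGroup (Fin (l + 1)) K) (hn : n = l + 1) :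
    Nat.card K ≤ Nat.card F := by
  subst hn
  have := Fintype.ofFinite K
  have := Fintype.ofFinite F
  obtain ⟨φ, hφ, hk, -⟩ := psl_cover p hperf hl hK Φ
  have h1 : Nat.card (SpecialLinearGroup (Fin (l + 1)) K) = Nat.card φ.ker * Nat.card P := by
    rw [Subgroup.card_eq_card_quotient_mul_card_subgroup φ.ker,
      Nat.card_congr (QuotientGroup.quotientKerEquivRange φ).toEquiv, hφ, mul_comm]
  have h2 : Nat.card P ∣ Nat.card (SpecialLinearGroup (Fin (l + 1)) F) := by
    have hdet := le_specialLinear_of_perfect hperf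
    refine Subgroup.card_dvd_of_injective
      ({ toFun := fun g => ⟨(g : GL (Fin (l + 1)) F).1, by
          have h6 := hdet g.2
          have h7 : Matrix.GeneralLinearGroup.det (g : GL (Fin (l + 1)) F) = 1 := h6
          exact congrArg Units.val h7⟩
         map_one' := rfl
         map_mul' := fun _ _ => rfl } : P →* SpecialLinearGroup (Fin (l + 1)) F) ?_
    intro x y e
    exact Subtype.ext (Units.ext (congrArg Subtype.val e))
  rw [H953.card_SL (l + 1) (by omega)] at h1 h2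
  set s := ∑ i ∈ Finset.range (l + 1), i with hs
  have hs1 : 1 ≤ s := by
    rw [hs]
    have h3 : (1 : ℕ) ∈ Finset.range (l + 1) := by rw [Finset.mem_range]; omega
    exact Finset.single_le_sum (f := fun i => i) (fun _ _ => Nat.zero_le _) h3
  have hKc : (Fintype.card K ^ s).Coprime (Nat.card φ.ker) := by
    apply Nat.Coprime.pow_left
    obtain ⟨a, -, ha⟩ := FiniteField.card K p
    rw [ha]
    exact Nat.Coprime.pow_left _ (coprime_ker p hk).symm
  have h3 : Fintype.card K ^ s ∣ Nat.card P := by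
    refine hKc.dvd_of_dvd_mul_left ?_
    rw [← h1]
    exact Dvd.intro _ rfl
  have h4 : Fintype.card K ^ s ∣ Fintype.card F ^ s := by
    refine Nat.Coprime.dvd_of_dvd_mul_right ?_ (h3.trans h2)
    refine Nat.Coprime.prod_right fun j hj => ?_
    apply Nat.Coprime.pow_left
    obtain ⟨a, -, ha⟩ := FiniteField.card K p
    rw [ha]
    apply Nat.Coprime.pow_left
    obtain ⟨b, -, hb⟩ := FiniteField.card F p
    rw [Nat.Prime.coprime_iff_not_dvd hp.out]
    intro hd
    rw [Finset.mem_Icc] at hj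
    have h5 : p ∣ Fintype.card F ^ j := by rw [hb]; exact dvd_pow (dvd_pow_self p b.ne_zero) (by omega)
    have h6 : 1 ≤ Fintype.card F ^ j := Nat.one_le_pow _ _ Fintype.card_pos
    have h7 : p ∣ 1 := by
      have h8 := Nat.dvd_sub h5 hd
      have h9 : Fintype.card F ^ j - (Fintype.card F ^ j - 1) = 1 := by omega
      rwa [h9] at h8
    exact hp.out.one_lt.ne' (Nat.dvd_one.1 h7)
  have h5 := (Nat.pow_dvd_pow_iff (by omega)).1 h4
  rw [Nat.card_eq_fintype_card, Nat.card_eq_fintype_card]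
  exact Nat.le_of_dvd Fintype.card_pos h5

/-- **Recognition of `SL(n, F)`.** -/
theorem psl_eq (hP : ActsAbsolutelyIrreducibly (matrixSet P)) (hperf : ⁅P, P⁆ = P) (hl : 1 ≤ l)
    (hK : l = 1 → 4 ≤ Nat.card K)
    (Φ : (P ⧸ (scalars (Fin n) F).subgroupOf P) ≃* ProjectiveSpecialLinearGroup (Fin (l + 1)) K)
    (hns : ∀ F₀ : Subfield F, F₀ ≠ ⊤ → ¬ RealisableOver F₀ (matrixSet P)) (hn : n = l + 1) :
    Nat.card K = Nat.card F ∧ P = specialLinear (Fin n) F := by
  have h1 := psl_card_le p hperf hl hK Φ hn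
  obtain ⟨j, hj, h2⟩ := psl_card p hP hperf hl hK Φ hns
  have h3 : Nat.card K = Nat.card F := by
    refine le_antisymm h1 ?_
    rw [← h2]
    calc Nat.card F = Nat.card F ^ 1 := (pow_one _).symm
      _ ≤ Nat.card F ^ j := Nat.pow_le_pow_right Nat.card_pos hj
  refine ⟨h3, ?_⟩
  have := Fintype.ofFinite K
  have := Fintype.ofFinite F
  have e : K ≃+* F := FiniteField.ringEquivOfCardEq (by
    rw [← Nat.card_eq_fintype_card, ← Nat.card_eq_fintype_card, h3])
  subst hn
  refine eq_specialLinear_of_card hperf (sl_perfect hl fun h => by rw [← h3]; exact hK h) ?_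
  rw [Nat.card_congr Φ.toEquiv]
  exact Nat.card_congr (LieClassical.FieldTransfer.pslCongr e).toEquiv

end Eq

section Two

variable {F : Type*} [Field F] [Finite F] {ι : Type} [Fintype ι] [DecidableEq ι] {P : Subgroup (GL ι F)}
  {K : Type*} [Field K] [Finite K] (p : ℕ) [hp : Fact p.Prime] [hFp : CharP F p] [hKp : CharP K p]
include hp hFp hKp

omit hp hFp hKp in
theorem mono_swap_inv {n : SpecialLinearGroup (Fin 2) K} (hn : Nodes.RGDTypeA.Mono (Equiv.swap 0 1) n)
    {t : SpecialLinearGroup (Fin 2) K} (ht : t ∈ Nodes.RGDTypeA.T (Fin 2) K) : n⁻¹ * t⁻¹ * n = t := by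
  have h1 : t.1 0 1 = 0 := by
    by_contra h; exact absurd (Nodes.RGDTypeA.mem_T.1 ht 0 1 h) (by decide)
  have h2 : t.1 1 0 = 0 := by
    by_contra h; exact absurd (Nodes.RGDTypeA.mem_T.1 ht 1 0 h) (by decide)
  have h3 : n.1 0 0 = 0 := by
    by_contra h; exact absurd (hn 0 0 h) (by decide)
  have h4 : n.1 1 1 = 0 := by
    by_contra h; exact absurd (hn 1 1 h) (by decide)
  have h5 := t.2
  rw [Matrix.det_fin_two, h1, h2, mul_zero, sub_zero] at h5
  have h6 : t⁻¹ * n = n * t := by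
    apply Subtype.ext
    change t.1.adjugate * n.1 = n.1 * t.1
    ext i j
    fin_cases i <;> fin_cases j <;> simp [Matrix.mul_apply, Matrix.adjugate_fin_two, h1, h2, h3, h4, mul_comm]
  rw [mul_assoc, h6]
  group

/-- **Type `L₂`: real traces.** -/
theorem psl_two (hP : ActsAbsolutelyIrreducibly (matrixSet P)) (hperf : ⁅P, P⁆ = P) (hK : 4 ≤ Nat.card K)
    (Φ : (P ⧸ (scalars ι F).subgroupOf P) ≃* ProjectiveSpecialLinearGroup (Fin 2) K) {g : GL ι F} (hg : g ∈ P) :
    ((g⁻¹ : GL ι F) : Matrix ι ι F).trace = (g : Matrix ι ι F).trace := by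
  obtain ⟨φ, hφ, -, -⟩ := psl_cover (l := 1) p hperf le_rfl (fun _ => hK) Φ
  have h2 := nonempty_of_psl (l := 1) hperf le_rfl (fun _ => hK) Φ
  haveI : Nonempty ι := Fintype.card_pos_iff.1 (by omega)
  haveI : Finite (cA 1).Group := finite_W (cA 1).toCoxeterSystem (isCartan 1)
  have R := Nodes.RGDTypeA.rgd (cA 1).toCoxeterSystem (isCartan 1) (F := K) (p := p)
  have h3 := trace_inv_pow R (gg_eq_top (Nodes.RGDTypeA.G1_eq_top _ _)) slT_comm hφ hP
    (w0 := (cA 1).toCoxeterSystem.simple 0) ?_ (w := Nodes.RGDTypeA.ns 1 K 0) ?_ (a := 0) ?_ hg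
  · rwa [pow_zero, pow_one] at h3
  · intro x
    have e : x = x 0 • sr (0 : Fin 1) := by
      funext i
      obtain rfl : i = 0 := Subsingleton.elim _ _
      rw [Pi.smul_apply, sr_self, smul_eq_mul, mul_one]
    rw [e, map_smul, rep_simple_sr, smul_neg]
  · exact rp_simple _ _ 0
  · intro t ht
    rw [pow_zero, pow_one]
    exact mono_swap_inv (Nodes.RGDTypeA.mono_ns 0) ht

end Two

end Cfsg.Agent.H905.Md
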