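import Cfsg.Agent.H905.MdL
import Cfsg.Agent.H905.MdI
import Cfsg.Agent.H908.TrFrob

/-!
# Forms from traces, any characteristic (helper905)

* `symp_of_symm` : `char F = 2`, `P` irreducible of degree `≥ 2`, a symmetric invariant form is alternating;
* **`quad_or_symp`** : real traces imply a quadratic or a symplectic form;
* **`forms_of_inv`** : `tr(g⁻¹) = tr(g) ^ (p ^ b)` implies a quadratic, a symplectic or a unitary form.
-/

set_option autoImplicit false
set_option linter.unusedSectionVars false
set_option linter.style.haveILetI false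

namespace Cfsg.Agent.H905.Md

open Cfsg Cfsg.Geo
open scoped MatrixGroups Matrix

variable {F : Type*} [Field F] [Finite F] {ι : Type} [Fintype ι] [DecidableEq ι] {P : Subgroup (GL ι F)}

theorem symp_of_symm (h2 : (2 : F) = 0) (hn : 2 ≤ Fintype.card ι) (hP : ActsIrreducibly (matrixSet P))
    {f : (ι → F) → (ι → F) → F} (hf : IsBilinearForm f) (hnd : IsNondegenerateForm f)
    (hfix : FixesForm (matrixSet P) f) (hs : ∀ u v, f u v = f v u) : IsSymplecticForm f := by
  have hchar : CharP F 2 := CharTwo.of_one_ne_zero_of_two_eq_zero one_ne_zero h2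
  have := Fintype.ofFinite F
  let L : Submodule F (ι → F) :=
    { carrier := {v | f v v = 0}
      zero_mem' := by
        have := hf.smul_left 0 0 0
        rwa [zero_smul, zero_mul] at this
      add_mem' := by
        intro a b ha hb
        change f (a + b) (a + b) = 0
        rw [hf.add_left, hf.add_right, hf.add_right, show f a a = 0 from ha, show f b b = 0 from hb, hs b a, zero_add,
          add_zero]
        exact CharTwo.add_self_eq_zero _
      smul_mem' := by
        intro c a ha
        change f (c • a) (c • a) = 0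
        rw [hf.smul_left, hf.smul_right, show f a a = 0 from ha, mul_zero, mul_zero] }
  have hL := hP L (by
    rintro _ ⟨g, hg, rfl⟩ _ ⟨v, hv, rfl⟩
    change f _ _ = 0
    rw [Matrix.toLin'_apply]
    exact (hfix _ ⟨g, hg, rfl⟩ v v).trans hv)
  have htop : L = ⊤ := by
    refine hL.resolve_left fun hbot => ?_
    -- two independent vectors
    have hfr : 2 ≤ Module.finrank F (ι → F) := by rwa [Module.finrank_fintype_fun_eq_card]
    obtain ⟨i, j, hij⟩ := Fintype.exists_pair_of_one_lt_card (α := ι) (by omega)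
    have hx0 : (Pi.single i 1 : ι → F) ≠ 0 := by
      intro h
      have := congrFun h i
      simp at this
    set x : ι → F := Pi.single i 1 with hx
    set y : ι → F := Pi.single j 1 with hy
    by_cases hyy : f y y = 0
    · have h1 : y ∈ L := hyy
      rw [hbot, Submodule.mem_bot] at h1
      have := congrFun h1 j
      simp [hy] at this
    · -- `c ^ 2 = f x x / f y y`
      obtain ⟨c, hc⟩ : ∃ c : F, c ^ 2 = f x x * (f y y)⁻¹ := by
        have hinj : Function.Injective (frobenius F 2) := frobenius_inj F 2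
        obtain ⟨c, hc⟩ := Finite.surjective_of_injective hinj (f x x * (f y y)⁻¹)
        exact ⟨c, hc⟩
      have h1 : x + c • y ∈ L := by
        change f (x + c • y) (x + c • y) = 0
        rw [hf.add_left, hf.add_right, hf.add_right, hs (c • y) x, hf.smul_left c y (c • y), hf.smul_right c y y,
          ← mul_assoc, ← sq, hc, mul_assoc, inv_mul_cancel₀ hyy, mul_one]
        have h3 : f x x + f x (c • y) + (f x (c • y) + f x x) = (f x x + f x (c • y)) + (f x x + f x (c • y)) := by ring
        rw [h3]
        exact CharTwo.add_self_eq_zero _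
      rw [hbot, Submodule.mem_bot] at h1
      have h3 := congrFun h1 i
      rw [Pi.add_apply, Pi.smul_apply, hx, hy, Pi.single_eq_same, Pi.single_eq_of_ne hij, smul_zero, add_zero] at h3
      exact one_ne_zero h3
  refine ⟨hf, fun v w => ?_, fun v => ?_, hnd⟩
  · rw [hs v w, CharTwo.neg_eq]
  · have h1 : v ∈ L := by rw [htop]; trivial
    exact h1

/-- **Real traces.** -/
theorem quad_or_symp (hn : 2 ≤ Fintype.card ι) (hP : ActsAbsolutelyIrreducibly (matrixSet P))
    (htr : ∀ g ∈ P, ((g⁻¹ : GL ι F) : Matrix ι ι F).trace = (g : Matrix ι ι F).trace) :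
    (∃ Q : (ι → F) → F, IsNondegenerateQuadraticForm Q ∧ FixesQuadForm (matrixSet P) Q) ∨
      (∃ f : (ι → F) → (ι → F) → F, IsSymplecticForm f ∧ FixesForm (matrixSet P) f) := by
  haveI : Nonempty ι := Fintype.card_pos_iff.1 (by omega)
  by_cases h2 : (2 : F) = 0
  · obtain ⟨f, hf, hnd, hfix, hs⟩ := H920.exists_bilinear_of_trace hP htr
    have hchar : CharP F 2 := CharTwo.of_one_ne_zero_of_two_eq_zero one_ne_zero h2
    have hs' : ∀ u v, f u v = f v u := by
      rcases hs with hs | hs
      · exact hs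
      · intro u v
        rw [hs, CharTwo.neg_eq]
    exact Or.inr ⟨f, symp_of_symm h2 hn hP.1 hf hnd hfix hs', hfix⟩
  · exact H908.quad_or_symp_of_real h2 hP htr

/-- **Forms from traces.** -/
theorem forms_of_inv (hn : 2 ≤ Fintype.card ι) (hP : ActsAbsolutelyIrreducibly (matrixSet P))
    (hns : ∀ F₀ : Subfield F, F₀ ≠ ⊤ → ¬ RealisableOver F₀ (matrixSet P)) {p : ℕ} [hp : Fact p.Prime] [CharP F p]
    {b : ℕ} (htr : ∀ g ∈ P, ((g⁻¹ : GL ι F) : Matrix ι ι F).trace = (g : Matrix ι ι F).trace ^ p ^ b) :
    ((∃ Q : (ι → F) → F, IsNondegenerateQuadraticForm Q ∧ FixesQuadForm (matrixSet P) Q) ∨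
      (∃ f : (ι → F) → (ι → F) → F, IsSymplecticForm f ∧ FixesForm (matrixSet P) f)) ∨
    (∃ (σ : F ≃+* F) (f : (ι → F) → (ι → F) → F), (∀ x, σ x = x ^ p ^ b) ∧ IsUnitaryForm σ f ∧
      FixesForm (matrixSet P) f) := by
  have : ExpChar F p := ExpChar.prime hp.out
  have h1 : ∀ g ∈ P, (g : Matrix ι ι F).trace ^ p ^ (b + b) = (g : Matrix ι ι F).trace := by
    intro g hg
    have h2 := htr g⁻¹ (inv_mem hg)
    rw [inv_inv, htr g hg, ← pow_mul, ← pow_add] at h2
    exact h2.symm
  have h2 := pow_eq_of_no_subfield hP hns p (b + b) h1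
  have hperf : PerfectRing F p := PerfectField.toPerfectRing p
  let σ : F ≃+* F := iterateFrobeniusEquiv F p b
  have hσ : ∀ x, σ x = x ^ p ^ b := fun x => iterateFrobeniusEquiv_apply _ _ _ _
  have hσσ : ∀ x, σ (σ x) = x := by
    intro x
    rw [hσ, hσ, ← pow_mul, ← pow_add, h2]
  by_cases h3 : σ = RingEquiv.refl F
  · left
    refine quad_or_symp hn hP fun g hg => ?_
    rw [htr g hg, ← hσ, h3]
    rfl
  · right
    obtain ⟨f, hf, hfix⟩ := H920.exists_unitary_of_trace hP σ h3 hσσ (fun g hg => by rw [hσ]; exact htr g hg)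
    exact ⟨σ, f, hσ, hf, hfix⟩

end Cfsg.Agent.H905.Md
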