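import Cfsg.Agent.H905.MdF
import Cfsg.Agent.H905.PCover
import Cfsg.Agent.H911.DualTw
import Cfsg.Agent.H920.Realise
import Cfsg.Agent.H920.Basic

/-!
# Linear groups covered by groups with a root group datum (helper905)

`φ : G → GL(ι, F)` with image `P`, `P` absolutely irreducible, `G` generated by a root group datum `R` with commutative
torus `T`.

* `acRep φ` : the representation over the algebraic closure, `acRep_irr`;
* `exists_chi` : an eigenvector of `T` in `V^U`; `finrank_D` : `dim V^U = 1`;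
* **`trace_pow`** : `t ^ (p ^ a) = t` on `T` implies `tr(g) ^ (p ^ a) = tr(g)`;
* **`trace_inv_pow`** : `w⁻¹ t⁻¹ w = t ^ (p ^ a)` on `T` implies `tr(g⁻¹) = tr(g) ^ (p ^ a)` (`w` over `-1`).
-/

set_option autoImplicit false
set_option linter.unusedSectionVars false
set_option linter.style.haveILetI false

namespace Cfsg.Agent.H905.Md

open CoxeterSystem Cfsg.Agent.ChevalleyStructure.CoxeterGeom Cfsg.Agent.Tits.Roots Cfsg.Agent.Tits.Core
  Cfsg.Agent.Tits.Exchange Cfsg.Agent.Nodes.Reps Cfsg.Agent.Nodes.BNOf Cfsg.Agent.Nodes.StabComb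
  Cfsg.Agent.Nodes.Bruhat Cfsg.Agent.Nodes.OppDec Cfsg.Agent.Nodes.LeviDec Cfsg.Agent.KFacts.RgdOpp
  Cfsg.Agent.Omega.CR Cfsg.Agent.Omega.FOne.Lift.Sd Cfsg.Agent.H911
open Cfsg Cfsg.Geo
open scoped MatrixGroups Matrix

section Ac

variable {G F : Type*} {ι : Type} [Group G] [Fintype ι] [DecidableEq ι] [Field F]

/-- the matrix representation over the algebraic closure -/
noncomputable def acRep (φ : G →* GL ι F) : G →* Matrix ι ι (AlgebraicClosure F) :=
  ((algebraMap F (AlgebraicClosure F)).mapMatrix (m := ι)).toMonoidHom.comp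
    ((Units.coeHom (Matrix ι ι F)).comp φ)

theorem acRep_apply (φ : G →* GL ι F) (g : G) :
    acRep φ g = (φ g : Matrix ι ι F).map (algebraMap F (AlgebraicClosure F)) := rfl

theorem trace_acRep (φ : G →* GL ι F) (g : G) :
    (acRep φ g).trace = algebraMap F (AlgebraicClosure F) ((φ g : Matrix ι ι F).trace) := by
  rw [acRep_apply]
  exact (AddMonoidHom.map_trace (algebraMap F (AlgebraicClosure F)) (φ g : Matrix ι ι F)).symm

theorem acRep_irr {P : Subgroup (GL ι F)} {φ : G →* GL ι F} (hφ : φ.range = P)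
    (hs : Submodule.span F (matrixSet P) = ⊤) {H : Subgroup G} (hH : H = ⊤)
    (L : Submodule (AlgebraicClosure F) (ι → AlgebraicClosure F)) (hL : Ivt (lin (acRep φ)) H L) :
    L = ⊥ ∨ L = ⊤ := by
  have key : ∀ M : Matrix ι ι F, ∀ v ∈ L, (M.map (algebraMap F (AlgebraicClosure F))).mulVec v ∈ L := by
    intro M
    have hM : M ∈ Submodule.span F (matrixSet P) := by rw [hs]; trivial
    induction hM using Submodule.span_induction with
    | mem x hx =>
      obtain ⟨g, hg, rfl⟩ := hx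
      rw [SetLike.mem_coe, ← hφ] at hg
      obtain ⟨y, rfl⟩ := hg
      intro v hv
      exact hL y (by rw [hH]; trivial) v hv
    | zero =>
      intro v _
      have h1 : (0 : Matrix ι ι F).map (algebraMap F (AlgebraicClosure F)) = 0 := by
        ext i j
        simp
      rw [h1, Matrix.zero_mulVec]
      exact L.zero_mem
    | add x y _ _ hx hy =>
      intro v hv
      rw [Matrix.map_add _ (map_add _), Matrix.add_mulVec]
      exact L.add_mem (hx v hv) (hy v hv)
    | smul a x _ hx =>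
      intro v hv
      have h1 : (a • x).map (algebraMap F (AlgebraicClosure F)) =
          algebraMap F (AlgebraicClosure F) a • x.map (algebraMap F (AlgebraicClosure F)) := by
        ext i j
        simp
      rw [h1, Matrix.smul_mulVec]
      exact L.smul_mem _ (hx v hv)
  rcases eq_or_ne L ⊥ with h0 | h0
  · exact Or.inl h0
  · right
    obtain ⟨v, hv, hv0⟩ := (Submodule.ne_bot_iff _).1 h0
    obtain ⟨i, hi⟩ : ∃ i, v i ≠ 0 := by
      by_contra hcon
      push Not at hcon
      exact hv0 (funext hcon)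
    have hsingle : ∀ j, (Pi.single j 1 : ι → AlgebraicClosure F) ∈ L := by
      intro j
      have h1 := L.smul_mem (v i)⁻¹ (key (Matrix.single j i 1) v hv)
      convert h1 using 1
      funext l
      have h2 : (Matrix.single j i (1 : F)).map (algebraMap F (AlgebraicClosure F)) =
          Matrix.single j i (1 : AlgebraicClosure F) := by
        ext a b
        simp [Matrix.single, Matrix.map_apply, apply_ite (algebraMap F (AlgebraicClosure F))]
      rw [h2, Matrix.single_mulVec]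
      by_cases hl : l = j
      · subst hl
        simp [hi]
      · simp [hl]
    rw [eq_top_iff]
    intro w _
    rw [← Finset.univ_sum_single w]
    refine L.sum_mem fun j _ => ?_
    have h1 := L.smul_mem (w j) (hsingle j)
    rwa [← Pi.single_smul, smul_eq_mul, mul_one] at h1

end Ac

section Chi

variable {I W Y : Type*} [Fintype I] [DecidableEq I] [Group W] [Group Y] {M : CoxeterMatrix I}
  {cs : CoxeterSystem M W} {A : I → I → ℤ} {h : IsCartan M A} {p : ℕ} {T : Subgroup Y} {n : I → Y}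
  {X : (I → ℤ) → Subgroup Y} {k V : Type*} [Field k] [AddCommGroup V] [Module k V]

/-- a commuting family on a simple module over an algebraically closed field acts by scalars -/
theorem exists_chi (R : RGD cs h p T n X) [Finite Y] [Finite W] [Fact p.Prime] [CharP k p] [IsAlgClosed k]
    [FiniteDimensional k V] [Nontrivial V] {ρ : Y →* Module.End k V}
    (hirr : ∀ L : Submodule k V, Ivt ρ (GG cs h T X) L → L = ⊥ ∨ L = ⊤)
    (hT : ∀ s ∈ T, ∀ t ∈ T, s * t = t * s) :
    ∃ c ∈ fx ρ (RGD.Sup X (RGD.Pos cs h)), c ≠ 0 ∧ ∃ χ : Y → k, ∀ t ∈ T, ρ t c = χ t • c := by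
  have h1 := simp_fx R ρ hirr
  set S := fx ρ (RGD.Sup X (RGD.Pos cs h)) with hS
  obtain ⟨c, hc, hc0⟩ := (Submodule.ne_bot_iff _).1 h1.ne
  refine ⟨c, hc, hc0, ?_⟩
  have hsc : ∀ t ∈ T, ∃ a : k, ∀ v ∈ S, ρ t v = a • v := by
    intro t ht
    have hne : Nontrivial S := ⟨⟨⟨c, hc⟩, 0, fun e => hc0 (congrArg Subtype.val e)⟩⟩
    obtain ⟨a, ha⟩ := Module.End.exists_eigenvalue ((ρ t).restrict (fun v hv => h1.inv t ht v hv) : Module.End k S)
    obtain ⟨w, hw⟩ := ha.exists_hasEigenvector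
    refine ⟨a, ?_⟩
    have h2 : LinearMap.ker (ρ t - a • LinearMap.id) ⊓ S = S := by
      refine (h1.simple _ inf_le_right ?_).resolve_left ?_
      · intro s hs v hv
        refine ⟨?_, h1.inv s hs v hv.2⟩
        have h3 : ρ t v - a • v = 0 := hv.1
        change ρ t (ρ s v) - a • ρ s v = 0
        rw [← rho_mul, hT t ht s hs, rho_mul, sub_eq_zero.1 h3, map_smul, sub_self]
      · intro e
        have h3 : (w : V) ∈ LinearMap.ker (ρ t - a • LinearMap.id) ⊓ S := by
          refine ⟨?_, w.2⟩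
          change ρ t (w : V) - a • (w : V) = 0
          have h4 := congrArg Subtype.val (Module.End.mem_eigenspace_iff.1 hw.1)
          rw [sub_eq_zero]
          exact h4
        rw [e, Submodule.mem_bot] at h3
        exact hw.2 (Subtype.ext h3)
    intro v hv
    rw [← h2] at hv
    exact sub_eq_zero.1 hv.1
  choose! χ hχ using hsc
  exact ⟨χ, fun t ht => hχ t ht c hc⟩

/-- `dim V^U = 1` -/
theorem finrank_D (R : RGD cs h p T n X) [Finite Y] [Finite W] [Fact p.Prime] [CharP k p] [IsAlgClosed k]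
    [FiniteDimensional k V] [Nontrivial V] {ρ : Y →* Module.End k V}
    (hirr : ∀ L : Submodule k V, Ivt ρ (GG cs h T X) L → L = ⊥ ∨ L = ⊤)
    (hT : ∀ s ∈ T, ∀ t ∈ T, s * t = t * s) : Module.finrank k (D cs h X ρ) = 1 := by
  obtain ⟨c, hc, hc0, χ, hχ⟩ := exists_chi R hirr hT
  have h1 := fx_eq_span R ρ hirr hc hc0 hχ
  rw [show D cs h X ρ = fx ρ (RGD.Sup X (RGD.Pos cs h)) from rfl, h1]
  exact finrank_span_singleton hc0

theorem chi_pow {ρ : Y →* Module.End k V} {c : V} (hc0 : c ≠ 0) {χ : Y → k} (hχ : ∀ t ∈ T, ρ t c = χ t • c)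
    {t : Y} (ht : t ∈ T) (N : ℕ) : χ (t ^ N) = χ t ^ N := by
  have h1 : ∀ N : ℕ, ρ (t ^ N) c = χ t ^ N • c := by
    intro N
    induction N with
    | zero => rw [pow_zero, pow_zero, map_one, one_smul]; rfl
    | succ N ih => rw [pow_succ, rho_mul, hχ t ht, map_smul, ih, smul_smul, pow_succ, mul_comm]
  have h2 := hχ _ (pow_mem ht N)
  rw [h1] at h2
  exact (smul_left_injective k hc0 h2).symm

end Chi

section TraceP

variable {I W Y : Type*} [Fintype I] [DecidableEq I] [Group W] [Group Y] {M : CoxeterMatrix I}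
  {cs : CoxeterSystem M W} {A : I → I → ℤ} {h : IsCartan M A} {p : ℕ} {T : Subgroup Y} {n : I → Y}
  {X : (I → ℤ) → Subgroup Y} {F : Type*} [Field F] {ι : Type} [Fintype ι] [DecidableEq ι]
  {P : Subgroup (GL ι F)}

/-- the automorphism `x ↦ x ^ (p ^ a)` of the algebraic closure -/
theorem exists_frob (F : Type*) [Field F] (p : ℕ) [Fact p.Prime] [CharP F p] (a : ℕ) :
    ∃ s : AlgebraicClosure F ≃+* AlgebraicClosure F, ∀ x, s x = x ^ p ^ a := by
  have h1 : CharP (AlgebraicClosure F) p := charP_of_injective_algebraMap (algebraMap F _).injective p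
  have h2 : ExpChar (AlgebraicClosure F) p := ExpChar.prime Fact.out
  have h3 : PerfectRing (AlgebraicClosure F) p := PerfectField.toPerfectRing p
  exact ⟨iterateFrobeniusEquiv _ p a, fun x => iterateFrobeniusEquiv_apply _ _ _ _⟩

variable (R : RGD cs h p T n X) [Finite Y] [Finite W] [Fact p.Prime] [CharP F p] [Nonempty ι]
  (hG : GG cs h T X = ⊤) (hT : ∀ s ∈ T, ∀ t ∈ T, s * t = t * s) {φ : Y →* GL ι F} (hφ : φ.range = P)
  (hP : ActsAbsolutelyIrreducibly (matrixSet P))
include R hG hT hφ hP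

theorem ac_irr (L : Submodule (AlgebraicClosure F) (ι → AlgebraicClosure F))
    (hL : Ivt (lin (acRep φ)) (GG cs h T X) L) : L = ⊥ ∨ L = ⊤ :=
  acRep_irr hφ (H920.span_eq_top hP) hG L hL

/-- **The field of the traces.** -/
theorem trace_pow {a : ℕ} (ha : ∀ t ∈ T, t ^ p ^ a = t) {g : GL ι F} (hg : g ∈ P) :
    (g : Matrix ι ι F).trace ^ p ^ a = (g : Matrix ι ι F).trace := by
  have hchar : CharP (AlgebraicClosure F) p := charP_of_injective_algebraMap (algebraMap F _).injective p
  have hirr := ac_irr R hG hT hφ hP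
  obtain ⟨c, hc, hc0, χ, hχ⟩ := exists_chi R hirr hT
  obtain ⟨s, hs⟩ := exists_frob F p a
  rw [← hφ] at hg
  obtain ⟨y, rfl⟩ := hg
  have h1 := trace_fixed R (acRep φ) hirr hc hc0 hχ s (fun t ht => by
    rw [hs, ← chi_pow hc0 hχ ht, ha t ht]) (g := y) (by rw [hG]; trivial)
  rw [hs, trace_acRep, ← map_pow] at h1
  exact (algebraMap F (AlgebraicClosure F)).injective h1

/-- **Duality of the traces.** -/
theorem trace_inv_pow {w0 : W} (hw0 : ∀ x, rep cs h w0 x = -x) {w : Y} (hw : Rp cs R.nsys w0 w) {a : ℕ}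
    (ha : ∀ t ∈ T, w⁻¹ * t⁻¹ * w = t ^ p ^ a) {g : GL ι F} (hg : g ∈ P) :
    ((g⁻¹ : GL ι F) : Matrix ι ι F).trace = (g : Matrix ι ι F).trace ^ p ^ a := by
  have hchar : CharP (AlgebraicClosure F) p := charP_of_injective_algebraMap (algebraMap F _).injective p
  have hirr := ac_irr R hG hT hφ hP
  obtain ⟨c, hc, hc0, χ, hχ⟩ := exists_chi R hirr hT
  obtain ⟨s, hs⟩ := exists_frob F p a
  rw [← hφ] at hg
  obtain ⟨y, rfl⟩ := hg
  have h1 := trace_inv R (acRep φ) hirr hc hc0 hχ hw0 hw s (fun t ht => by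
    rw [hs, ha t ht, chi_pow hc0 hχ ht]) (g := y) (by rw [hG]; trivial)
  rw [hs, trace_acRep, trace_acRep, ← map_pow, map_inv] at h1
  exact (algebraMap F (AlgebraicClosure F)).injective h1

end TraceP

/-! ### finite fields -/

section Fin

variable {F : Type*} [Field F] {ι : Type} [Fintype ι] [DecidableEq ι] {P : Subgroup (GL ι F)}

/-- If all traces satisfy `x ^ p ^ a = x` and `P` is realisable over no proper subfield then all field
elements satisfy it. -/
theorem pow_eq_of_no_subfield [Finite F] (hP : ActsAbsolutelyIrreducibly (matrixSet P))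
    (hns : ∀ F₀ : Subfield F, F₀ ≠ ⊤ → ¬ RealisableOver F₀ (matrixSet P))
    (p : ℕ) [hp : Fact p.Prime] [CharP F p] (a : ℕ)
    (htr : ∀ g ∈ P, (g : Matrix ι ι F).trace ^ p ^ a = (g : Matrix ι ι F).trace)
    (x : F) : x ^ p ^ a = x := by
  have : ExpChar F p := ExpChar.prime hp.out
  set F₀ : Subfield F := RingHom.eqLocusField (iterateFrobenius F p a) (RingHom.id F) with hF₀
  have hmem : ∀ x : F, x ∈ F₀ ↔ x ^ p ^ a = x := fun x => Iff.rfl
  have h1 : F₀ = ⊤ := by
    by_contra hne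
    exact hns F₀ hne (H920.realisable_of_trace hP (fun g hg => (hmem _).2 (htr g hg)))
  rw [← hmem, h1]
  trivial

theorem card_dvd_of_pow_eq [Finite F] {m : ℕ} (hm : 1 ≤ m) (h : ∀ x : F, x ^ m = x) :
    Nat.card F - 1 ∣ m - 1 := by
  classical
  obtain ⟨u, hu⟩ := IsCyclic.exists_ofOrder_eq_natCard (α := Fˣ)
  rw [← Nat.card_units, ← hu]
  apply orderOf_dvd_of_pow_eq_one
  apply Units.ext
  rw [Units.val_pow_eq_pow_val, Units.val_one]
  have h1 := h u
  obtain ⟨m', rfl⟩ : ∃ m', m = m' + 1 := ⟨m - 1, by omega⟩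
  rw [pow_succ] at h1
  rw [Nat.add_sub_cancel]
  exact mul_right_cancel₀ (Units.ne_zero u) (by rw [h1, one_mul])

/-- `|F| ^ j = p ^ a`, `j ≥ 1` -/
theorem card_pow_eq [Finite F] (p : ℕ) [hp : Fact p.Prime] [CharP F p] {a : ℕ} (ha : a ≠ 0)
    (h : ∀ x : F, x ^ p ^ a = x) : ∃ j, 1 ≤ j ∧ Nat.card F ^ j = p ^ a := by
  classical
  have := Fintype.ofFinite F
  obtain ⟨e, he0, he⟩ := FiniteField.card F p
  have hcardF : Nat.card F = p ^ (e : ℕ) := by rw [Nat.card_eq_fintype_card, he]
  have hp1 : 1 < p := hp.out.one_lt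
  have hdvd : Nat.card F - 1 ∣ p ^ a - 1 := card_dvd_of_pow_eq (Nat.one_le_pow _ _ (by omega)) h
  rw [hcardF] at hdvd
  have hdv : (e : ℕ) ∣ a := by
    have h5 := Nat.gcd_eq_left hdvd
    rw [Nat.pow_sub_one_gcd_pow_sub_one] at h5
    have h6 : 1 ≤ p ^ (e : ℕ) := Nat.one_le_pow _ _ (by omega)
    have h7 : 1 ≤ p ^ (Nat.gcd (e : ℕ) a) := Nat.one_le_pow _ _ (by omega)
    have h8 : p ^ (Nat.gcd (e : ℕ) a) = p ^ (e : ℕ) := by omega
    have h9 := Nat.pow_right_injective (Nat.succ_le_of_lt hp1) h8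
    exact Nat.gcd_eq_left_iff_dvd.1 h9
  obtain ⟨j, rfl⟩ := hdv
  refine ⟨j, ?_, ?_⟩
  · rcases Nat.eq_zero_or_pos j with rfl | hj
    · exact absurd rfl ha
    · exact hj
  · rw [hcardF, pow_mul]

end Fin

end Cfsg.Agent.H905.Md
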