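import Cfsg.Agent.H905.MdE

/-!
# Simple modules in the defining characteristic, type `A`: small dimensions (helper905)

* `two_ends` : `m (m - 1) δ ≤ dim V` if both ends are outside `J`;
* **`finrank_eq_A`** : `m = l + 1 ≥ 3`, `δ = 1`, `2 ≤ dim V` and (`dim V < C(m, 2)` or `m = 3`, `dim V < 6`) imply `dim V = m`;
* `le_finrank_A` : `m ≤ dim V`.
-/

set_option autoImplicit false
set_option linter.unusedSectionVars false
set_option linter.style.haveILetI false

namespace Cfsg.Agent.H905.Md

open CoxeterSystem Cfsg.Agent.ChevalleyStructure.CoxeterGeom Cfsg.Agent.Tits.Roots Cfsg.Agent.Tits.Core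
  Cfsg.Agent.Tits.Exchange Cfsg.Agent.Nodes.Reps Cfsg.Agent.Nodes.BNOf Cfsg.Agent.Nodes.StabComb
  Cfsg.Agent.Nodes.Bruhat Cfsg.Agent.Nodes.OppDec Cfsg.Agent.Nodes.LeviDec Cfsg.Agent.KFacts.RgdOpp
  Cfsg.Agent.Omega.CR Cfsg.Agent.Omega.FOne.Lift.Sd Cfsg.Agent.Nodes.RootsA
open Cfsg.Agent.LieRecognition.BNCox (cA cA_apply)

/-- `C(m, 2) ≤ C(m, k)` for `2 ≤ k ≤ m - 2` -/
theorem choose_two_le {m k : ℕ} (h2 : 2 ≤ k) (hk : k + 2 ≤ m) : m.choose 2 ≤ m.choose k := by
  have key : ∀ k, 2 ≤ k → 2 * k ≤ m → m.choose 2 ≤ m.choose k := by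
    intro k h2
    induction k, h2 using Nat.le_induction with
    | base => intro _; exact le_rfl
    | succ k hk ih =>
      intro h3
      exact (ih (by omega)).trans (Nat.choose_le_succ_of_lt_half_left (by omega))
  rcases Nat.le_total (2 * k) m with h3 | h3
  · exact key k h2 h3
  · rw [← Nat.choose_symm (n := m) (k := k) (by omega)]
    exact key (m - k) (by omega) (by omega)

theorem exists_perm_pair {ι : Type*} [DecidableEq ι] {a b x y : ι} (hab : a ≠ b) (hxy : x ≠ y) :
    ∃ τ : Equiv.Perm ι, τ a = x ∧ τ b = y := by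
  refine ⟨Equiv.swap (Equiv.swap a x b) y * Equiv.swap a x, ?_, ?_⟩
  · rw [Equiv.Perm.mul_apply, Equiv.swap_apply_left]
    apply Equiv.swap_apply_of_ne_of_ne
    · intro e
      have h5 := Equiv.swap_apply_left a x
      exact hab ((Equiv.swap a x).injective (h5.trans e))
    · exact hxy
  · rw [Equiv.Perm.mul_apply, Equiv.swap_apply_left]

theorem card_offdiag (m : ℕ) : Fintype.card {q : Fin m × Fin m // q.1 ≠ q.2} = m * m - m := by
  classical
  rw [Fintype.card_subtype]
  have h1 : (Finset.univ.filter fun q : Fin m × Fin m => q.1 ≠ q.2) = (Finset.univ : Finset (Fin m)).offDiag := by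
    ext q
    simp [Finset.mem_offDiag]
  rw [h1, Finset.offDiag_card, Finset.card_univ, Fintype.card_fin]

section

variable {I W Y : Type*} [Fintype I] [DecidableEq I] [Group W] [Group Y] {M : CoxeterMatrix I}
  {cs : CoxeterSystem M W} {A : I → I → ℤ} {h : IsCartan M A} {p : ℕ} {T : Subgroup Y} {n : I → Y}
  {X : (I → ℤ) → Subgroup Y} {k V : Type*} [Field k] [AddCommGroup V] [Module k V]
  (R : RGD cs h p T n X) [Finite Y] [Finite W] [Fact p.Prime] [CharP k p]
  {ρ : Y →* Module.End k V} [FiniteDimensional k V]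
  (hirr : ∀ L : Submodule k V, Ivt ρ (GG cs h T X) L → L = ⊥ ∨ L = ⊤)
include R hirr

/-- if all nodes are in `J` then `V = V^U` -/
theorem D_eq_top [Nontrivial V] (hJ : ∀ i, i ∈ Jx cs h X ρ) : D cs h X ρ = ⊤ := by
  have h1 : Jx cs h X ρ = Set.univ := Set.eq_univ_of_forall hJ
  refine (hirr _ ?_).resolve_left (simp_fx R ρ hirr).ne
  rw [← LJ_univ, ← h1]
  exact LJ_D R hirr

theorem exists_not_mem [Nontrivial V] (hn : Module.finrank k (D cs h X ρ) < Module.finrank k V) :
    ∃ i, i ∉ Jx cs h X ρ := by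
  by_contra hcon
  push Not at hcon
  rw [D_eq_top R hirr hcon, finrank_top] at hn
  exact lt_irrefl _ hn

/-- the dimension of an edge: `D` and `n_i D` are different -/
theorem two_le_edge [Nontrivial V] {i : I} (hi : i ∉ Jx cs h X ρ) :
    2 * Module.finrank k (D cs h X ρ) ≤ Module.finrank k (Le cs h T X ρ {i}) := by
  have h1 : D cs h X ρ ⊓ (D cs h X ρ).map (ρ (n i)) = ⊥ := by
    have := D_inf R hirr (rp_one (cs := cs) (hN := R.nsys)) (rp_simple cs R.nsys i) (by
      rw [inv_one, one_mul]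
      exact fun h2 => hi (simple_mem_WJ h h2))
    have h3 : (D cs h X ρ).map (ρ 1) = D cs h X ρ := by
      rw [map_one]
      exact Submodule.map_id _
    rwa [h3] at this
  have h2 : D cs h X ρ ⊔ (D cs h X ρ).map (ρ (n i)) ≤ Le cs h T X ρ {i} := by
    refine sup_le (D_le_Le R {i}) ?_
    rw [← n_Le R (ρ := ρ) i]
    exact Submodule.map_mono (D_le_Le R {i})
  have h3 := Submodule.finrank_sup_add_finrank_inf_eq (D cs h X ρ) ((D cs h X ρ).map (ρ (n i)))
  rw [h1, finrank_bot, add_zero, finrank_map] at h3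
  have h4 := Submodule.finrank_mono h2
  omega

end

section

variable {l : ℕ} {W Y : Type*} [Group W] [Group Y] {cs : CoxeterSystem (cA l) W} {A : Fin l → Fin l → ℤ}
  {h : IsCartan (cA l) A} {p : ℕ} {T : Subgroup Y} {n : Fin l → Y} {X : (Fin l → ℤ) → Subgroup Y}
  {k V : Type*} [Field k] [AddCommGroup V] [Module k V]
  (R : RGD cs h p T n X) [Finite Y] [Finite W] [Fact p.Prime] [CharP k p]
  {ρ : Y →* Module.End k V} [FiniteDimensional k V]
  (hirr : ∀ L : Submodule k V, Ivt ρ (GG cs h T X) L → L = ⊥ ∨ L = ⊤)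
include R hirr

/-- both ends outside `J` -/
theorem two_ends [Nontrivial V] {i j : Fin l} (hi0 : i.val = 0) (hjl : j.val + 1 = l)
    (hi : i ∉ Jx cs h X ρ) (hj : j ∉ Jx cs h X ρ) :
    (l + 1) * l * Module.finrank k (D cs h X ρ) ≤ Module.finrank k V := by
  classical
  have hl : (0 : Fin (l + 1)) ≠ Fin.last l := by
    intro e
    have h1 := congrArg Fin.val e
    simp only [Fin.val_zero, Fin.val_last] at h1
    omega
  choose σ hσ using fun q : {q : Fin (l + 1) × Fin (l + 1) // q.1 ≠ q.2} => exists_perm_pair hl q.2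
  have h1 := dim_ge_perm R hirr (α := {q : Fin (l + 1) × Fin (l + 1) // q.1 ≠ q.2}) (β := Empty) σ (by
      intro q q' hqq
      have hs : ∀ q : {q : Fin (l + 1) × Fin (l + 1) // q.1 ≠ q.2}, (σ q)⁻¹ q.1.1 = 0 ∧
          (σ q)⁻¹ q.1.2 = Fin.last l := fun q => by
        constructor
        · rw [← (hσ q).1]; exact (σ q).symm_apply_apply _
        · rw [← (hσ q).2]; exact (σ q).symm_apply_apply _
      by_cases hx : q.1.1 = q'.1.1
      · have hy : q.1.2 ≠ q'.1.2 := fun hy => hqq (Subtype.ext (Prod.ext hx hy))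
        refine ⟨j, hj, q'.1.2, ?_, ?_⟩
        · have h2 : (σ q)⁻¹ q'.1.2 ≠ Fin.last l := by
            intro e
            rw [← (hs q).2] at e
            exact hy ((σ q)⁻¹.injective e).symm
          have h3 : ((σ q)⁻¹ q'.1.2).val ≠ l := fun e => h2 (Fin.ext e)
          have h4 := ((σ q)⁻¹ q'.1.2).2
          omega
        · rw [(hs q').2, Fin.val_last]
          omega
      · refine ⟨i, hi, q.1.1, ?_, ?_⟩
        · rw [(hs q).1, Fin.val_zero]
          omega
        · intro h2
          have h3 : (σ q')⁻¹ q.1.1 = 0 := Fin.ext (by rw [Fin.val_zero]; omega)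
          rw [← (hs q').1] at h3
          exact hx ((σ q')⁻¹.injective h3))
    (fun b => b.elim) (fun b => b.elim) (fun b => b.elim) (fun b => b.elim) (fun b => b.elim)
  rw [card_offdiag, Finset.univ_eq_empty, Finset.sum_empty, add_zero] at h1
  have h2 : (l + 1) * (l + 1) - (l + 1) = (l + 1) * l := by
    rw [Nat.mul_succ, Nat.add_sub_cancel]
  rwa [h2] at h1

/-- `m ≤ dim V` -/
theorem le_finrank_A [Nontrivial V] (hn : Module.finrank k (D cs h X ρ) < Module.finrank k V) :
    (l + 1) * Module.finrank k (D cs h X ρ) ≤ Module.finrank k V := by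
  obtain ⟨i, hi⟩ := exists_not_mem R hirr hn
  have h1 := dim_ge_A R hirr hi
  have h2 : l + 1 ≤ (l + 1).choose (i.val + 1) := by
    have h3 := i.2
    by_cases h4 : i.val = 0
    · rw [h4]; simp
    · by_cases h5 : i.val + 1 = l
      · rw [h5, Nat.choose_succ_self_right]
      · have h6 := choose_two_le (m := l + 1) (k := i.val + 1) (by omega) (by omega)
        refine le_trans ?_ h6
        rw [Nat.choose_two_right, Nat.le_div_iff_mul_le (by norm_num)]
        rw [Nat.add_sub_cancel]
        exact Nat.mul_le_mul le_rfl (by omega)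
  calc (l + 1) * Module.finrank k (D cs h X ρ) ≤ (l + 1).choose (i.val + 1) * Module.finrank k (D cs h X ρ) :=
        Nat.mul_le_mul_right _ h2
    _ ≤ _ := by omega

/-- **small dimensions** -/
theorem finrank_eq_A [Nontrivial V] (hl : 2 ≤ l) (hD : Module.finrank k (D cs h X ρ) = 1)
    (h2 : 2 ≤ Module.finrank k V) (hn : Module.finrank k V < (l + 1).choose 2 ∨ (l = 2 ∧ Module.finrank k V < 6)) :
    Module.finrank k V = l + 1 := by
  have hm : (l + 1).choose 2 * 2 = (l + 1) * l := by
    rw [Nat.choose_two_right, Nat.add_sub_cancel, Nat.div_mul_cancel]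
    rw [mul_comm]
    exact (Nat.even_mul_succ_self l).two_dvd
  have h0 : l + 1 ≤ (l + 1).choose 2 ∨ l = 1 := by
    by_cases h3 : l = 1
    · exact Or.inr h3
    · left
      nlinarith
  obtain ⟨i, hi⟩ := exists_not_mem R hirr (by rw [hD]; omega)
  have hge := le_finrank_A R hirr (by rw [hD]; omega)
  rw [hD, mul_one] at hge
  -- the nodes outside `J` are ends
  have hend : ∀ j, j ∉ Jx cs h X ρ → j.val = 0 ∨ j.val + 1 = l := by
    intro j hj
    by_contra hcon
    push Not at hcon
    have h3 := dim_ge_A R hirr hj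
    rw [hD, mul_one] at h3
    have h4 := j.2
    have h5 := choose_two_le (m := l + 1) (k := j.val + 1) (by omega) (by omega)
    rcases hn with hn | ⟨rfl, hn⟩
    · omega
    · omega
  have huniq : ∀ j, j ∉ Jx cs h X ρ → j = i := by
    intro j hj
    by_contra hne
    have hne' : j.val ≠ i.val := fun e => hne (Fin.ext e)
    have h3 : (l + 1) * l ≤ Module.finrank k V := by
      rcases hend i hi with h3 | h3 <;> rcases hend j hj with h4 | h4
      · omega
      · have := two_ends R hirr h3 h4 hi hj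
        rwa [hD, mul_one] at this
      · have := two_ends R hirr h4 h3 hj hi
        rwa [hD, mul_one] at this
      · omega
    rcases hn with hn | ⟨rfl, hn⟩
    · omega
    · omega
  have hch : (l + 1).choose (i.val + 1) = l + 1 := by
    rcases hend i hi with h3 | h3
    · rw [h3]; simp
    · rw [h3, Nat.choose_succ_self_right]
  have h3 := dim_ge_A R hirr hi
  rw [hD, mul_one, hch] at h3
  have hIo : Module.finrank k (Io cs h T X ρ i) = 0 := by
    by_contra hIo
    have h4 : 1 ≤ Module.finrank k (Io cs h T X ρ i) := Nat.one_le_iff_ne_zero.2 hIo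
    have h5 : (l + 1).choose 2 ≤ (l + 1).choose 2 * Module.finrank k (Io cs h T X ρ i) := Nat.le_mul_of_pos_right _ h4
    rcases hn with hn | ⟨rfl, hn⟩
    · omega
    · have h6 : (2 + 1).choose 2 = 3 := rfl
      rw [h6] at h5 h3
      omega
  have h4 := finrank_Io R hirr i
  rw [hIo, hD] at h4
  have h5 := dim_le_A R hirr hi huniq (by rw [hD]; omega)
  rw [hD, mul_one, hch] at h5
  omega

end

end Cfsg.Agent.H905.Md
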