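import Cfsg.Agent.H905.MdL
import Cfsg.Agent.H905.MdM
import Cfsg.Agent.H905.MdN
import Cfsg.Agent.H905.MdO

/-!
# Groups of Lie type in the defining characteristic in dimension at most five (helper905)

`P ≤ GL(n, F)`, `n ≤ 5`, perfect, absolutely irreducible, realisable over no proper subfield, `P/scalars` simple of Lie
type in characteristic `p = char F`.

* **`dc_small`** : `P = SL(n, F)`, or all traces are real, or `P/scalars ≅ PSU_N(q)`, `N ≤ 5`, and `tr(g⁻¹) = tr(g) ^ q`;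
* **`dc_linear`** : `P = SL(n, F)` or `P` fixes a non-degenerate quadratic form, a symplectic form or a unitary form.
-/

set_option autoImplicit false
set_option linter.unusedSectionVars false
set_option linter.style.haveILetI false

namespace Cfsg.Agent.H905.Md

open Cfsg Cfsg.Geo
open scoped MatrixGroups

universe u

variable {F : Type u} [Field F] [Finite F] {n : ℕ} {P : Subgroup (GL (Fin n) F)} (p : ℕ) [hp : Fact p.Prime]
  [hFp : CharP F p]

theorem two_le_of_simple (hperf : ⁅P, P⁆ = P) [IsSimpleGroup (P ⧸ (scalars (Fin n) F).subgroupOf P)] : 2 ≤ n := by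
  have h := nonempty_of_noncomm (MulEquiv.refl (P ⧸ (scalars (Fin n) F).subgroupOf P)) (by
    by_contra hcon
    push Not at hcon
    have h1 := center_soc hperf
    have h2 : Subgroup.center (P ⧸ (scalars (Fin n) F).subgroupOf P) = ⊤ := by
      rw [eq_top_iff]
      intro x _
      rw [Subgroup.mem_center_iff]
      intro y
      exact (hcon x y).symm ▸ rfl
    rw [h1] at h2
    exact bot_ne_top h2)
  rwa [Fintype.card_fin] at h

/-- **Dimension at most five.** -/
theorem dc_small (hP : ActsAbsolutelyIrreducibly (matrixSet P)) (hperf : ⁅P, P⁆ = P)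
    [IsSimpleGroup (P ⧸ (scalars (Fin n) F).subgroupOf P)]
    (hns : ∀ F₀ : Subfield F, F₀ ≠ ⊤ → ¬ RealisableOver F₀ (matrixSet P)) (hn : n ≤ 5)
    (h : IsLieTypeChar p (P ⧸ (scalars (Fin n) F).subgroupOf P)) :
    P = specialLinear (Fin n) F ∨
    (∀ g ∈ P, ((g⁻¹ : GL (Fin n) F) : Matrix (Fin n) (Fin n) F).trace = (g : Matrix (Fin n) (Fin n) F).trace) ∨
    ∃ (K : Type) (_ : Field K) (_ : Fintype K) (_ : CharP K p) (N q : ℕ),
      Fintype.card K = q ^ 2 ∧ 3 ≤ N ∧ N ≤ 5 ∧ ¬ (N = 3 ∧ q = 2) ∧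
      Nonempty ((P ⧸ (scalars (Fin n) F).subgroupOf P) ≃* PSU N K q) ∧
      ∀ g ∈ P, ((g⁻¹ : GL (Fin n) F) : Matrix (Fin n) (Fin n) F).trace =
        (g : Matrix (Fin n) (Fin n) F).trace ^ q := by
  have h2 := two_le_of_simple hperf
  haveI : Nonempty (Fin n) := ⟨⟨0, by omega⟩⟩
  have hirr : ActsIrreducibly (matrixSet P) := hP.1
  have h12 := small_dc (p := p) hirr hperf h (by rw [Fintype.card_fin]; omega)
  rw [Fintype.card_fin] at h12
  rcases h12 with h | h | h | h | h | h | h | h | h | h | h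
  · obtain ⟨K, i1, i2, i3, l, hl, h4, ⟨Φ⟩⟩ := h
    rcases (show l = 1 ∨ 2 ≤ l by omega) with rfl | hl2
    · exact Or.inr (Or.inl fun g hg => psl_two p hP hperf (h4 rfl) Φ hg)
    · left
      have h5 := psl_dim p hP hperf hl h4 Φ hl2 (by
        rw [Fintype.card_fin]
        rcases (show l = 2 ∨ 3 ≤ l by omega) with rfl | h3
        · exact Or.inr ⟨rfl, by omega⟩
        · left
          have h6 : (3 + 1).choose 2 ≤ (l + 1).choose 2 := Nat.choose_le_choose 2 (by omega)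
          have h7 : (3 + 1).choose 2 = 6 := by decide
          omega)
      rw [Fintype.card_fin] at h5
      exact (psl_eq p hP hperf hl h4 Φ hns h5).2
  · obtain ⟨K, i1, i2, i3, m, hm, hm2, h3, ⟨Φ⟩⟩ := h
    refine Or.inr (Or.inl fun g hg => (psp_both p hP hperf (by omega) ?_ Φ hg).2)
    rw [Nat.card_eq_fintype_card]
    rcases (show m = 2 ∨ 3 ≤ m by omega) with h | h
    · exact Or.inr (Or.inl ⟨h, h3 h⟩)
    · exact Or.inl h
  · obtain ⟨K, i1, i2, i3, N, q, hK, hN, hN5, h32, ⟨Φ⟩⟩ := h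
    refine Or.inr (Or.inr ⟨K, i1, i2, i3, N, q, hK, hN, by omega, h32, ⟨Φ⟩, fun g hg => ?_⟩)
    exact (psu_both p hP hperf hN hK h32 Φ hg).2
  · obtain ⟨h1, K, i1, i2, m, hm, hK, ⟨Φ⟩⟩ := h
    subst h1
    exact Or.inr (Or.inl fun g hg => (sz_both hP hperf hm hK Φ hg).2)
  · obtain ⟨h1, K, i1, i2, m, hm, hK, ⟨Φ⟩⟩ := h
    subst h1
    exact Or.inr (Or.inl fun g hg => (ree_both hP hperf hm hK Φ hg).2)
  · obtain ⟨K, i1, i2, i3, m, hm, h4, -⟩ := h
    omega
  · obtain ⟨K, i1, i2, i3, m, hm, h4, -⟩ := h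
    omega
  · obtain ⟨K, i1, i2, i3, m, a, b, hm, h4, -⟩ := h
    omega
  · omega
  · omega
  · omega

omit [Finite F] hFp in
theorem exists_pow_of_card {K : Type*} [Field K] [Fintype K] [CharP K p] {q : ℕ} (hK : Fintype.card K = q ^ 2) :
    ∃ b, q = p ^ b := by
  obtain ⟨k, -, hk⟩ := FiniteField.card K p
  have h1 : q ∣ p ^ (k : ℕ) := by rw [← hk, hK]; exact dvd_pow_self q two_ne_zero
  obtain ⟨b, -, rfl⟩ := (Nat.dvd_prime_pow hp.out).1 h1
  exact ⟨b, rfl⟩

/-- **Dimension at most five: forms.** -/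
theorem dc_linear (hP : ActsAbsolutelyIrreducibly (matrixSet P)) (hperf : ⁅P, P⁆ = P)
    [IsSimpleGroup (P ⧸ (scalars (Fin n) F).subgroupOf P)]
    (hns : ∀ F₀ : Subfield F, F₀ ≠ ⊤ → ¬ RealisableOver F₀ (matrixSet P)) (hn : n ≤ 5)
    (h : IsLieTypeChar p (P ⧸ (scalars (Fin n) F).subgroupOf P)) :
    P = specialLinear (Fin n) F ∨
    ((∃ Q : (Fin n → F) → F, IsNondegenerateQuadraticForm Q ∧ FixesQuadForm (matrixSet P) Q) ∨
      (∃ f : (Fin n → F) → (Fin n → F) → F, IsSymplecticForm f ∧ FixesForm (matrixSet P) f)) ∨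
    (∃ (σ : F ≃+* F) (f : (Fin n → F) → (Fin n → F) → F), IsUnitaryForm σ f ∧ FixesForm (matrixSet P) f) := by
  have h2 := two_le_of_simple hperf
  rcases dc_small p hP hperf hns hn h with h | h | ⟨K, i1, i2, i3, N, q, hK, -, -, -, -, h⟩
  · exact Or.inl h
  · exact Or.inr (Or.inl (quad_or_symp (by rw [Fintype.card_fin]; exact h2) hP h))
  · obtain ⟨b, rfl⟩ := exists_pow_of_card p hK
    rcases forms_of_inv (by rw [Fintype.card_fin]; exact h2) hP hns h with h3 | ⟨σ, f, -, hf, hf'⟩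
    · exact Or.inr (Or.inl h3)
    · exact Or.inr (Or.inr ⟨σ, f, hf, hf'⟩)

end Cfsg.Agent.H905.Md
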