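import Cfsg.Agent.H905.MdC

/-!
# Simple modules in the defining characteristic: the sum of the vertices (helper905)

* `mem_WJ_iff` : `w ∈ W_J` iff `w` preserves the coordinates outside `J`;
* `V0_eq_top` : if the edges have dimension `≤ 2 dim D` and every positive root outside `J` is `W_J`-conjugate to a simple
  root, then `V` is the sum of the vertices; `dim_le`.
-/

set_option autoImplicit false
set_option linter.unusedSectionVars false
set_option linter.style.haveILetI false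

namespace Cfsg.Agent.H905.Md

open CoxeterSystem Cfsg.Agent.ChevalleyStructure.CoxeterGeom Cfsg.Agent.Tits.Roots Cfsg.Agent.Tits.Core
  Cfsg.Agent.Tits.Exchange Cfsg.Agent.Nodes.Reps Cfsg.Agent.Nodes.BNOf Cfsg.Agent.Nodes.StabComb
  Cfsg.Agent.Nodes.Bruhat Cfsg.Agent.Nodes.OppDec Cfsg.Agent.Nodes.LeviDec Cfsg.Agent.KFacts.RgdOpp
  Cfsg.Agent.Omega.CR Cfsg.Agent.Omega.FOne.Lift.Sd

variable {I W Y : Type*} [Fintype I] [DecidableEq I] [Group W] [Group Y] {M : CoxeterMatrix I}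
  {cs : CoxeterSystem M W} {A : I → I → ℤ} {h : IsCartan M A} {p : ℕ} {T : Subgroup Y} {n : I → Y}
  {X : (I → ℤ) → Subgroup Y}

variable {k V : Type*} [Field k] [AddCommGroup V] [Module k V]

theorem coord_of_mem_WJ {J : Set I} {w : W} (hw : w ∈ WJ cs J) (x : I → ℤ) {i : I} (hi : i ∉ J) :
    rep cs h w x i = x i := by
  unfold WJ at hw
  induction hw using Subgroup.closure_induction generalizing x with
  | mem y hy =>
    obtain ⟨j, hj, rfl⟩ := hy
    exact rep_simple_apply cs h j x i fun e => hi (e ▸ hj)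
  | one => rw [map_one, Module.End.one_apply]
  | mul a b _ _ ha hb => rw [rep_mul_apply, ha, hb]
  | inv a _ ha =>
    have := ha (rep cs h a⁻¹ x)
    rw [rep_apply_inv] at this
    exact this.symm

/-- **`W_J` is the stabiliser of the coordinates outside `J`** -/
theorem mem_WJ_iff {J : Set I} {w : W} : w ∈ WJ cs J ↔ ∀ x : I → ℤ, ∀ i ∉ J, rep cs h w x i = x i := by
  constructor
  · exact fun hw x i hi => coord_of_mem_WJ hw x hi
  · intro hw
    have key : ∀ m : ℕ, ∀ w, cs.length w = m → (∀ x : I → ℤ, ∀ i ∉ J, rep cs h w x i = x i) → w ∈ WJ cs J := by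
      intro m
      induction m with
      | zero =>
        intro w hm _
        rw [cs.length_eq_zero_iff.1 hm]
        exact one_mem _
      | succ m ih =>
        intro w hm hw
        have hw1 : w ≠ 1 := by
          intro h1
          rw [h1, cs.length_one] at hm
          omega
        obtain ⟨i, hi⟩ := cs.exists_rightDescent_of_ne_one hw1
        rw [cs.isRightDescent_iff] at hi
        have hneg : rep cs h w (sr i) ≤ 0 := nonpos_of_lt cs h w i (by omega)
        have hiJ : i ∈ J := by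
          by_contra hiJ
          have h1 := hw (sr i) i hiJ
          rw [sr_self] at h1
          have h2 : rep cs h w (sr i) i ≤ (0 : ℤ) := hneg i
          rw [h1] at h2
          omega
        have hs : cs.simple i ∈ WJ cs J := Subgroup.subset_closure ⟨i, hiJ, rfl⟩
        have h1 := ih (w * cs.simple i) (by omega) (fun x j hj => by
          rw [rep_mul_apply, hw _ j hj, coord_of_mem_WJ hs x hj])
        have h2 : w = w * cs.simple i * cs.simple i := by rw [cs.simple_mul_simple_cancel_right]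
        rw [h2]
        exact mul_mem h1 hs
    exact key _ w rfl hw

theorem simple_mem_WJ {J : Set I} {i : I} (h : IsCartan M A) (hi : cs.simple i ∈ WJ cs J) : i ∈ J := by
  by_contra hiJ
  have h1 := coord_of_mem_WJ (h := h) hi (sr i) hiJ
  rw [rep_simple_sr, Pi.neg_apply, sr_self] at h1
  omega

section

variable (R : RGD cs h p T n X) [Finite Y] [Finite W] [Fact p.Prime] [CharP k p]
  {ρ : Y →* Module.End k V} [FiniteDimensional k V]
  (hirr : ∀ L : Submodule k V, Ivt ρ (GG cs h T X) L → L = ⊥ ∨ L = ⊤)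
include R hirr

theorem D_inf [Nontrivial V] {w w' : W} {g g' : Y} (hg : Rp cs R.nsys w g) (hg' : Rp cs R.nsys w' g')
    (hne : w⁻¹ * w' ∉ WJ cs (Jx cs h X ρ)) : (D cs h X ρ).map (ρ g) ⊓ (D cs h X ρ).map (ρ g') = ⊥ := by
  rw [eq_bot_iff]
  rintro v ⟨⟨m, hm, rfl⟩, hv⟩
  rw [Submodule.mem_bot]
  have h1 : m = 0 := by
    by_contra hm0
    obtain ⟨φ, hφ, hne'⟩ := exists_pair_D R hirr hm hm0
    refine hne (vertex_pair R hirr hg hg' (φ := dualRep ρ g φ) ⟨φ, hφ, rfl⟩ hv ?_)
    rw [dualRep_apply, rho_inv_rho]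
    exact hne'
  rw [h1, map_zero]

theorem map_eq_of_mem [Nontrivial V] {w w' : W} {g g' : Y} (hg : Rp cs R.nsys w g) (hg' : Rp cs R.nsys w' g')
    (hw : w⁻¹ * w' ∈ WJ cs (Jx cs h X ρ)) : (D cs h X ρ).map (ρ g') ≤ (D cs h X ρ).map (ρ g) := by
  rintro _ ⟨m, hm, rfl⟩
  refine ⟨ρ (g⁻¹ * g') m, rp_D R hirr hw (hg.inv.mul hg') hm, ?_⟩
  rw [← rho_mul, mul_inv_cancel_left]

theorem edge_le [Nontrivial V] {i : I} (hi : i ∉ Jx cs h X ρ)
    (hd : Module.finrank k (Le cs h T X ρ {i}) ≤ 2 * Module.finrank k (D cs h X ρ)) :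
    Le cs h T X ρ {i} ≤ D cs h X ρ ⊔ (D cs h X ρ).map (ρ (n i)) := by
  have h1 : D cs h X ρ ⊓ (D cs h X ρ).map (ρ (n i)) = ⊥ := by
    have := D_inf R hirr (rp_one (cs := cs) (hN := R.nsys)) (rp_simple cs R.nsys i) (by
      rw [inv_one, one_mul]
      exact fun h2 => hi (simple_mem_WJ h h2))
    have h3 : (D cs h X ρ).map (ρ 1) = D cs h X ρ := by
      rw [map_one]
      exact Submodule.map_id _
    rwa [h3] at this
  have h2 : D cs h X ρ ⊔ (D cs h X ρ).map (ρ (n i)) ≤ Le cs h T X ρ {i} := by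
    refine sup_le (D_le_Le R {i}) ?_
    rw [← n_Le R (ρ := ρ) i]
    exact Submodule.map_mono (D_le_Le R {i})
  have h3 := Submodule.finrank_sup_add_finrank_inf_eq (D cs h X ρ) ((D cs h X ρ).map (ρ (n i)))
  rw [h1, finrank_bot, add_zero, finrank_map] at h3
  exact (Submodule.eq_of_le_of_finrank_le h2 (by omega)).ge

/-- **`V` is the sum of the vertices** -/
theorem V0_eq_top [Nontrivial V]
    (hd : ∀ i, i ∉ Jx cs h X ρ → Module.finrank k (Le cs h T X ρ {i}) ≤ 2 * Module.finrank k (D cs h X ρ))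
    (hc : ∀ x ∈ NotJ cs h (Jx cs h X ρ), ∃ w ∈ WJ cs (Jx cs h X ρ), ∃ i, i ∉ Jx cs h X ρ ∧ x = rep cs h w (sr i))
    {g : W → Y} (hg : ∀ w, Rp cs R.nsys w (g w)) : (⨆ w, (D cs h X ρ).map (ρ (g w))) = ⊤ := by
  set V0 := ⨆ w, (D cs h X ρ).map (ρ (g w)) with hV0
  have hle : ∀ {w : W} {g' : Y}, Rp cs R.nsys w g' → (D cs h X ρ).map (ρ g') ≤ V0 := fun {w} {g'} hg' =>
    (map_eq_of_mem R hirr (hg w) hg' (by rw [inv_mul_cancel]; exact one_mem _)).trans
      (le_iSup (fun w => (D cs h X ρ).map (ρ (g w))) w)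
  have key : ∀ K : Subgroup Y, (∀ w, ∀ b ∈ K, ∀ v ∈ D cs h X ρ, ρ b (ρ (g w) v) ∈ V0) → Ivt ρ K V0 := by
    intro K hK b hb v hv
    have h1 : V0 ≤ V0.comap (ρ b) := iSup_le fun w => by
      rintro _ ⟨m, hm, rfl⟩
      exact hK w b hb m hm
    exact h1 hv
  have hT : Ivt ρ T V0 := by
    refine key T fun w t ht v hv => ?_
    have h1 : Rp cs R.nsys w (t * g w) := by
      have := (rp_of_mem (cs := cs) (hN := R.nsys) ht).mul (hg w)
      rwa [one_mul] at this
    rw [← rho_mul]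
    exact hle h1 ⟨v, hv, rfl⟩
  have hX : ∀ x, IsRoot cs h x → Ivt ρ (X x) V0 := by
    intro x hx
    refine key _ fun w b hb v hv => ?_
    have h1 := R.conj_mem' (hg w) hx hb
    set y := rep cs h w⁻¹ x with hy
    have hyr : IsRoot cs h y := hx.act _
    have e : ρ b (ρ (g w) v) = ρ (g w) (ρ ((g w)⁻¹ * b * g w) v) := by
      rw [← rho_mul, ← rho_mul]
      congr 2
      group
    rw [e]
    rcases hyr.pos_or_neg with h0 | h0
    · rw [hv _ (RGD.le_Sup (S := RGD.Pos cs h) ⟨hyr, h0⟩ h1)]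
      exact hle (hg w) ⟨v, hv, rfl⟩
    · rcases mem_PosJ_or_NotJ (Jx cs h X ρ) hyr.neg (neg_nonneg.2 h0) with h2 | h2
      · have h3 : y ∈ RootsJ cs h (Jx cs h X ρ) := by
          have := RootsJ.neg (PosJ_subset _ h2)
          rwa [neg_neg] at this
        rw [X_fix_J R hirr h3 h1 hv]
        exact hle (hg w) ⟨v, hv, rfl⟩
      · obtain ⟨u, hu, i, hi, e2⟩ := hc _ h2
        obtain ⟨a, ha⟩ := exists_rp cs R.nsys u
        have h4 : y = rep cs h u (-sr i) := by rw [map_neg, ← e2, neg_neg]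
        rw [h4] at h1
        have h5 := R.conj_mem' ha ((isRoot_sr cs h i).neg.act u) h1
        rw [rep_inv_apply] at h5
        have h6 : ρ a⁻¹ v ∈ D cs h X ρ := rp_D R hirr (inv_mem hu) ha.inv hv
        have h7 : ρ (a⁻¹ * ((g w)⁻¹ * b * g w) * a) (ρ a⁻¹ v) ∈ Le cs h T X ρ {i} :=
          Ivt_Le R {i} _ (X_le_LJ (RootsJ.neg (sr_mem_Roots i)) h5) _ (D_le_Le R {i} h6)
        obtain ⟨c, hcD, d, hdD, e3⟩ := Submodule.mem_sup.1 (edge_le R hirr hi (hd i hi) h7)
        have h8 : ρ ((g w)⁻¹ * b * g w) v = ρ a c + ρ a d := by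
          rw [← map_add, e3, ← rho_mul, ← rho_mul]
          congr 2
          group
        rw [h8, map_add]
        obtain ⟨d', hd', rfl⟩ := hdD
        refine add_mem ?_ ?_
        · rw [← rho_mul]
          exact hle ((hg w).mul ha) ⟨c, hcD, rfl⟩
        · rw [← rho_mul, ← rho_mul]
          exact hle (((hg w).mul ha).mul (rp_simple cs R.nsys i)) ⟨d', hd', rfl⟩
  refine (hirr V0 ?_).resolve_left ?_
  · unfold GG
    exact Ivt.sup hT (Ivt_of_le ρ (RGD.Sup_le fun x hx => Ivt.le_stS (hX x hx)))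
  · intro h0
    obtain ⟨c, hc, hc0⟩ := (Submodule.ne_bot_iff _).1 (simp_fx R ρ hirr).ne
    have h1 := hle (hg 1) ⟨c, hc, rfl⟩
    rw [h0, Submodule.mem_bot] at h1
    exact rho_ne_zero ρ _ hc0 h1

omit R hirr [Finite Y] [Finite W] [Fact p.Prime] [CharP k p] in
theorem finrank_iSup_le {α : Type*} [Fintype α] (f : α → Submodule k V) :
    Module.finrank k (⨆ a, f a : Submodule k V) ≤ ∑ a, Module.finrank k (f a) := by
  classical
  let F : (Π i, f i) →ₗ[k] (⨆ i, f i : Submodule k V) :=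
    { toFun := fun g => ⟨∑ i, (g i : V), Submodule.sum_mem _ fun i _ => (le_iSup f i) (g i).2⟩
      map_add' := fun g g' => Subtype.ext (by simp [Finset.sum_add_distrib])
      map_smul' := fun c g => Subtype.ext (by simp [Finset.smul_sum]) }
  have hF : Function.Surjective F := by
    rintro ⟨v, hv⟩
    obtain ⟨g, hg, rfl⟩ := exists_sum_of_mem_iSup hv
    exact ⟨fun i => ⟨g i, hg i⟩, rfl⟩
  have h3 := LinearMap.finrank_le_finrank_of_surjective hF
  rwa [Module.finrank_pi_fintype] at h3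

theorem dim_le [Nontrivial V]
    (hd : ∀ i, i ∉ Jx cs h X ρ → Module.finrank k (Le cs h T X ρ {i}) ≤ 2 * Module.finrank k (D cs h X ρ))
    (hc : ∀ x ∈ NotJ cs h (Jx cs h X ρ), ∃ w ∈ WJ cs (Jx cs h X ρ), ∃ i, i ∉ Jx cs h X ρ ∧ x = rep cs h w (sr i))
    {α : Type*} [Fintype α] (v : α → W) (hv : ∀ w, ∃ a, (v a)⁻¹ * w ∈ WJ cs (Jx cs h X ρ)) :
    Module.finrank k V ≤ Fintype.card α * Module.finrank k (D cs h X ρ) := by
  choose g hg using fun w => exists_rp cs R.nsys w
  have h1 : (⨆ w, (D cs h X ρ).map (ρ (g w))) ≤ ⨆ a, (D cs h X ρ).map (ρ (g (v a))) := by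
    refine iSup_le fun w => ?_
    obtain ⟨a, ha⟩ := hv w
    exact (map_eq_of_mem R hirr (hg _) (hg _) ha).trans (le_iSup (fun a => (D cs h X ρ).map (ρ (g (v a)))) a)
  rw [V0_eq_top R hirr hd hc hg, top_le_iff] at h1
  have h2 := finrank_iSup_le fun a => (D cs h X ρ).map (ρ (g (v a)))
  rw [h1, finrank_top] at h2
  simpa only [finrank_map, Finset.sum_const, Finset.card_univ, smul_eq_mul] using h2

end

end Cfsg.Agent.H905.Md
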