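import Cfsg.Agent.H905.JDSix
import Cfsg.Agent.H659.AcIrr
import Cfsg.Agent.H920.Realise

/-!
# The field of the representation of degree six of the Hall-Janko group, odd characteristic (helper905)

**`j2_six_field`** : `|F| = p` if `p ≡ 0, ±1 mod 5`, `|F| = p²` if `p ≡ ±2 mod 5`.
-/

set_option autoImplicit false
set_option linter.unusedSectionVars false

namespace Cfsg.Agent.H905.JD

open Function Subgroup Cfsg Cfsg.Spor Cfsg.Geo Cfsg.Agent.H915.LD Cfsg.Agent.J2.ZTau Cfsg.Agent.J2.Ico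
  Cfsg.Agent.J2.Lattice Cfsg.Agent.J2.Refl Cfsg.Agent.J2.Group Cfsg.Agent.J2.Stab Cfsg.Agent.J2.SixGens
  Cfsg.Agent.H1.J2Lift
open Module Matrix

universe u

/-! ### arithmetic of the golden ratio -/

section gold

variable {K : Type*} [Field K] (p : ℕ) [hp : Fact p.Prime] [CharP K p]

/-- the field of `p ^ a` elements inside `K` -/
noncomputable def Fx (K : Type*) [Field K] (p : ℕ) [hp : Fact p.Prime] [CharP K p] (a : ℕ) : Subfield K :=
  have : ExpChar K p := ExpChar.prime hp.out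
  RingHom.eqLocusField (iterateFrobenius K p a) (RingHom.id K)

theorem mem_Fx {a : ℕ} {x : K} : x ∈ Fx K p a ↔ x ^ p ^ a = x := Iff.rfl

theorem gold_sq {α : K} (hα : α * α = α + 1) : α ∈ Fx K p 2 := by
  have : ExpChar K p := ExpChar.prime hp.out
  rw [mem_Fx]
  have e1 : α ^ p * α ^ p = α ^ p + 1 := by
    rw [← mul_pow, hα, add_pow_char, one_pow]
  have e2 : (α ^ p - α) * (α ^ p - (1 - α)) = 0 := by linear_combination e1 - hα
  have e3 : α ^ p ^ 2 = (α ^ p) ^ p := by rw [pow_two, pow_mul]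
  rcases mul_eq_zero.1 e2 with h | h
  · rw [e3, sub_eq_zero.1 h, sub_eq_zero.1 h]
  · rw [e3, sub_eq_zero.1 h, sub_pow_char, one_pow, sub_eq_zero.1 h]
    ring

theorem fact_five : Fact (Nat.Prime 5) := ⟨by norm_num⟩

attribute [local instance] fact_five

theorem qc_five : ∀ x : Fin 4, ∀ y : Fin 5, (x.val = 1 ∨ x.val = 3) →
    (quadraticChar (ZMod 5) (((ZMod.χ₄ (x.val : ZMod 4) : ℤ) : ZMod 5) * (y.val : ZMod 5)) ≠ -1 ↔
      y.val = 0 ∨ y.val = 1 ∨ y.val = 4) := by decide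

theorem isSquare_five (hp2 : p ≠ 2) : IsSquare (5 : ZMod p) ↔ p % 5 = 0 ∨ p % 5 = 1 ∨ p % 5 = 4 := by
  have h1 : ringChar (ZMod p) ≠ 2 := by rw [ZMod.ringChar_zmod_n]; exact hp2
  have h2 := FiniteField.isSquare_odd_prime_iff (F := ZMod p) h1 (p := 5) (by norm_num)
  rw [ZMod.card] at h2
  have h3 : ((5 : ℕ) : ZMod p) = 5 := by norm_num
  rw [h3] at h2
  rw [h2]
  have h4 : (p : ZMod 4) = ((p % 4 : ℕ) : ZMod 4) := by rw [ZMod.natCast_mod]
  have h5 : (p : ZMod 5) = ((p % 5 : ℕ) : ZMod 5) := by rw [ZMod.natCast_mod]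
  have hodd : p % 2 = 1 := Nat.odd_iff.1 (hp.out.odd_of_ne_two hp2)
  rw [h4, h5]
  have h6 : p % 4 = 1 ∨ p % 4 = 3 := by omega
  exact qc_five ⟨p % 4, Nat.mod_lt _ (by norm_num)⟩ ⟨p % 5, Nat.mod_lt _ (by norm_num)⟩ h6

theorem gold_fix (hp2 : p ≠ 2) (h5 : p % 5 = 0 ∨ p % 5 = 1 ∨ p % 5 = 4) {α : K} (hα : α * α = α + 1) :
    α ∈ Fx K p 1 := by
  have h2 : (2 : K) ≠ 0 := by
    intro h
    have h3 : ((2 : ℕ) : K) = 0 := by exact_mod_cast h
    rw [CharP.cast_eq_zero_iff K p] at h3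
    exact hp2 ((Nat.prime_dvd_prime_iff_eq hp.out Nat.prime_two).1 h3)
  obtain ⟨r, hr⟩ := (isSquare_five p hp2).2 h5
  set r' : K := ZMod.castHom (dvd_refl p) K r with hr'
  have hr1 : r' ∈ Fx K p 1 := by
    rw [mem_Fx, pow_one, hr', ← map_pow, ZMod.pow_card]
  have hr2 : r' * r' = 5 := by
    rw [hr', ← map_mul, ← hr, map_ofNat]
  have h3 : (2 * α - 1 - r') * (2 * α - 1 + r') = 0 := by linear_combination 4 * hα - hr2
  have m2 : (2 : K) ∈ Fx K p 1 := by
    have := (Fx K p 1).add_mem (Fx K p 1).one_mem (Fx K p 1).one_mem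
    rwa [one_add_one_eq_two] at this
  rcases mul_eq_zero.1 h3 with h | h
  · have : α = (1 + r') / 2 := by field_simp; linear_combination h
    rw [this]
    exact (Fx K p 1).div_mem ((Fx K p 1).add_mem (Fx K p 1).one_mem hr1) m2
  · have : α = (1 - r') / 2 := by field_simp; linear_combination h
    rw [this]
    exact (Fx K p 1).div_mem ((Fx K p 1).sub_mem (Fx K p 1).one_mem hr1) m2

end gold

/-! ### the field -/

section field

variable {ι : Type} [Fintype ι] [DecidableEq ι] {F : Type u} [Field F] {P : Subgroup (Matrix.GeneralLinearGroup ι F)}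

theorem pow_eq_of_trace [Finite F] (hP : ActsAbsolutelyIrreducibly (matrixSet P))
    (hns : ∀ F₀ : Subfield F, F₀ ≠ ⊤ → ¬ RealisableOver F₀ (matrixSet P))
    (p : ℕ) [hp : Fact p.Prime] [CharP F p] (a : ℕ)
    (htr : ∀ g ∈ P, (g : Matrix ι ι F).trace ^ p ^ a = (g : Matrix ι ι F).trace)
    (x : F) : x ^ p ^ a = x := by
  have h1 : Fx F p a = ⊤ := by
    by_contra hne
    exact hns _ hne (H920.realisable_of_trace hP (fun g hg => (mem_Fx p).2 (htr g hg)))
  rw [← mem_Fx p, h1]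
  trivial

theorem card_dvd_of_pow [Finite F] {m : ℕ} (hm : 1 ≤ m) (h : ∀ x : F, x ^ m = x) :
    Nat.card F - 1 ∣ m - 1 := by
  classical
  obtain ⟨u, hu⟩ := IsCyclic.exists_ofOrder_eq_natCard (α := Fˣ)
  rw [← Nat.card_units, ← hu]
  apply orderOf_dvd_of_pow_eq_one
  apply Units.ext
  rw [Units.val_pow_eq_pow_val, Units.val_one]
  have h1 := h u
  obtain ⟨m', rfl⟩ : ∃ m', m = m' + 1 := ⟨m - 1, by omega⟩
  rw [pow_succ] at h1
  rw [Nat.add_sub_cancel]
  exact mul_right_cancel₀ (Units.ne_zero u) (by rw [h1, one_mul])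

theorem card_of_pow [Finite F] (p : ℕ) [hp : Fact p.Prime] [CharP F p] {a : ℕ} (ha : a ≠ 0)
    (h : ∀ x : F, x ^ p ^ a = x) : ∃ j, 1 ≤ j ∧ Nat.card F ^ j = p ^ a := by
  classical
  have := Fintype.ofFinite F
  obtain ⟨e, he0, he⟩ := FiniteField.card F p
  have hcardF : Nat.card F = p ^ (e : ℕ) := by rw [Nat.card_eq_fintype_card, he]
  have hp1 : 1 < p := hp.out.one_lt
  have hdvd : Nat.card F - 1 ∣ p ^ a - 1 := card_dvd_of_pow (Nat.one_le_pow _ _ (by omega)) h
  rw [hcardF] at hdvd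
  have hdv : (e : ℕ) ∣ a := by
    have h5 := Nat.gcd_eq_left hdvd
    rw [Nat.pow_sub_one_gcd_pow_sub_one] at h5
    have h6 : 1 ≤ p ^ (e : ℕ) := Nat.one_le_pow _ _ (by omega)
    have h7 : 1 ≤ p ^ (Nat.gcd (e : ℕ) a) := Nat.one_le_pow _ _ (by omega)
    have h8 : p ^ (Nat.gcd (e : ℕ) a) = p ^ (e : ℕ) := by omega
    have h9 := Nat.pow_right_injective (Nat.succ_le_of_lt hp1) h8
    exact Nat.gcd_eq_left_iff_dvd.1 h9
  obtain ⟨j, rfl⟩ := hdv
  refine ⟨j, ?_, ?_⟩
  · rcases Nat.eq_zero_or_pos j with rfl | hj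
    · exact absurd rfl ha
    · exact hj
  · rw [hcardF, pow_mul]

theorem core_one_false (hC : Core P) (h : ∀ g : P, g = 1) : False := by
  have := hC.simple
  obtain ⟨x, hx⟩ := exists_ne (1 : Soc P)
  obtain ⟨g, rfl⟩ := toSoc_surjective P x
  rw [h g, map_one] at hx
  exact hx rfl

/-- the representation over the algebraic closure -/
theorem exists_rep (hC : Core P) (e : Soc P ≃* J2) (hn : Fintype.card ι = 6) (h2 : (2 : F) ≠ 0) :
    ∃ ψ : W →* Matrix.GeneralLinearGroup ι F, ψ.range = P ∧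
      (∀ v, Cfsg.Agent.H659.Ac.rp (AlgebraicClosure F) ψ ng v = -v) ∧
      (∀ v, Cfsg.Agent.H659.Ac.rp (AlgebraicClosure F) ψ r1 v = -v →
        Cfsg.Agent.H659.Ac.rp (AlgebraicClosure F) ψ r2 v = -v → v = 0) ∧
      finrank (AlgebraicClosure F) (UU (Cfsg.Agent.H659.Ac.rp (AlgebraicClosure F) ψ)) = 2 := by
  obtain ⟨φ, hφ, hp⟩ := Cfsg.Agent.H1.TJ2.exists_cover hC e
  let ψ : W →* Matrix.GeneralLinearGroup ι F := P.subtype.comp φ
  have hr : ψ.range = P := by
    ext g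
    constructor
    · rintro ⟨w, rfl⟩
      exact (φ w).2
    · intro hg
      obtain ⟨w, hw⟩ := hφ ⟨g, hg⟩
      exact ⟨w, congrArg Subtype.val hw⟩
  have hs : Submodule.span F (matrixSet P) = ⊤ := Cfsg.Agent.H920.span_eq_top hC.absIrred
  let K := AlgebraicClosure F
  have hirr := Cfsg.Agent.H659.Ac.rp_irr (K := K) (φ := ψ) hr hs
  have h2' : (2 : K) ≠ 0 := by
    have h3 : algebraMap F K 2 ≠ 0 := (map_ne_zero _).2 h2
    rwa [map_ofNat] at h3
  have hdim : finrank K (ι → K) = 6 := by rw [Module.finrank_fintype_fun_eq_card, hn]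
  rcases Cfsg.Agent.H1.TJ2.ng_image e hp with h | h
  · exfalso
    have h3 := triv_one (ρ := Cfsg.Agent.H659.Ac.rp K ψ) h2' (fun v => by
      have h3 : ((ψ ng : Matrix.GeneralLinearGroup ι F) : Matrix ι ι F) = 1 := h
      rw [Cfsg.Agent.H659.Ac.rp_apply, h3, Matrix.map_one _ (map_zero _) (map_one _), Matrix.one_mulVec])
      (by rw [hdim]; norm_num) hirr
    refine core_one_false hC fun g => ?_
    obtain ⟨w, rfl⟩ := hφ g
    have h4 : ((ψ w : Matrix.GeneralLinearGroup ι F) : Matrix ι ι F).map (algebraMap F K) = 1 := by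
      apply Matrix.mulVec_injective
      funext v
      rw [← Cfsg.Agent.H659.Ac.rp_apply, h3, one_mulVec]
    apply Subtype.ext
    apply Units.ext
    ext i j
    have h5 := congrFun (congrFun h4 i) j
    rw [Matrix.map_apply] at h5
    apply (algebraMap F K).injective
    change algebraMap F K (((ψ w : Matrix.GeneralLinearGroup ι F) : Matrix ι ι F) i j) = _
    rw [h5]
    change _ = algebraMap F K ((1 : Matrix ι ι F) i j)
    by_cases hij : i = j
    · subst hij; rw [one_apply_eq, one_apply_eq, map_one]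
    · rw [one_apply_ne hij, one_apply_ne hij, map_zero]
  · have hng : ∀ v, Cfsg.Agent.H659.Ac.rp K ψ ng v = -v := fun v => by
      have h3 : ((ψ ng : Matrix.GeneralLinearGroup ι F) : Matrix ι ι F) = -1 := h
      have h4 : (-1 : Matrix ι ι F).map (algebraMap F K) = -1 := by
        ext i j
        simp [Matrix.map_apply, Matrix.one_apply, apply_ite (algebraMap F K)]
      rw [Cfsg.Agent.H659.Ac.rp_apply, h3, h4, Matrix.neg_mulVec, Matrix.one_mulVec]
    obtain ⟨ι', hι⟩ := IsAlgClosed.exists_pow_nat_eq (-1 : K) two_pos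
    have hι2 : ι' * ι' = -1 := by rw [← hι]; ring
    obtain ⟨d, m, hd, hm, hV⟩ := neg_dims (ρ := Cfsg.Agent.H659.Ac.rp K ψ) h2' hng hι2
    rw [hdim] at hV
    have hcase : (d = 0 ∧ m = 1) := by
      omega
    obtain ⟨rfl, rfl⟩ := hcase
    have hbot : Wt (Cfsg.Agent.H659.Ac.rp K ψ) (-1 : K) (-1) = ⊥ := Submodule.finrank_eq_zero.1 (by rw [hd])
    refine ⟨ψ, hr, hng, ?_, ?_⟩
    · intro v h3 h4
      have h5 : v ∈ Wt (Cfsg.Agent.H659.Ac.rp K ψ) (-1 : K) (-1) := mem_neg.2 ⟨h3, h4⟩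
      rwa [hbot] at h5
    · have h3 := finrank_split (r := Cfsg.Agent.H659.Ac.rp K ψ r2) (S := UU (Cfsg.Agent.H659.Ac.rp K ψ))
        (μ := (1 : K)) h2' one_ne_zero (fun v hv => ⟨trivial, by rw [ap22 _ q_12, hv.2, map_smul]⟩)
        (fun v _ => by rw [ap20 _ q_22, mul_one, one_smul])
      change finrank K (UU (Cfsg.Agent.H659.Ac.rp K ψ)) = finrank K (Wt (Cfsg.Agent.H659.Ac.rp K ψ) (-1 : K) 1) +
        finrank K (Wt (Cfsg.Agent.H659.Ac.rp K ψ) (-1 : K) (-1)) at h3
      rw [h3, hm, hd]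

/-- **the field of the Hall-Janko group in degree six** -/
theorem j2_six_field [Finite F] (hC : Core P) (p : ℕ) [hp : Fact p.Prime] [CharP F p] (hp2 : p ≠ 2)
    (hn : Fintype.card ι = 6) (hJ : Spor.IsoJ2 (Soc P)) :
    (Nat.card F = p ∧ (p % 5 = 0 ∨ p % 5 = 1 ∨ p % 5 = 4)) ∨ (Nat.card F = p ^ 2 ∧ (p % 5 = 2 ∨ p % 5 = 3)) := by
  obtain ⟨e⟩ := hJ
  let K := AlgebraicClosure F
  have hK : CharP K p := charP_of_injective_algebraMap (algebraMap F K).injective p
  have h2F : (2 : F) ≠ 0 := by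
    intro h
    have h3 : ((2 : ℕ) : F) = 0 := by exact_mod_cast h
    rw [CharP.cast_eq_zero_iff F p] at h3
    exact hp2 ((Nat.prime_dvd_prime_iff_eq hp.out Nat.prime_two).1 h3)
  have h2 : (2 : K) ≠ 0 := by
    have h3 : algebraMap F K 2 ≠ 0 := (map_ne_zero _).2 h2F
    rwa [map_ofNat] at h3
  obtain ⟨ψ, hr, hng, hz, hU⟩ := exists_rep hC e hn h2F
  have hV : finrank K (ι → K) = 6 := by rw [Module.finrank_fintype_fun_eq_card, hn]
  obtain ⟨α, hα, hsc, hs⟩ := exists_alpha h2 hng hz hU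
  -- the traces
  have htr : ∀ a : ℕ, α ∈ Fx K p a → ∀ x : F, x ^ p ^ a = x := by
    intro a ha
    refine pow_eq_of_trace hC.absIrred hC.no_subfield p a fun g hg => ?_
    rw [← hr] at hg
    obtain ⟨w, rfl⟩ := hg
    have h3 := (mem_Fx p).1 (trace_rep_mem h2 hng hz hU hV hs ha w)
    rw [Cfsg.Agent.H659.Ac.trace_rp, ← map_pow] at h3
    exact (algebraMap F K).injective h3
  -- the golden ratio is in `F`
  obtain ⟨α₀, hα₀⟩ : ∃ α₀ : F, algebraMap F K α₀ = α := by
    have hnt : Nontrivial (UU (Cfsg.Agent.H659.Ac.rp K ψ)) :=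
      Module.nontrivial_of_finrank_pos (R := K) (by rw [hU]; norm_num)
    obtain ⟨y, hy⟩ := exists_ne (0 : UU (Cfsg.Agent.H659.Ac.rp K ψ))
    have hdet : (((ψ r1 : Matrix.GeneralLinearGroup ι F) : Matrix ι ι F) + 1).det = 0 := by
      apply (algebraMap F K).injective
      rw [map_zero, RingHom.map_det]
      rw [← Matrix.exists_mulVec_eq_zero_iff]
      refine ⟨(y : ι → K), fun h => hy (Subtype.ext h), ?_⟩
      have h3 : (algebraMap F K).mapMatrix (((ψ r1 : Matrix.GeneralLinearGroup ι F) : Matrix ι ι F) + 1) =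
          ((ψ r1 : Matrix.GeneralLinearGroup ι F) : Matrix ι ι F).map (algebraMap F K) + 1 := by
        rw [map_add, map_one]
        rfl
      rw [h3, Matrix.add_mulVec, Matrix.one_mulVec, ← Cfsg.Agent.H659.Ac.rp_apply, UU_neg, neg_add_cancel]
    obtain ⟨v, hv0, hv⟩ := Matrix.exists_mulVec_eq_zero_iff.2 hdet
    rw [Matrix.add_mulVec, Matrix.one_mulVec] at hv
    have key : ∀ (w : W) (x : ι → F), Cfsg.Agent.H659.Ac.rp K ψ w (fun l => algebraMap F K (x l)) =
        fun l => algebraMap F K ((((ψ w : Matrix.GeneralLinearGroup ι F) : Matrix ι ι F) *ᵥ x) l) := by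
      intro w x
      rw [Cfsg.Agent.H659.Ac.rp_apply]
      funext l
      simp only [Matrix.mulVec, dotProduct, Matrix.map_apply, map_sum, map_mul]
    have hvU : (fun l => algebraMap F K (v l)) ∈ UU (Cfsg.Agent.H659.Ac.rp K ψ) := by
      refine ⟨trivial, ?_⟩
      rw [key, eq_neg_of_add_eq_zero_left hv, neg_one_smul]
      funext l
      rw [Pi.neg_apply, Pi.neg_apply, map_neg]
    have h3 := LinearMap.congr_fun hsc ⟨_, hvU⟩
    have h4 := congrArg (fun z : UU (Cfsg.Agent.H659.Ac.rp K ψ) => (z : ι → K)) h3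
    change Cfsg.Agent.H659.Ac.rp K ψ gg (Cfsg.Agent.H659.Ac.rp K ψ J2' (fun l => algebraMap F K (v l))) +
      Cfsg.Agent.H659.Ac.rp K ψ J2' (Cfsg.Agent.H659.Ac.rp K ψ gg (fun l => algebraMap F K (v l))) =
      α • (fun l => algebraMap F K (v l)) at h4
    rw [key, key, key, key] at h4
    obtain ⟨l, hl⟩ : ∃ l, v l ≠ 0 := by
      by_contra hcon
      push Not at hcon
      exact hv0 (funext hcon)
    have h5 := congrFun h4 l
    rw [Pi.add_apply, Pi.smul_apply, smul_eq_mul, ← map_add] at h5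
    obtain ⟨z, hz'⟩ : ∃ z, algebraMap F K z = α * algebraMap F K (v l) := ⟨_, h5⟩
    refine ⟨z / v l, ?_⟩
    rw [map_div₀, hz']
    exact mul_div_cancel_right₀ _ ((map_ne_zero _).2 hl)
  have hroot : α₀ * α₀ = α₀ + 1 := by
    apply (algebraMap F K).injective
    rw [map_mul, map_add, map_one, hα₀, hα]
  by_cases h5 : p % 5 = 0 ∨ p % 5 = 1 ∨ p % 5 = 4
  · left
    obtain ⟨j, hj, hc⟩ := card_of_pow p one_ne_zero (htr 1 (gold_fix p hp2 h5 hα))
    refine ⟨?_, h5⟩
    rw [pow_one] at hc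
    rcases Nat.lt_or_ge 1 j with h | h
    · exfalso
      have h6 : (Nat.card F ^ j).Prime := by rw [hc]; exact hp.out
      exact Nat.Prime.not_prime_pow h h6
    · have : j = 1 := by omega
      rw [this, pow_one] at hc
      exact hc
  · right
    have h6 : p % 5 = 2 ∨ p % 5 = 3 := by omega
    refine ⟨?_, h6⟩
    obtain ⟨j, hj, hc⟩ := card_of_pow p two_ne_zero (htr 2 (gold_sq p hα))
    have h1 : 1 < Nat.card F := Finite.one_lt_card
    have hj2 : j ≤ 2 := by
      have := Fintype.ofFinite F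
      obtain ⟨e, he0, he⟩ := FiniteField.card F p
      rw [Nat.card_eq_fintype_card, he, ← pow_mul] at hc
      have h7 := Nat.pow_right_injective hp.out.two_le hc
      nlinarith [e.pos]
    rcases (show j = 1 ∨ j = 2 by omega) with rfl | rfl
    · rw [pow_one] at hc; exact hc
    · exfalso
      have hcp : Nat.card F = p := Nat.pow_left_injective two_ne_zero hc
      have := Fintype.ofFinite F
      have hcp' : Fintype.card F = p := by rw [← Nat.card_eq_fintype_card, hcp]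
      let f : ZMod p →+* F := ZMod.castHom (dvd_refl p) F
      have hf : Function.Bijective f := by
        have hinj : Function.Injective f := f.injective
        exact (Fintype.bijective_iff_injective_and_card f).2 ⟨hinj, by rw [ZMod.card, hcp']⟩
      obtain ⟨b, hb⟩ := hf.2 (2 * α₀ - 1)
      apply h5
      rw [← isSquare_five p hp2]
      refine ⟨b, hf.1 ?_⟩
      rw [map_mul, hb, map_ofNat]
      linear_combination (-4) * hroot

end field

end Cfsg.Agent.H905.JD
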