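import Cfsg.Agent.H905.MdJ
import Cfsg.Agent.H905.MdH

/-!
# Traces of the classical groups over a Witt frame, defining characteristic (helper905)

`M : Model Fr G` of a Witt frame with anisotropic part at most a line, `φ : G → GL(ι, F)` with absolutely irreducible
image `P`.

* `model_trace` : `a ^ (p ^ e) = a` on the field of the frame implies `tr(g) ^ (p ^ e) = tr(g)` on `P`;
* `model_inv` : `σ = (a ↦ a ^ (p ^ b))` implies `tr(g⁻¹) = tr(g) ^ (p ^ b)` on `P`.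
-/

set_option autoImplicit false
set_option linter.unusedSectionVars false
set_option linter.style.haveILetI false

namespace Cfsg.Agent.H905.Md

open CoxeterSystem Cfsg.Agent.ChevalleyStructure.CoxeterGeom Cfsg.Agent.Tits.Roots Cfsg.Agent.Nodes.TypeC
open Cfsg.Agent.Nodes.Comb Cfsg.Agent.Nodes.Reps Cfsg.Agent.Nodes.WittRoot Cfsg.Agent.Nodes.BNOf
open Cfsg.Agent.Nodes.WittRGD Cfsg.Agent.Nodes.RGDLib Cfsg.Agent.Nodes.WittAll Cfsg.Agent.Nodes
open Cfsg.Agent.TitsThree Cfsg.Agent.TitsThree.Siegel Cfsg.Agent.TitsThree.WittFrame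
  Cfsg.Agent.TitsThree.WittWeyl Cfsg.Agent.TitsThree.FrameCN
open Cfsg Cfsg.Geo
open scoped MatrixGroups

theorem gg_top {I W Y : Type*} [Fintype I] [DecidableEq I] [Group W] [Group Y] {M : CoxeterMatrix I}
    {cs : CoxeterSystem M W} {A : I → I → ℤ} {h : IsCartan M A} {T : Subgroup Y}
    {X : (I → ℤ) → Subgroup Y} (hG : G1 cs h X = ⊤) : Cfsg.Agent.Nodes.Bruhat.GG cs h T X = ⊤ := by
  rw [eq_top_iff, ← hG]
  exact le_sup_right

section Model

variable {F : Type*} [Field F] {V : Type*} [AddCommGroup V] [Module F V] {H : HForm F V} {n : ℕ}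
  {Fr : Frame H (Fin n)} {K : Type*} [Group K] (M : Model Fr K) {p : ℕ}

theorem mem_modelT {t : K} : t ∈ WittModel.T M ↔
    ∃ (g : V ≃ₗ[F] V) (hg : g ∈ M.I), WittRoot.Mono Fr g id ∧ M.φ ⟨g, hg⟩ = t := by
  unfold WittModel.T
  constructor
  · rintro ⟨⟨g, hg⟩, h1, rfl⟩
    exact ⟨g, hg, (Subgroup.mem_subgroupOf.1 h1).2, rfl⟩
  · rintro ⟨g, hg, h1, rfl⟩
    exact ⟨⟨g, hg⟩, Subgroup.mem_subgroupOf.2 ⟨hg, h1⟩, rfl⟩

variable {M} (hA : AmbT Fr p M.I) (hk : Kd Fr)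
include hA hk

theorem modelT_comm : ∀ s ∈ WittModel.T M, ∀ t ∈ WittModel.T M, s * t = t * s := by
  intro s hs t ht
  obtain ⟨g, hg, h1, rfl⟩ := (mem_modelT M).1 hs
  obtain ⟨k, hk', h2, rfl⟩ := (mem_modelT M).1 ht
  rw [← map_mul, ← map_mul]
  congr 1
  exact Subtype.ext (torus_comm hA.V0 hk (hA.iso _ hg) (hA.iso _ hk') h1 h2)

theorem modelT_pow {Q : ℕ} (hQ : ∀ a : F, a ^ Q = a) : ∀ t ∈ WittModel.T M, t ^ Q = t := by
  intro t ht
  obtain ⟨g, hg, h1, rfl⟩ := (mem_modelT M).1 ht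
  rw [← map_pow]
  congr 1
  exact Subtype.ext (torus_pow hA.V0 hk hQ (hA.iso _ hg) h1)

theorem modelT_inv {q : ℕ} (hσ : ∀ a, H.σ a = a ^ q) {g : V ≃ₗ[F] V} (hg : g ∈ M.I)
    (hm : WittRoot.Mono Fr g ng) : ∀ t ∈ WittModel.T M, (M.φ ⟨g, hg⟩)⁻¹ * t⁻¹ * M.φ ⟨g, hg⟩ = t ^ q := by
  intro t ht
  obtain ⟨k, hk', h1, rfl⟩ := (mem_modelT M).1 ht
  rw [← map_pow, ← map_inv, ← map_inv, ← map_mul, ← map_mul]
  congr 1
  exact Subtype.ext (torus_inv hA.V0 hk hσ (hA.iso _ hg) (hA.iso _ hk') hm h1)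

variable {E : Type*} [Field E] {ι : Type} [Fintype ι] [DecidableEq ι] [Nonempty ι] {P : Subgroup (GL ι E)}
  [Finite V] [Finite K] [Fact p.Prime] [CharP F p] [CharP E p] (hn : 0 < n) {p0 : Fr.Adm} (hp0 : p0.c ≠ 0)
  {φ : K →* GL ι E} (hφ : φ.range = P) (hP : ActsAbsolutelyIrreducibly (matrixSet P))
include hn hp0 hφ hP

theorem model_trace {e : ℕ} (he : ∀ a : F, a ^ p ^ e = a) {g : GL ι E} (hg : g ∈ P) :
    (g : Matrix ι ι E).trace ^ p ^ e = (g : Matrix ι ι E).trace := by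
  haveI : Finite (CoxeterMatrix.B n).Group := finite_W (CoxeterMatrix.B n).toCoxeterSystem
  exact trace_pow (rgdC_model M hA hp0 (CoxeterMatrix.B n).toCoxeterSystem)
    (gg_top (WittModel.G1_eq_top M hn _)) (modelT_comm hA hk) hφ hP (modelT_pow hA hk he) hg

theorem model_inv {b : ℕ} (hσ : ∀ a, H.σ a = a ^ p ^ b) {g : GL ι E} (hg : g ∈ P) :
    ((g⁻¹ : GL ι E) : Matrix ι ι E).trace = (g : Matrix ι ι E).trace ^ p ^ b := by
  haveI : Finite (CoxeterMatrix.B n).Group := finite_W (CoxeterMatrix.B n).toCoxeterSystem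
  have R := rgdC_model M hA hp0 (CoxeterMatrix.B n).toCoxeterSystem
  obtain ⟨v, hv, k, hk', h1, h2⟩ := exists_neg M hA hp0 (cs := (CoxeterMatrix.B n).toCoxeterSystem) R.nsys
  exact trace_inv_pow R (gg_top (WittModel.G1_eq_top M hn _)) (modelT_comm hA hk) hφ hP hv h1
    (modelT_inv hA hk hσ hk' h2) hg

end Model

end Cfsg.Agent.H905.Md
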