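import Cfsg.Agent.H905.MdO

/-!
# Matrix coefficients of simple modules in defining characteristic (helper905)

* `exists_opp_dec` : `G = U⁻ N U` if `w₀ = -1`;
* `coeff_eq` : a function which is invariant under `U⁻` on the left and `U` on the right and agrees with
  `g ↦ φ (g c)` on `N` agrees with it everywhere;
* `finrank_le_of_kernel` : the dimension is at most the rank of the kernel `φ (g h c)`.
-/

set_option autoImplicit false
set_option linter.unusedSectionVars false
set_option linter.style.haveILetI false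

namespace Cfsg.Agent.H905.Md

open CoxeterSystem Cfsg.Agent.ChevalleyStructure.CoxeterGeom Cfsg.Agent.Tits.Roots Cfsg.Agent.Tits.Core
  Cfsg.Agent.Tits.Exchange Cfsg.Agent.Nodes.Reps Cfsg.Agent.Nodes.BNOf Cfsg.Agent.Nodes.StabComb
  Cfsg.Agent.Nodes.Bruhat Cfsg.Agent.Nodes.OppDec Cfsg.Agent.Nodes.LeviDec Cfsg.Agent.KFacts.RgdOpp
  Cfsg.Agent.Omega.CR Cfsg.Agent.Omega.FOne.Lift.Sd Cfsg.Agent.H911

variable {I W Y : Type*} [Fintype I] [DecidableEq I] [Group W] [Group Y] {M : CoxeterMatrix I}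
  {cs : CoxeterSystem M W} {A : I → I → ℤ} {h : IsCartan M A} {p : ℕ} {T : Subgroup Y} {n : I → Y}
  {X : (I → ℤ) → Subgroup Y} {k V : Type*} [Field k] [AddCommGroup V] [Module k V]

/-- `G = U⁻ N U` -/
theorem exists_opp_dec (R : RGD cs h p T n X) [Finite W] {v0 : W} (hv : ∀ x, rep cs h v0 x = -x) {g : Y}
    (hg : g ∈ GG cs h T X) : ∃ a ∈ UN cs h X, ∃ (w : W) (y : Y), Rp cs R.nsys w y ∧
      ∃ u ∈ RGD.Sup X (RGD.Pos cs h), g = a * y * u := by
  obtain ⟨n0, hn0⟩ := exists_rp cs R.nsys v0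
  have h1 : n0⁻¹ * g ∈ GG cs h T X := mul_mem (inv_mem (NN_le_GG R ⟨v0, hn0⟩)) hg
  obtain ⟨w, b₁, hb₁, y, hy, b₂, hb₂, e⟩ := (mem_GG R).1 h1
  obtain ⟨t₁, ht₁, u₁, hu₁, rfl⟩ := RGD.mem_B R |>.1 hb₁
  obtain ⟨t₂, ht₂, u₂, hu₂, rfl⟩ := RGD.mem_B R |>.1 hb₂
  have hn1 : Rp cs R.nsys v0 (n0 * t₁) := hn0.mul_mem_right ht₁
  refine ⟨(n0 * t₁) * u₁ * (n0 * t₁)⁻¹, ?_, v0 * w, (n0 * t₁) * (y * t₂), hn1.mul (hy.mul_mem_right ht₂), u₂, hu₂, ?_⟩
  · rw [← conj_UN R hv hn1]
    exact conj_mem_cj.2 hu₁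
  · have h2 : g = n0 * (t₁ * u₁ * y * (t₂ * u₂)) := by rw [← e]; group
    rw [h2]
    group

/-- the comparison of two functions on the group -/
theorem coeff_eq (R : RGD cs h p T n X) [Finite W] {v0 : W} (hv : ∀ x, rep cs h v0 x = -x)
    {ρ : Y →* Module.End k V} {φ : Module.Dual k V} (hφ : φ ∈ fx (dualRep ρ) (UN cs h X)) {c : V}
    (hc : c ∈ D cs h X ρ) {F : Y → k} (hFl : ∀ a ∈ UN cs h X, ∀ g, F (a * g) = F g)
    (hFr : ∀ u ∈ RGD.Sup X (RGD.Pos cs h), ∀ g, F (g * u) = F g)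
    (hF : ∀ w y, Rp cs R.nsys w y → φ (ρ y c) = F y) {g : Y} (hg : g ∈ GG cs h T X) : φ (ρ g c) = F g := by
  obtain ⟨a, ha, w, y, hy, u, hu, rfl⟩ := exists_opp_dec R hv hg
  rw [hFr u hu, hFl a ha, mul_assoc, rho_mul, (mem_fx_dual ρ).1 hφ a ha, rho_mul, hc u hu]
  exact hF w y hy

/-- the elements killed by all the functionals `φ g` -/
theorem eq_zero_of_coeff {ρ : Y →* Module.End k V} {G : Subgroup Y}
    (hirr : ∀ L : Submodule k V, Ivt ρ G L → L = ⊥ ∨ L = ⊤) {φ : Module.Dual k V} (hφ0 : φ ≠ 0) {v : V}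
    (h0 : ∀ g ∈ G, φ (ρ g v) = 0) : v = 0 := by
  let L : Submodule k V :=
    { carrier := {v | ∀ g ∈ G, φ (ρ g v) = 0}
      zero_mem' := fun g _ => by rw [map_zero, map_zero]
      add_mem' := fun {a b} ha hb g hg => by rw [map_add, map_add, ha g hg, hb g hg, add_zero]
      smul_mem' := fun r a ha g hg => by rw [map_smul, map_smul, ha g hg, smul_zero] }
  rcases hirr L (fun x hx a ha g hg => by
    rw [← rho_mul]; exact ha _ (mul_mem hg hx)) with h1 | h1
  · have h2 : v ∈ L := h0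
    rw [h1] at h2
    exact h2
  · exfalso
    apply hφ0
    ext w
    have h2 : w ∈ L := by rw [h1]; trivial
    have h3 := h2 1 (one_mem _)
    rwa [map_one] at h3

/-- `V` is spanned by the translates of a nonzero vector -/
theorem span_translates {ρ : Y →* Module.End k V} {G : Subgroup Y}
    (hirr : ∀ L : Submodule k V, Ivt ρ G L → L = ⊥ ∨ L = ⊤) {c : V} (hc0 : c ≠ 0) :
    Submodule.span k (Set.range fun g : G => ρ g.1 c) = ⊤ := by
  refine (hirr _ ?_).resolve_left ?_
  · intro g hg v hv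
    induction hv using Submodule.span_induction with
    | mem x hx =>
      obtain ⟨y, rfl⟩ := hx
      refine Submodule.subset_span ⟨⟨g, hg⟩ * y, ?_⟩
      change ρ (g * y.1) c = ρ g (ρ y.1 c)
      rw [rho_mul]
    | zero => rw [map_zero]; exact zero_mem _
    | add x y _ _ hx hy => rw [map_add]; exact add_mem hx hy
    | smul r x _ hx => rw [map_smul]; exact Submodule.smul_mem _ _ hx
  · intro h1
    apply hc0
    have h2 : ρ (1 : G).1 c ∈ Submodule.span k (Set.range fun g : G => ρ g.1 c) := Submodule.subset_span ⟨1, rfl⟩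
    rw [h1, Submodule.mem_bot] at h2
    rw [← h2]
    change c = ρ 1 c
    rw [map_one]
    rfl

/-- the dimension is at most the rank of the kernel -/
theorem finrank_le_of_kernel [FiniteDimensional k V] {ρ : Y →* Module.End k V} {G : Subgroup Y}
    (hirr : ∀ L : Submodule k V, Ivt ρ G L → L = ⊥ ∨ L = ⊤) {c : V} (hc0 : c ≠ 0) {φ : Module.Dual k V} (hφ0 : φ ≠ 0)
    {α : Type*} [Fintype α] (P Q : Y → α → k) (hK : ∀ g ∈ G, ∀ y ∈ G, φ (ρ (g * y) c) = ∑ a, P g a * Q y a) :
    Module.finrank k V ≤ Fintype.card α := by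
  classical
  let L : (G →₀ k) →ₗ[k] V := Finsupp.linearCombination k fun y : G => ρ y.1 c
  let N : (G →₀ k) →ₗ[k] (α → k) := Finsupp.linearCombination k fun y : G => Q y.1
  have hL : LinearMap.range L = ⊤ := by
    rw [Finsupp.range_linearCombination]
    exact span_translates hirr hc0
  have hker : LinearMap.ker N ≤ LinearMap.ker L := by
    intro f hf
    rw [LinearMap.mem_ker] at hf ⊢
    refine eq_zero_of_coeff hirr hφ0 fun g hg => ?_
    have h1 : L f = f.sum fun y r => r • ρ y.1 c := Finsupp.linearCombination_apply _ _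
    have h2 : N f = f.sum fun y r => r • Q y.1 := Finsupp.linearCombination_apply _ _
    rw [h1, Finsupp.sum, map_sum, map_sum]
    have h3 : ∀ y ∈ f.support, φ (ρ g (f y • ρ y.1 c)) = ∑ a, P g a * (f y * Q y.1 a) := by
      intro y _
      rw [map_smul, map_smul, ← rho_mul, hK g hg y.1 y.2, smul_eq_mul, Finset.mul_sum]
      exact Finset.sum_congr rfl fun a _ => by ring
    rw [Finset.sum_congr rfl h3, Finset.sum_comm]
    refine Finset.sum_eq_zero fun a _ => ?_
    rw [← Finset.mul_sum]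
    have h4 := congrFun h2 a
    rw [hf, Finsupp.sum, Finset.sum_apply] at h4
    have h5 : ∑ y ∈ f.support, f y * Q y.1 a = 0 := h4.symm
    rw [h5, mul_zero]
  obtain ⟨S, hS⟩ : ∃ S : LinearMap.range N →ₗ[k] V, ∀ f, S ⟨N f, LinearMap.mem_range_self N f⟩ = L f := by
    obtain ⟨s, hs⟩ := N.rangeRestrict.exists_rightInverse_of_surjective N.range_rangeRestrict
    refine ⟨L.comp s, fun f => ?_⟩
    have h1 : N (s ⟨N f, LinearMap.mem_range_self N f⟩) = N f :=
      congrArg Subtype.val (LinearMap.congr_fun hs ⟨N f, LinearMap.mem_range_self N f⟩)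
    have h2 : L (s ⟨N f, LinearMap.mem_range_self N f⟩ - f) = 0 := by
      apply hker
      rw [LinearMap.mem_ker, map_sub, h1, sub_self]
    rw [map_sub, sub_eq_zero] at h2
    exact h2
  have h1 : LinearMap.range S = ⊤ := by
    rw [eq_top_iff, ← hL]
    rintro _ ⟨f, rfl⟩
    exact ⟨_, hS f⟩
  calc Module.finrank k V = Module.finrank k (LinearMap.range S) := by rw [h1, finrank_top]
    _ ≤ Module.finrank k (LinearMap.range N) := LinearMap.finrank_range_le S
    _ ≤ Module.finrank k (α → k) := Submodule.finrank_le _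
    _ = Fintype.card α := Module.finrank_fintype_fun_eq_card k

end Cfsg.Agent.H905.Md
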