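import Mathlib

/-!
# The kernel of the modules of `Sp_4(K)` in defining characteristic (definitions) (helper905)

Coordinates of `K^4` in the order `e0, e1, f1, f0`.  An isotropic pair is a pair of linearly independent vectors
`a, b` with `om a b = 0`.  For isotropic pairs `r, s`
`D1 r s = r.a ⬝ s.a`, `D2 r s` = the `2 × 2` minor.  For an irreducible module `V` of `Sp_4(K)` with highest weight
`c₁, c₂` there are functionals `φ r` and vectors `v s` with `φ r (v s) = j (D1 r s) ^ c₁ * j (D2 r s) ^ c₂`.
-/

set_option autoImplicit false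

namespace Cfsg.Agent.H905.Sp4

open Matrix

universe u

/-- the symplectic form on `K^4` in the order `e0, e1, f1, f0` -/
def om {K : Type u} [Field K] (x y : Fin 4 → K) : K := x 0 * y 3 - x 3 * y 0 + x 1 * y 2 - x 2 * y 1

/-- isotropic pairs of linearly independent vectors -/
structure IsoPair (K : Type u) [Field K] where
  a : Fin 4 → K
  b : Fin 4 → K
  iso : om a b = 0
  ind : LinearIndependent K ![a, b]

/-- first coordinate function -/
def D1 {K : Type u} [Field K] (r s : IsoPair K) : K := r.a ⬝ᵥ s.a

/-- second coordinate function -/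
def D2 {K : Type u} [Field K] (r s : IsoPair K) : K :=
  (r.a ⬝ᵥ s.a) * (r.b ⬝ᵥ s.b) - (r.a ⬝ᵥ s.b) * (r.b ⬝ᵥ s.a)

end Cfsg.Agent.H905.Sp4
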