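import Cfsg.Agent.H905.MdK
import Cfsg.Agent.H905.Sp4Def
import Cfsg.Agent.H62.SpCross

/-!
# The natural module of `Sp_4(K)` and the root groups (helper905)

`e0, e1, f1, f0` : the coordinates `inr 0, inr 1, inl 1, inl 0`.

* `SUp`, `SLo` : the stabilisers of the flags; `U_le`, `UN_le` : the positive (negative) root groups are contained in
  them;
* `F1`, `F2` : the two coordinate functions; `F1_inv`, `F2_inv` : invariance under `U⁻` on the left and `U` on the right.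
-/

set_option autoImplicit false
set_option linter.unusedSectionVars false
set_option linter.style.haveILetI false

namespace Cfsg.Agent.H905.Sp4

open CoxeterSystem Cfsg.Agent.ChevalleyStructure.CoxeterGeom Cfsg.Agent.Tits.Roots Cfsg.Agent.Nodes.TypeC
open Cfsg.Agent.Nodes.Comb Cfsg.Agent.Nodes.Reps Cfsg.Agent.Nodes.WittRoot Cfsg.Agent.Nodes.BNOf
open Cfsg.Agent.Nodes.WittRGD Cfsg.Agent.Nodes.RGDLib Cfsg.Agent.Nodes.OppDec
open Cfsg.Agent.TitsThree Cfsg.Agent.TitsThree.Siegel Cfsg.Agent.TitsThree.WittFrame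
  Cfsg.Agent.TitsThree.FrameCN Cfsg.Agent.TitsThree.SpIdent Cfsg.Agent.TitsThree.SpGen
open Cfsg.Agent.H62.SpCross

universe u

variable {K : Type u} [Field K]

/-- the natural module -/
abbrev V4 (K : Type u) := Fin 2 ⊕ Fin 2 → K

theorem h_eq (v w : V4 K) : (form 2 K).h v w =
    v (.inr 0) * w (.inl 0) - v (.inl 0) * w (.inr 0) + (v (.inr 1) * w (.inl 1) - v (.inl 1) * w (.inr 1)) := by
  change Cfsg.sympForm 2 K v w = _
  rw [Cfsg.Agent.ClassicalGeometry.SympBasic.sympForm_eq_sum, Fin.sum_univ_two]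

theorem pg_form {a b : Fin 2 × Bool} {g : V4 K ≃ₗ[K] V4 K} (hg : g ∈ PG (frame 2 K) a b) :
    ∃ s c : K, (a ≠ b → c = 0) ∧ ∀ v, g v = v + ((form 2 K).h v ((frame 2 K).b a) * s) • (frame 2 K).b b +
      (s * (form 2 K).h v ((frame 2 K).b b)) • (frame 2 K).b a + (c * (form 2 K).h v ((frame 2 K).b a)) • (frame 2 K).b a := by
  unfold PG at hg
  by_cases hab : a = b
  · rw [if_pos hab] at hg
    obtain ⟨p, rfl⟩ := hg
    refine ⟨0, p.c, fun h => absurd hab h, fun v => ?_⟩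
    have hw : p.w = 0 := p.ok
    change (form 2 K).sie _ _ _ _ _ v = _
    rw [HForm.sie_apply, hw, (form 2 K).zero_right]
    simp
  · rw [if_neg hab] at hg
    obtain ⟨t, rfl⟩ := hg
    by_cases h1 : a.1 ≠ b.1
    · refine ⟨(frame 2 K).sc b t, 0, fun _ => rfl, fun v => ?_⟩
      rw [Frame.X_eq (frame 2 K) h1, HForm.sie_apply, (form 2 K).smul_right]
      simp only [form_ε, inv_neg, inv_one, neg_mul, one_mul, neg_smul, sub_neg_eq_add, form_σ, zero_mul, zero_smul,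
        add_zero, smul_smul, form_h]
    · refine ⟨0, 0, fun _ => rfl, fun v => ?_⟩
      rw [Frame.X, dif_neg h1]
      simp


theorem e0_eq : (frame 2 K).b (0, true) = (Pi.single (.inr 0) 1 : V4 K) := rfl
theorem e1_eq : (frame 2 K).b (1, true) = (Pi.single (.inr 1) 1 : V4 K) := rfl
theorem f0_eq : (frame 2 K).b (0, false) = (Pi.single (.inl 0) 1 : V4 K) := rfl
theorem f1_eq : (frame 2 K).b (1, false) = (Pi.single (.inl 1) 1 : V4 K) := rfl

/-- the isometries which fix `e0` and `e1` modulo `e0` -/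
def SUp (K : Type u) [Field K] : Subgroup (V4 K ≃ₗ[K] V4 K) where
  carrier := {g | (form 2 K).IsIso g ∧ g (Pi.single (.inr 0) 1) = Pi.single (.inr 0) 1 ∧
    ∃ a : K, g (Pi.single (.inr 1) 1) = Pi.single (.inr 1) 1 + a • Pi.single (.inr 0) 1}
  one_mem' := ⟨fun _ _ => rfl, rfl, 0, by rw [zero_smul, add_zero]; rfl⟩
  mul_mem' := by
    rintro g k ⟨hg, g0, a, g1⟩ ⟨hk, k0, b, k1⟩
    refine ⟨HForm.IsIso.mul _ hg hk, ?_, a + b, ?_⟩
    · change g (k _) = _
      rw [k0, g0]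
    · change g (k _) = _
      rw [k1, map_add, map_smul, g1, g0, add_smul, add_assoc]
  inv_mem' := by
    rintro g ⟨hg, g0, a, g1⟩
    have h0 : g⁻¹ (Pi.single (.inr 0) 1) = Pi.single (.inr 0) 1 := by
      conv_lhs => rw [← g0]
      exact g.symm_apply_apply _
    refine ⟨HForm.IsIso.inv _ hg, h0, -a, ?_⟩
    have h1 : g⁻¹ (g (Pi.single (.inr 1) 1)) = (Pi.single (.inr 1) 1 : V4 K) := g.symm_apply_apply _
    rw [g1, map_add, map_smul, h0] at h1
    rw [neg_smul, ← sub_eq_add_neg, eq_sub_iff_add_eq]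
    exact h1

/-- the isometries which fix `f0` and `f1` modulo `f0` -/
def SLo (K : Type u) [Field K] : Subgroup (V4 K ≃ₗ[K] V4 K) where
  carrier := {g | (form 2 K).IsIso g ∧ g (Pi.single (.inl 0) 1) = Pi.single (.inl 0) 1 ∧
    ∃ a : K, g (Pi.single (.inl 1) 1) = Pi.single (.inl 1) 1 + a • Pi.single (.inl 0) 1}
  one_mem' := ⟨fun _ _ => rfl, rfl, 0, by rw [zero_smul, add_zero]; rfl⟩
  mul_mem' := by
    rintro g k ⟨hg, g0, a, g1⟩ ⟨hk, k0, b, k1⟩
    refine ⟨HForm.IsIso.mul _ hg hk, ?_, a + b, ?_⟩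
    · change g (k _) = _
      rw [k0, g0]
    · change g (k _) = _
      rw [k1, map_add, map_smul, g1, g0, add_smul, add_assoc]
  inv_mem' := by
    rintro g ⟨hg, g0, a, g1⟩
    have h0 : g⁻¹ (Pi.single (.inl 0) 1) = Pi.single (.inl 0) 1 := by
      conv_lhs => rw [← g0]
      exact g.symm_apply_apply _
    refine ⟨HForm.IsIso.inv _ hg, h0, -a, ?_⟩
    have h1 : g⁻¹ (g (Pi.single (.inl 1) 1)) = (Pi.single (.inl 1) 1 : V4 K) := g.symm_apply_apply _
    rw [g1, map_add, map_smul, h0] at h1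
    rw [neg_smul, ← sub_eq_add_neg, eq_sub_iff_add_eq]
    exact h1

theorem ee0 (x : Fin 2 → ℤ) : Cfsg.Agent.Nodes.TypeC.ee x 0 = x 0 := by
  unfold Cfsg.Agent.Nodes.TypeC.ee
  rw [Fin.sum_univ_two]
  simp [bt_apply]

theorem ee1 (x : Fin 2 → ℤ) : Cfsg.Agent.Nodes.TypeC.ee x 1 = 2 * x 1 - x 0 := by
  unfold Cfsg.Agent.Nodes.TypeC.ee
  rw [Fin.sum_univ_two]
  simp [bt_apply]
  ring

/-- positive roots -/
theorem pos_cases {a b : Fin 2 × Bool} (hab : Ok a b) (h0 : 0 ≤ (wt a + wt b) 0)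
    (h1 : 0 ≤ (wt a + wt b) 0 + (wt a + wt b) 1) :
    a ≠ (0, false) ∧ b ≠ (0, false) ∧ (a = (1, false) → b = (0, true)) ∧ (b = (1, false) → a = (0, true)) := by
  rw [Pi.add_apply, wt_apply, wt_apply] at h0
  rw [Pi.add_apply, Pi.add_apply, wt_apply, wt_apply, wt_apply, wt_apply] at h1
  unfold Ok at hab
  revert hab h0 h1
  revert a b
  decide


theorem pg_le_up {a b : Fin 2 × Bool} (hab : Ok a b) (ha : a ≠ (0, false)) (hb : b ≠ (0, false))
    (h1 : a = (1, false) → b = (0, true)) (h2 : b = (1, false) → a = (0, true)) :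
    PG (frame 2 K) a b ≤ SUp K := by
  intro g hg
  have hiso : (form 2 K).IsIso g := (Cfsg.Agent.KFacts.Mult.SpTwo.amb 2 K).PG_le hg
  obtain ⟨s, c, hc, e⟩ := pg_form hg
  refine ⟨hiso, ?_, ?_⟩
  · rw [e, h_eq, h_eq]
    obtain ⟨i, x⟩ := a
    obtain ⟨j, y⟩ := b
    fin_cases i <;> fin_cases j <;> cases x <;> cases y <;>
      simp [SpIdent.e, SpIdent.f] at ha hb h1 h2 ⊢
  · rw [e, h_eq, h_eq]
    obtain ⟨i, x⟩ := a
    obtain ⟨j, y⟩ := b
    fin_cases i <;> fin_cases j <;> cases x <;> cases y <;>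
      simp [SpIdent.e, SpIdent.f] at ha hb h1 h2 hc ⊢
    all_goals first
      | (refine ⟨0, ?_⟩; simp; done)
      | (refine ⟨s, ?_⟩; simp; done)
      | (refine ⟨s, ?_⟩; simp [hc]; done)

theorem pg_le_lo {a b : Fin 2 × Bool} (hab : Ok a b) (ha : a ≠ (0, true)) (hb : b ≠ (0, true))
    (h1 : a = (1, true) → b = (0, false)) (h2 : b = (1, true) → a = (0, false)) :
    PG (frame 2 K) a b ≤ SLo K := by
  intro g hg
  have hiso : (form 2 K).IsIso g := (Cfsg.Agent.KFacts.Mult.SpTwo.amb 2 K).PG_le hg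
  obtain ⟨s, c, hc, e⟩ := pg_form hg
  refine ⟨hiso, ?_, ?_⟩
  · rw [e, h_eq, h_eq]
    obtain ⟨i, x⟩ := a
    obtain ⟨j, y⟩ := b
    fin_cases i <;> fin_cases j <;> cases x <;> cases y <;>
      simp [SpIdent.e, SpIdent.f] at ha hb h1 h2 ⊢
  · rw [e, h_eq, h_eq]
    obtain ⟨i, x⟩ := a
    obtain ⟨j, y⟩ := b
    fin_cases i <;> fin_cases j <;> cases x <;> cases y <;>
      simp [SpIdent.e, SpIdent.f] at ha hb h1 h2 hc ⊢
    all_goals first
      | (refine ⟨0, ?_⟩; simp; done)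
      | (refine ⟨s, ?_⟩; simp; done)
      | (refine ⟨-s, ?_⟩; simp; done)
      | (refine ⟨s, ?_⟩; simp [hc]; done)
      | (refine ⟨-s, ?_⟩; simp [hc]; done)


section Roots

variable {W : Type*} [Group W] {cs : CoxeterSystem (CoxeterMatrix.B 2) W}

/-- positive root groups -/
theorem rg_le_up {x : Fin 2 → ℤ} (hx : IsRoot cs (isCartan 2) x) (h0 : 0 ≤ x) : rg (frame 2 K) x ≤ SUp K := by
  obtain ⟨a, b, hab, e⟩ := exists_of_isRoot cs hx
  rw [rg_eq (frame 2 K) hab e]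
  have e0 := congrFun e 0
  have e1 := congrFun e 1
  rw [ee0] at e0
  rw [ee1] at e1
  have h2 := h0 0
  have h3 := h0 1
  simp only [Pi.zero_apply] at h2 h3
  obtain ⟨h4, h5, h6, h7⟩ := pos_cases hab (by omega) (by omega)
  exact pg_le_up hab h4 h5 h6 h7

/-- negative root groups -/
theorem rg_le_lo {x : Fin 2 → ℤ} (hx : IsRoot cs (isCartan 2) x) (h0 : x ≤ 0) : rg (frame 2 K) x ≤ SLo K := by
  obtain ⟨a, b, hab, e⟩ := exists_of_isRoot cs hx
  rw [rg_eq (frame 2 K) hab e]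
  have e0 := congrFun e 0
  have e1 := congrFun e 1
  rw [ee0] at e0
  rw [ee1] at e1
  have h2 := h0 0
  have h3 := h0 1
  simp only [Pi.zero_apply] at h2 h3
  have hw : wt (ng a) + wt (ng b) = -(wt a + wt b) := by rw [wt_ng, wt_ng, neg_add]
  obtain ⟨h4, h5, h6, h7⟩ := pos_cases hab.ng (by rw [hw, Pi.neg_apply]; omega)
    (by rw [hw, Pi.neg_apply, Pi.neg_apply]; omega)
  refine pg_le_lo hab ?_ ?_ ?_ ?_
  · rintro rfl; exact h4 rfl
  · rintro rfl; exact h5 rfl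
  · rintro rfl
    have h8 := h6 rfl
    rw [← ng_ng b, h8]
    rfl
  · rintro rfl
    have h8 := h7 rfl
    rw [← ng_ng a, h8]
    rfl

theorem U_le {u : isos (form 2 K)} (hu : u ∈ RGD.Sup (Cfsg.Agent.Nodes.WittModel.X (model 2 K))
    (RGD.Pos cs (isCartan 2))) : u.1 ∈ SUp K := by
  have h1 : RGD.Sup (Cfsg.Agent.Nodes.WittModel.X (model 2 K)) (RGD.Pos cs (isCartan 2)) ≤
      (SUp K).subgroupOf (isos (form 2 K)) := by
    refine RGD.Sup_le fun x hx => ?_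
    rw [X_eq]
    intro g hg
    rw [Subgroup.mem_subgroupOf] at hg ⊢
    exact rg_le_up hx.1 hx.2 hg
  exact Subgroup.mem_subgroupOf.1 (h1 hu)

theorem UN_le {u : isos (form 2 K)} (hu : u ∈ UN cs (isCartan 2) (Cfsg.Agent.Nodes.WittModel.X (model 2 K))) :
    u.1 ∈ SLo K := by
  have h1 : UN cs (isCartan 2) (Cfsg.Agent.Nodes.WittModel.X (model 2 K)) ≤
      (SLo K).subgroupOf (isos (form 2 K)) := by
    unfold UN
    refine RGD.Sup_le fun x hx => ?_
    rw [X_eq]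
    intro g hg
    rw [Subgroup.mem_subgroupOf] at hg ⊢
    exact rg_le_lo hx.1 hx.2 hg
  exact Subgroup.mem_subgroupOf.1 (h1 hu)

end Roots

/-! ### the coordinate functions -/

/-- the first coordinate function -/
def F1 (g : V4 K ≃ₗ[K] V4 K) : K := g (Pi.single (.inr 0) 1) (.inr 0)

/-- the second coordinate function -/
def F2 (g : V4 K ≃ₗ[K] V4 K) : K :=
  g (Pi.single (.inr 0) 1) (.inr 0) * g (Pi.single (.inr 1) 1) (.inr 1) -
    g (Pi.single (.inr 0) 1) (.inr 1) * g (Pi.single (.inr 1) 1) (.inr 0)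

theorem F1_mul_up {u : V4 K ≃ₗ[K] V4 K} (hu : u ∈ SUp K) (g : V4 K ≃ₗ[K] V4 K) : F1 (g * u) = F1 g := by
  obtain ⟨-, h0, a, h1⟩ := hu
  unfold F1
  change g (u _) _ = _
  rw [h0]

theorem F2_mul_up {u : V4 K ≃ₗ[K] V4 K} (hu : u ∈ SUp K) (g : V4 K ≃ₗ[K] V4 K) : F2 (g * u) = F2 g := by
  obtain ⟨-, h0, a, h1⟩ := hu
  unfold F2
  change g (u _) _ * g (u _) _ - g (u _) _ * g (u _) _ = _
  rw [h0, h1, map_add, map_smul]
  simp only [Pi.add_apply, Pi.smul_apply, smul_eq_mul]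
  ring

theorem coord_inr (v : V4 K) (i : Fin 2) : v (.inr i) = (form 2 K).h v (Pi.single (.inl i) 1) := by
  rw [h_eq]
  fin_cases i <;> simp

theorem lo_coord {u : V4 K ≃ₗ[K] V4 K} (hu : u ∈ SLo K) (v : V4 K) : u v (.inr 0) = v (.inr 0) ∧
    ∃ a : K, ∀ v : V4 K, u v (.inr 1) = v (.inr 1) + a * v (.inr 0) := by
  obtain ⟨hi, h0, a, h1⟩ := (SLo K).inv_mem hu
  have key : ∀ v w : V4 K, (form 2 K).h (u v) w = (form 2 K).h v (u⁻¹ w) := by
    intro v w
    rw [← hi (u v) w]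
    congr 1
    exact u.symm_apply_apply v
  refine ⟨?_, a, fun v => ?_⟩
  · rw [coord_inr (u v) 0, key, h0, ← coord_inr v 0]
  · rw [coord_inr (u v) 1, key, h1, (form 2 K).add_right, (form 2 K).smul_right, ← coord_inr v 0, ← coord_inr v 1]
    rfl

theorem F1_lo_mul {u : V4 K ≃ₗ[K] V4 K} (hu : u ∈ SLo K) (g : V4 K ≃ₗ[K] V4 K) : F1 (u * g) = F1 g :=
  (lo_coord hu _).1

theorem F2_lo_mul {u : V4 K ≃ₗ[K] V4 K} (hu : u ∈ SLo K) (g : V4 K ≃ₗ[K] V4 K) : F2 (u * g) = F2 g := by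
  unfold F2
  change u (g _) _ * u (g _) _ - u (g _) _ * u (g _) _ = _
  obtain ⟨a, ha⟩ := (lo_coord hu 0).2
  rw [(lo_coord hu _).1, (lo_coord hu _).1, ha, ha]
  ring

end Cfsg.Agent.H905.Sp4
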