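import Cfsg.Agent.H905.MdB

/-!
# Simple modules in the defining characteristic: edges (helper905)

* `Le {i} = k[X_{-i}] D`, `Le {i} ≤ D + [Le {i}, X_{-i}]`; `Io i = [Le {i}, X_i] ∩ [Le {i}, X_{-i}]`;
* **`dim_ge`** : `|W : W_J|` vertices and the edges contribute independently:
  `#vertices * dim D + ∑_edges (dim Le {i} - 2 dim D) ≤ dim V`.
-/

set_option autoImplicit false
set_option linter.unusedSectionVars false
set_option linter.style.haveILetI false

namespace Cfsg.Agent.H905.Md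

open CoxeterSystem Cfsg.Agent.ChevalleyStructure.CoxeterGeom Cfsg.Agent.Tits.Roots Cfsg.Agent.Tits.Core
  Cfsg.Agent.Tits.Exchange Cfsg.Agent.Nodes.Reps Cfsg.Agent.Nodes.BNOf Cfsg.Agent.Nodes.StabComb
  Cfsg.Agent.Nodes.Bruhat Cfsg.Agent.Nodes.OppDec Cfsg.Agent.Nodes.LeviDec Cfsg.Agent.KFacts.RgdOpp
  Cfsg.Agent.Omega.CR Cfsg.Agent.Omega.FOne.Lift.Sd

/-! ### separated families -/

section sep

variable {k V : Type*} [Field k] [AddCommGroup V] [Module k V] {ι : Type*} [Fintype ι]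
  {f : ι → Submodule k V} {Φ : ι → Submodule k (Module.Dual k V)}

theorem exists_sum_of_mem_iSup {v : V} (hv : v ∈ ⨆ i, f i) : ∃ g : ι → V, (∀ i, g i ∈ f i) ∧ ∑ i, g i = v := by
  classical
  induction hv using Submodule.iSup_induction' with
  | mem i x hx =>
    refine ⟨Pi.single i x, fun j => ?_, ?_⟩
    · by_cases h : j = i
      · subst h; rw [Pi.single_eq_same]; exact hx
      · rw [Pi.single_eq_of_ne h]; exact zero_mem _
    · rw [Finset.sum_pi_single' i x]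
      simp
  | zero => exact ⟨0, fun i => zero_mem _, by simp⟩
  | add x y _ _ hx hy =>
    obtain ⟨g, hg, rfl⟩ := hx
    obtain ⟨g', hg', rfl⟩ := hy
    exact ⟨g + g', fun i => add_mem (hg i) (hg' i), by simp [Finset.sum_add_distrib]⟩

variable (h1 : ∀ i, ∀ v ∈ f i, (∀ φ ∈ Φ i, φ v = 0) → v = 0) (h2 : ∀ i j, i ≠ j → ∀ φ ∈ Φ i, ∀ v ∈ f j, φ v = 0)
include h1 h2

theorem eq_zero_of_sep {v : V} (hv : v ∈ ⨆ i, f i) (h0 : ∀ i, ∀ φ ∈ Φ i, φ v = 0) : v = 0 := by
  classical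
  obtain ⟨g, hg, rfl⟩ := exists_sum_of_mem_iSup hv
  refine Finset.sum_eq_zero fun i _ => h1 i _ (hg i) fun φ hφ => ?_
  have h3 := h0 i φ hφ
  rw [map_sum, Finset.sum_eq_single i] at h3
  · exact h3
  · intro j _ hj
    exact h2 i j (Ne.symm hj) φ hφ _ (hg j)
  · intro h; exact absurd (Finset.mem_univ i) h

theorem sum_le_of_sep [FiniteDimensional k V] :
    ∑ i, Module.finrank k (f i) ≤ Module.finrank k (⨆ i, f i : Submodule k V) := by
  classical
  let F : (Π i, f i) →ₗ[k] (⨆ i, f i : Submodule k V) :=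
    { toFun := fun g => ⟨∑ i, (g i : V), Submodule.sum_mem _ fun i _ => (le_iSup f i) (g i).2⟩
      map_add' := fun g g' => Subtype.ext (by simp [Finset.sum_add_distrib])
      map_smul' := fun c g => Subtype.ext (by simp [Finset.smul_sum]) }
  have hF : Function.Injective F := by
    rw [injective_iff_map_eq_zero]
    intro g hg
    have hg' : ∑ i, (g i : V) = 0 := congrArg Subtype.val hg
    funext i
    apply Subtype.ext
    refine h1 i _ (g i).2 fun φ hφ => ?_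
    have h3 := congrArg φ hg'
    rw [map_zero, map_sum, Finset.sum_eq_single i] at h3
    · exact h3
    · intro j _ hj
      exact h2 i j (Ne.symm hj) φ hφ _ (g j).2
    · intro h; exact absurd (Finset.mem_univ i) h
  have h3 := LinearMap.finrank_le_finrank_of_injective hF
  rwa [Module.finrank_pi_fintype] at h3

end sep

variable {I W Y : Type*} [Fintype I] [DecidableEq I] [Group W] [Group Y] {M : CoxeterMatrix I}
  {cs : CoxeterSystem M W} {A : I → I → ℤ} {h : IsCartan M A} {p : ℕ} {T : Subgroup Y} {n : I → Y}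
  {X : (I → ℤ) → Subgroup Y}

variable {k V : Type*} [Field k] [AddCommGroup V] [Module k V]

theorem sr_mem_Roots (i : I) : sr i ∈ RootsJ cs h ({i} : Set I) := PosJ_subset _ (sr_mem_PosJ rfl)

theorem mem_RootsJ_single {i : I} {x : I → ℤ} (hx : x ∈ RootsJ cs h ({i} : Set I)) : x = sr i ∨ x = -sr i := by
  rcases hx.1.pos_or_neg with h1 | h1
  · left
    exact hx.1.eq_sr h1 i fun k hk => hx.2 k hk
  · right
    have h2 := (RootsJ.neg hx).1.eq_sr (neg_nonneg.2 h1) i fun k hk => (RootsJ.neg hx).2 k hk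
    rw [← h2, neg_neg]

theorem LJ_single_le {i : I} {K : Subgroup Y} (hT : T ≤ K) (h1 : X (sr i) ≤ K) (h2 : X (-sr i) ≤ K) :
    LJ cs h T X {i} ≤ K := by
  refine sup_le hT (RGD.Sup_le fun x hx => ?_)
  rcases mem_RootsJ_single hx with rfl | rfl
  · exact h1
  · exact h2

section

variable (R : RGD cs h p T n X) [Finite Y] [Finite W] [Fact p.Prime] [CharP k p]
  {ρ : Y →* Module.End k V} [FiniteDimensional k V]
  (hirr : ∀ L : Submodule k V, Ivt ρ (GG cs h T X) L → L = ⊥ ∨ L = ⊤)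
include R hirr

theorem n_mem_Sp [Nontrivial V] {i : I} {v : V} (hv : v ∈ D cs h X ρ) :
    ρ (n i) v ∈ Sp ρ (X (-sr i)) (D cs h X ρ) :=
  n_mem R ρ (simp_fx R ρ hirr) le_rfl (fun _ hv => Ti_fix R ρ hv i) hv

/-- `Le {i} = k[X_{-i}] D` -/
theorem Le_single [Nontrivial V] (i : I) : Le cs h T X ρ {i} = Sp ρ (X (-sr i)) (D cs h X ρ) := by
  have hX : X (-sr i) ≤ LJ cs h T X {i} := X_le_LJ (RootsJ.neg (sr_mem_Roots i))
  apply le_antisymm
  · refine Sp_le (le_Sp ρ) ?_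
    have hT : Ivt ρ T (Sp ρ (X (-sr i)) (D cs h X ρ)) := by
      refine Ivt_of_le ρ (T_stable ρ (D_ivt R hirr) fun t ht c hc => ?_)
      rw [← R.tor _ (isRoot_sr cs h i).neg t ht]
      exact conj_mem_cj.2 hc
    have hm : Ivt ρ (X (-sr i)) (Sp ρ (X (-sr i)) (D cs h X ρ)) := Ivt_Sp _ _
    -- `n i`
    have hn : ∀ v ∈ Sp ρ (X (-sr i)) (D cs h X ρ), ρ (n i) v ∈ Sp ρ (X (-sr i)) (D cs h X ρ) := by
      intro v hv
      induction hv using Submodule.span_induction with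
      | mem x hx =>
        obtain ⟨b, hb, v, hv, rfl⟩ := hx
        by_cases hb1 : b = 1
        · rw [hb1, rho_one]; exact n_mem_Sp R hirr hv
        have h1 : n i * b * (n i)⁻¹ ∈ X (sr i) := by
          have := R.conj_mem (rp_simple cs R.nsys i) (isRoot_sr cs h i).neg hb
          rwa [map_neg, rep_simple_sr, neg_neg] at this
        have h2 : n i * b * (n i)⁻¹ ≠ 1 := fun h3 => hb1 (mul_eq_left.1 (mul_inv_eq_one.1 h3))
        obtain ⟨y, hy, t, ht, c, hc, e⟩ := mul_n R i h1 h2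
        have e1 : n i * b = n i * b * (n i)⁻¹ * n i := by group
        rw [← rho_mul, e1, e, rho_mul, rho_mul, X_fix R ρ hv i hc]
        exact mem_Sp ρ hy (D_ivt R hirr t ht v hv)
      | zero => rw [map_zero]; exact zero_mem _
      | add x y _ _ hx hy => rw [map_add]; exact add_mem hx hy
      | smul a x _ hx => rw [map_smul]; exact Submodule.smul_mem _ _ hx
    have hn' : n i ∈ stS ρ (Sp ρ (X (-sr i)) (D cs h X ρ)) := by
      refine mem_stS ρ hn fun v hv => ?_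
      have h1 : (n i)⁻¹ = (n i * n i)⁻¹ * n i := by group
      rw [h1, rho_mul]
      exact hT _ (inv_mem (R.sq_mem_T i)) _ (hn v hv)
    refine Ivt_of_le ρ (LJ_single_le (Ivt.le_stS hT) ?_ (Ivt.le_stS hm))
    intro x hx
    have h1 : (n i)⁻¹ * x * n i ∈ X (-sr i) := conj_n_X' R i hx
    have h2 : x = n i * ((n i)⁻¹ * x * n i) * (n i)⁻¹ := by group
    rw [h2]
    exact mul_mem (mul_mem hn' (Ivt.le_stS hm h1)) (inv_mem hn')
  · exact Sp_mono ρ hX _

theorem Le_le_cm [Nontrivial V] (i : I) :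
    Le cs h T X ρ {i} ≤ D cs h X ρ ⊔ cm ρ (X (-sr i)) (Le cs h T X ρ {i}) := by
  conv_lhs => rw [Le_single R hirr i]
  unfold Sp
  rw [Submodule.span_le]
  rintro _ ⟨b, hb, v, hv, rfl⟩
  have e : ρ b v = v + (ρ b v - v) := by abel
  rw [e]
  exact Submodule.add_mem_sup hv (mem_cm hb (D_le_Le R {i} hv))

omit hirr [FiniteDimensional k V] in
theorem cm_le_Le {i : I} {x : I → ℤ} (hx : x ∈ RootsJ cs h ({i} : Set I)) :
    cm ρ (X x) (Le cs h T X ρ {i}) ≤ Le cs h T X ρ {i} :=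
  cm_le fun b hb v hv => Submodule.sub_mem _ (Ivt_Le R {i} b (X_le_LJ hx hb) v hv) hv

omit hirr [FiniteDimensional k V] in
theorem n_Le (i : I) : (Le cs h T X ρ {i}).map (ρ (n i)) = Le cs h T X ρ {i} := by
  have hn : n i ∈ LJ cs h T X {i} := n_mem_LJ R rfl
  apply le_antisymm
  · rintro _ ⟨v, hv, rfl⟩
    exact Ivt_Le R {i} _ hn v hv
  · intro v hv
    exact ⟨ρ (n i)⁻¹ v, Ivt_Le R {i} _ (inv_mem hn) v hv, rho_rho_inv ρ _ v⟩

omit hirr [FiniteDimensional k V] in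
theorem n_cm (i : I) : (cm ρ (X (-sr i)) (Le cs h T X ρ {i})).map (ρ (n i)) = cm ρ (X (sr i)) (Le cs h T X ρ {i}) := by
  rw [map_cm, n_Le R, R.conj_rp (rp_simple cs R.nsys i) (isRoot_sr cs h i).neg, map_neg, rep_simple_sr, neg_neg]

omit hirr [FiniteDimensional k V] in
theorem n_cm' (i : I) : (cm ρ (X (sr i)) (Le cs h T X ρ {i})).map (ρ (n i)) = cm ρ (X (-sr i)) (Le cs h T X ρ {i}) := by
  rw [map_cm, n_Le R, R.conj_rp (rp_simple cs R.nsys i) (isRoot_sr cs h i), rep_simple_sr]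

omit R hirr in
theorem finrank_map (g : Y) (L : Submodule k V) : Module.finrank k (L.map (ρ g)) = Module.finrank k L :=
  LinearEquiv.finrank_map_eq (DC.rhoEquiv ρ g) L

/-- the interior of the edge -/
def Io (cs : CoxeterSystem M W) (h : IsCartan M A) (T : Subgroup Y) (X : (I → ℤ) → Subgroup Y)
    (ρ : Y →* Module.End k V) (i : I) : Submodule k V :=
  cm ρ (X (sr i)) (Le cs h T X ρ {i}) ⊓ cm ρ (X (-sr i)) (Le cs h T X ρ {i})

theorem finrank_Io [Nontrivial V] (i : I) :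
    Module.finrank k (Le cs h T X ρ {i}) ≤ Module.finrank k (Io cs h T X ρ i) + 2 * Module.finrank k (D cs h X ρ) := by
  have h1 := Submodule.finrank_mono (Le_le_cm R hirr i)
  have h2 := Submodule.finrank_add_le_finrank_add_finrank (D cs h X ρ) (cm ρ (X (-sr i)) (Le cs h T X ρ {i}))
  have h3 : Module.finrank k (cm ρ (X (sr i)) (Le cs h T X ρ {i})) =
      Module.finrank k (cm ρ (X (-sr i)) (Le cs h T X ρ {i})) := by
    rw [← n_cm R, finrank_map]
  have h4 := Submodule.finrank_sup_add_finrank_inf_eq (cm ρ (X (sr i)) (Le cs h T X ρ {i}))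
    (cm ρ (X (-sr i)) (Le cs h T X ρ {i}))
  have h5 := Submodule.finrank_mono (sup_le (cm_le_Le R (ρ := ρ) (sr_mem_Roots i))
    (cm_le_Le R (ρ := ρ) (RootsJ.neg (sr_mem_Roots i))))
  unfold Io
  omega

omit hirr [FiniteDimensional k V] in
theorem n_Io (i : I) : (Io cs h T X ρ i).map (ρ (n i)) = Io cs h T X ρ i := by
  unfold Io
  have hinj : Function.Injective (ρ (n i)) := (DC.rhoEquiv ρ (n i)).injective
  rw [Submodule.map_inf (ρ (n i)) hinj, n_cm R, n_cm' R, inf_comm]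

omit R hirr [FiniteDimensional k V] in
theorem Io_le_Le (i : I) (R : RGD cs h p T n X) : Io cs h T X ρ i ≤ Le cs h T X ρ {i} :=
  inf_le_left.trans (cm_le_Le R (sr_mem_Roots i))

omit hirr [FiniteDimensional k V] [Finite W] in
/-- conjugation of the rank one Levi subgroups -/
theorem cj_LJ {u : W} {g : Y} (hg : Rp cs R.nsys u g) {i j : I} (hu : rep cs h u (sr j) = sr i) :
    cj g (LJ cs h T X {j}) = LJ cs h T X {i} := by
  have key : ∀ {u : W} {g : Y}, Rp cs R.nsys u g → ∀ {i j : I}, rep cs h u (sr j) = sr i →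
      cj g (LJ cs h T X {j}) ≤ LJ cs h T X {i} := by
    intro u g hg i j hu x hx
    rw [mem_cj] at hx
    have h1 : LJ cs h T X {j} ≤ (LJ cs h T X {i}).comap (MulAut.conj g).toMonoidHom := by
      refine LJ_single_le ?_ ?_ ?_
      · intro t ht
        exact T_le_LJ ((Subgroup.mem_normalizer_iff.1 hg.mem_normalizer t).1 ht)
      · intro t ht
        have := R.conj_mem hg (isRoot_sr cs h j) ht
        rw [hu] at this
        exact X_le_LJ (sr_mem_Roots i) this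
      · intro t ht
        have := R.conj_mem hg (isRoot_sr cs h j).neg ht
        rw [map_neg, hu] at this
        exact X_le_LJ (RootsJ.neg (sr_mem_Roots i)) this
    have h2 : g * (g⁻¹ * x * g) * g⁻¹ ∈ LJ cs h T X ({i} : Set I) := h1 hx
    have e : g * (g⁻¹ * x * g) * g⁻¹ = x := by group
    rwa [e] at h2
  refine le_antisymm (key hg hu) ?_
  have h1 : rep cs h u⁻¹ (sr i) = sr j := by rw [← hu, rep_inv_apply]
  have h2 := key hg.inv h1
  intro x hx
  rw [mem_cj]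
  have h3 := h2 ((conj_mem_cj (g := g⁻¹)).2 hx)
  rwa [inv_inv] at h3

/-- a functional of `Les {i}` which does not kill `g Io j`: the same edge -/
theorem mem_WJ_of_edge [Nontrivial V] {i j : I} {u : W} {g : Y} (hg : Rp cs R.nsys u g)
    (hu : rep cs h u (sr j) = sr i) {φ : Module.Dual k V} (hφ : φ ∈ Les cs h T X ρ {i}) {m : V}
    (hm : m ∈ Le cs h T X ρ {j}) (hne : φ (ρ g m) ≠ 0) : u ∈ WJ cs (Jx cs h X ρ) := by
  -- the functionals killing `g Le j`
  have hinv : Ivt ρ (LJ cs h T X {i}) ((Le cs h T X ρ {j}).map (ρ g)) := by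
    rintro x hx _ ⟨v, hv, rfl⟩
    rw [← cj_LJ R hg hu, mem_cj] at hx
    refine ⟨ρ (g⁻¹ * x * g) v, Ivt_Le R {j} _ hx v hv, ?_⟩
    rw [← rho_mul, ← rho_mul]
    congr 2
    group
  set K : Submodule k (Module.Dual k V) :=
    Les cs h T X ρ {i} ⊓ ((Le cs h T X ρ {j}).map (ρ g)).dualAnnihilator with hK
  have hKi : Ivt (dualRep ρ) (LJ cs h T X {i}) K := by
    refine Ivt.inf (Ivt_Les R {i}) ?_
    intro x hx ψ hψ
    rw [Submodule.mem_dualAnnihilator] at hψ ⊢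
    intro v hv
    rw [dualRep_apply]
    exact hψ _ (hinv _ (inv_mem hx) v hv)
  have hK0 : K = ⊥ := by
    by_contra hK0
    have h1 := Les_le R hirr (J := {i}) hK0 (inf_le_left.trans (Les_le_fx R {i})) hKi
    exact hne ((Submodule.mem_dualAnnihilator φ).1 (h1 hφ).2 _ ⟨m, hm, rfl⟩)
  obtain ⟨c, hc, hc0⟩ := (Submodule.ne_bot_iff _).1 (simp_fx R ρ hirr).ne
  obtain ⟨φ₀, hφ₀, hne₀⟩ := exists_pair_D R hirr hc hc0
  obtain ⟨v, hv, hv0⟩ : ∃ v ∈ D cs h X ρ, φ₀ (ρ g v) ≠ 0 := by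
    by_contra hcon
    push Not at hcon
    have h1 : φ₀ ∈ K := by
      refine ⟨D_le_Les R {i} hφ₀, (Submodule.mem_dualAnnihilator φ₀).2 ?_⟩
      rintro _ ⟨v, hv, rfl⟩
      obtain ⟨a, ha, b, hb, rfl⟩ := Submodule.mem_sup.1 (Le_le_cm R hirr j hv)
      rw [map_add, map_add, hcon a ha, zero_add]
      have h2 : ρ g b ∈ (cm ρ (X (-sr j)) (Le cs h T X ρ {j})).map (ρ g) := ⟨b, hb, rfl⟩
      rw [map_cm, R.conj_rp hg (isRoot_sr cs h j).neg, map_neg, hu] at h2
      refine apply_cm hφ₀ (cm_mono (X_le_UN (isRoot_sr cs h i).neg (neg_nonpos.2 (sr_nonneg i))) le_top h2)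
    rw [hK0, Submodule.mem_bot] at h1
    rw [h1] at hne₀
    exact hne₀ rfl
  exact mem_WJ_of_pair R hirr hφ₀ hg hv hv0

/-- equality of edges -/
def SameEdge (cs : CoxeterSystem M W) (h : IsCartan M A) (J : Set I) (w : W) (i : I) (w' : W) (i' : I) : Prop :=
  (rep cs h w (sr i) = rep cs h w' (sr i') ∧ w⁻¹ * w' ∈ WJ cs J) ∨
    (rep cs h w (sr i) = -rep cs h w' (sr i') ∧ w⁻¹ * (w' * cs.simple i') ∈ WJ cs J)

theorem sameEdge_of_pair [Nontrivial V] {w w' : W} {g g' : Y} (hg : Rp cs R.nsys w g) (hg' : Rp cs R.nsys w' g')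
    {i i' : I} {φ : Module.Dual k V} (hφ : φ ∈ (Les cs h T X ρ {i}).map (dualRep ρ g)) {v : V}
    (hv : v ∈ (Io cs h T X ρ i').map (ρ g')) (hne : φ v ≠ 0) : SameEdge cs h (Jx cs h X ρ) w i w' i' := by
  obtain ⟨ψ, hψ, rfl⟩ := hφ
  obtain ⟨m, hm, rfl⟩ := hv
  rw [dualRep_apply, ← rho_mul] at hne
  have hgg := hg.inv.mul hg'
  have hroot : IsRoot cs h (rep cs h (w⁻¹ * w') (sr i')) := (isRoot_sr cs h i').act _
  -- the values on commutators
  have hkill : ∀ x, x ∈ NotNJ cs h ({i} : Set I) → ∀ y ∈ cm ρ (X x) (⊤ : Submodule k V), ψ y = 0 := by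
    intro x hx y hy
    refine apply_cm (B := X x) ?_ hy
    intro b hb
    exact Les_le_fx R {i} hψ b (RGD.le_Sup hx hb)
  have hm1 : ρ (g⁻¹ * g') m ∈ cm ρ (X (rep cs h (w⁻¹ * w') (sr i'))) ⊤ := by
    have h1 : ρ (g⁻¹ * g') m ∈ (cm ρ (X (sr i')) (Le cs h T X ρ {i'})).map (ρ (g⁻¹ * g')) := ⟨m, hm.1, rfl⟩
    rw [map_cm, R.conj_rp hgg (isRoot_sr cs h i')] at h1
    exact cm_mono le_rfl le_top h1
  have hm2 : ρ (g⁻¹ * g') m ∈ cm ρ (X (-rep cs h (w⁻¹ * w') (sr i'))) ⊤ := by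
    have h1 : ρ (g⁻¹ * g') m ∈ (cm ρ (X (-sr i')) (Le cs h T X ρ {i'})).map (ρ (g⁻¹ * g')) := ⟨m, hm.2, rfl⟩
    rw [map_cm, R.conj_rp hgg (isRoot_sr cs h i').neg, map_neg] at h1
    exact cm_mono le_rfl le_top h1
  by_cases hβ : rep cs h (w⁻¹ * w') (sr i') ∈ RootsJ cs h ({i} : Set I)
  · rcases mem_RootsJ_single hβ with h1 | h1
    · left
      refine ⟨?_, mem_WJ_of_edge R hirr hgg h1 hψ (Io_le_Le i' R hm) hne⟩
      rw [← h1, ← rep_mul_apply, mul_inv_cancel_left]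
    · right
      have h2 : rep cs h (w⁻¹ * (w' * cs.simple i')) (sr i') = sr i := by
        rw [← mul_assoc, rep_mul_apply, rep_simple_sr, map_neg, h1, neg_neg]
      have hg2 : Rp cs R.nsys (w⁻¹ * (w' * cs.simple i')) (g⁻¹ * g' * (n i')⁻¹) := by
        have := hgg.mul (rp_simple cs R.nsys i').inv
        rwa [cs.inv_simple, mul_assoc] at this
      refine ⟨?_, mem_WJ_of_edge R hirr hg2 h2 hψ (m := ρ (n i') m) ?_ ?_⟩
      · have h3 : rep cs h w (rep cs h (w⁻¹ * w') (sr i')) = rep cs h w' (sr i') := by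
          rw [← rep_mul_apply, mul_inv_cancel_left]
        rw [← h3, h1, map_neg, neg_neg]
      · rw [← n_Le R (ρ := ρ) i']
        exact ⟨m, Io_le_Le i' R hm, rfl⟩
      · rw [← rho_mul, inv_mul_cancel_right]
        exact hne
  · exfalso
    rcases hroot.pos_or_neg with h0 | h0
    · have h1 := (mem_PosJ_or_NotJ ({i} : Set I) hroot h0).resolve_left fun h2 => hβ (PosJ_subset _ h2)
      refine hne (hkill _ ?_ _ hm2)
      change - -rep cs h (w⁻¹ * w') (sr i') ∈ NotJ cs h _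
      rwa [neg_neg]
    · have h1 := (mem_PosJ_or_NotJ ({i} : Set I) hroot.neg (neg_nonneg.2 h0)).resolve_left fun h2 => hβ (by
        have := RootsJ.neg (PosJ_subset _ h2)
        rwa [neg_neg] at this)
      exact hne (hkill _ h1 _ hm1)

omit hirr [FiniteDimensional k V] in
/-- the vertex functionals kill the interiors -/
theorem vertex_kill {w w' : W} {g g' : Y} (hg : Rp cs R.nsys w g) (hg' : Rp cs R.nsys w' g')
    {i' : I} {φ : Module.Dual k V} (hφ : φ ∈ (fx (dualRep ρ) (UN cs h X)).map (dualRep ρ g)) {v : V}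
    (hv : v ∈ (Io cs h T X ρ i').map (ρ g')) : φ v = 0 := by
  obtain ⟨ψ, hψ, rfl⟩ := hφ
  obtain ⟨m, hm, rfl⟩ := hv
  rw [dualRep_apply, ← rho_mul]
  have hgg := hg.inv.mul hg'
  have hroot : IsRoot cs h (rep cs h (w⁻¹ * w') (sr i')) := (isRoot_sr cs h i').act _
  have hkill : ∀ x, IsRoot cs h x → x ≤ 0 → ∀ y ∈ cm ρ (X x) (⊤ : Submodule k V), ψ y = 0 := by
    intro x hx hx0 y hy
    exact apply_cm hψ (cm_mono (X_le_UN hx hx0) le_rfl hy)
  have hm1 : ρ (g⁻¹ * g') m ∈ cm ρ (X (rep cs h (w⁻¹ * w') (sr i'))) ⊤ := by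
    have h1 : ρ (g⁻¹ * g') m ∈ (cm ρ (X (sr i')) (Le cs h T X ρ {i'})).map (ρ (g⁻¹ * g')) := ⟨m, hm.1, rfl⟩
    rw [map_cm, R.conj_rp hgg (isRoot_sr cs h i')] at h1
    exact cm_mono le_rfl le_top h1
  have hm2 : ρ (g⁻¹ * g') m ∈ cm ρ (X (-rep cs h (w⁻¹ * w') (sr i'))) ⊤ := by
    have h1 : ρ (g⁻¹ * g') m ∈ (cm ρ (X (-sr i')) (Le cs h T X ρ {i'})).map (ρ (g⁻¹ * g')) := ⟨m, hm.2, rfl⟩
    rw [map_cm, R.conj_rp hgg (isRoot_sr cs h i').neg, map_neg] at h1
    exact cm_mono le_rfl le_top h1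
  rcases hroot.pos_or_neg with h0 | h0
  · exact hkill _ hroot.neg (neg_nonpos.2 h0) _ hm2
  · exact hkill _ hroot h0 _ hm1

/-- the vertex functionals and the vertices -/
theorem vertex_pair [Nontrivial V] {w w' : W} {g g' : Y} (hg : Rp cs R.nsys w g) (hg' : Rp cs R.nsys w' g')
    {φ : Module.Dual k V} (hφ : φ ∈ (fx (dualRep ρ) (UN cs h X)).map (dualRep ρ g)) {v : V}
    (hv : v ∈ (D cs h X ρ).map (ρ g')) (hne : φ v ≠ 0) : w⁻¹ * w' ∈ WJ cs (Jx cs h X ρ) := by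
  obtain ⟨ψ, hψ, rfl⟩ := hφ
  obtain ⟨m, hm, rfl⟩ := hv
  rw [dualRep_apply, ← rho_mul] at hne
  exact mem_WJ_of_pair R hirr hψ (hg.inv.mul hg') hm hne

/-- **The contributions of the vertices and the interiors of the edges.** -/
theorem dim_ge [Nontrivial V] {α β : Type*} [Fintype α] [Fintype β] (v : α → W)
    (hv : ∀ a a', a ≠ a' → (v a)⁻¹ * v a' ∉ WJ cs (Jx cs h X ρ)) (w : β → W) (i : β → I)
    (he : ∀ b b', b ≠ b' → ¬ SameEdge cs h (Jx cs h X ρ) (w b) (i b) (w b') (i b')) :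
    Fintype.card α * Module.finrank k (D cs h X ρ) + ∑ b, Module.finrank k (Io cs h T X ρ (i b)) ≤
      Module.finrank k V := by
  choose g hg using fun w => exists_rp cs R.nsys w
  have h1 : ∀ a, ∀ x ∈ (D cs h X ρ).map (ρ (g (v a))),
      (∀ φ ∈ (fx (dualRep ρ) (UN cs h X)).map (dualRep ρ (g (v a))), φ x = 0) → x = 0 := by
    rintro a _ ⟨x, hx, rfl⟩ h0
    by_contra hx0
    have hx0' : x ≠ 0 := fun h => hx0 (by rw [h, map_zero])
    obtain ⟨φ, hφ, hne⟩ := exists_pair_D R hirr hx hx0'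
    apply hne
    have h2 := h0 _ ⟨φ, hφ, rfl⟩
    rwa [dualRep_apply, rho_inv_rho] at h2
  have h2 : ∀ a a', a ≠ a' → ∀ φ ∈ (fx (dualRep ρ) (UN cs h X)).map (dualRep ρ (g (v a))),
      ∀ x ∈ (D cs h X ρ).map (ρ (g (v a'))), φ x = 0 := by
    intro a a' haa φ hφ x hx
    by_contra hne
    exact hv a a' haa (vertex_pair R hirr (hg _) (hg _) hφ hx hne)
  have h3 : ∀ b, ∀ x ∈ (Io cs h T X ρ (i b)).map (ρ (g (w b))),
      (∀ φ ∈ (Les cs h T X ρ {i b}).map (dualRep ρ (g (w b))), φ x = 0) → x = 0 := by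
    rintro b _ ⟨x, hx, rfl⟩ h0
    have h4 : x = 0 := by
      refine pair_Le R hirr (J := {i b}) (Io_le_Le (i b) R hx) fun φ hφ => ?_
      have h2 := h0 _ ⟨φ, hφ, rfl⟩
      rwa [dualRep_apply, rho_inv_rho] at h2
    rw [h4, map_zero]
  have h4 : ∀ b b', b ≠ b' → ∀ φ ∈ (Les cs h T X ρ {i b}).map (dualRep ρ (g (w b))),
      ∀ x ∈ (Io cs h T X ρ (i b')).map (ρ (g (w b'))), φ x = 0 := by
    intro b b' hbb φ hφ x hx
    by_contra hne
    exact he b b' hbb (sameEdge_of_pair R hirr (hg _) (hg _) hφ hx hne)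
  have e1 := sum_le_of_sep h1 h2
  have e2 := sum_le_of_sep h3 h4
  have hdis : (⨆ a, (D cs h X ρ).map (ρ (g (v a)))) ⊓ (⨆ b, (Io cs h T X ρ (i b)).map (ρ (g (w b)))) = ⊥ := by
    rw [eq_bot_iff]
    rintro x ⟨hx, hx'⟩
    rw [Submodule.mem_bot]
    refine eq_zero_of_sep h1 h2 hx fun a φ hφ => ?_
    have h5 : (⨆ b, (Io cs h T X ρ (i b)).map (ρ (g (w b)))) ≤ LinearMap.ker φ :=
      iSup_le fun b y hy => vertex_kill R (hg _) (hg _) hφ hy
    exact h5 hx'
  have e3 := Submodule.finrank_sup_add_finrank_inf_eq (⨆ a, (D cs h X ρ).map (ρ (g (v a))))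
    (⨆ b, (Io cs h T X ρ (i b)).map (ρ (g (w b))))
  rw [hdis, finrank_bot, add_zero] at e3
  have e4 := Submodule.finrank_le ((⨆ a, (D cs h X ρ).map (ρ (g (v a)))) ⊔
    (⨆ b, (Io cs h T X ρ (i b)).map (ρ (g (w b)))))
  simp only [finrank_map, Finset.sum_const, Finset.card_univ, smul_eq_mul] at e1 e2
  omega

end

end Cfsg.Agent.H905.Md
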