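import Cfsg.Agent.H905.SLProper3

/-!
Frames of lines over the fields with 2, 3, 4 elements.

The stabiliser in `GL_n(q)` of a decomposition into lines lies in
* the stabiliser of a line (`q = 2`),
* the similarity (even isometry) group of `∑ xᵢ²` (`q = 3`),
* the similarity (even isometry) group of `∑ xᵢ yᵢ²` (`q = 4`).
Consequently a maximal subgroup of `SL_n(q)`, `q ≤ 4`, that stabilises a frame is of one of
these types.
-/

set_option autoImplicit false
set_option linter.unusedSectionVars false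

namespace Cfsg.Agent.H905

open Matrix Cfsg

variable {ι : Type} [Fintype ι] [DecidableEq ι] {F : Type*} [Field F]

/-- A basis adapted to a decomposition into lines. -/
theorem exists_basis_of_frame {t : ℕ} {D : Fin t → Submodule F (ι → F)}
    (hD : Geo.IsMDecomposition 1 D) :
    ∃ b : Module.Basis (Fin t) F (ι → F), ∀ i, D i = Submodule.span F {b i} := by
  classical
  have h1 : ∀ i, ∃ v : ι → F, v ≠ 0 ∧ D i = Submodule.span F {v} := by
    intro i
    obtain ⟨v, hv, hs⟩ := finrank_eq_one_iff'.mp (hD.finrank_eq i)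
    refine ⟨v, fun h => hv (Subtype.ext h), le_antisymm ?_ ?_⟩
    · intro w hw
      obtain ⟨c, hc⟩ := hs ⟨w, hw⟩
      rw [Submodule.mem_span_singleton]
      exact ⟨c, congrArg Subtype.val hc⟩
    · rw [Submodule.span_singleton_le_iff_mem]
      exact v.2
  choose v hv0 hv using h1
  have hli : LinearIndependent F v :=
    hD.indep.linearIndependent _ (fun i => by rw [hv i]; exact Submodule.mem_span_singleton_self _)
      hv0
  have hsp : ⊤ ≤ Submodule.span F (Set.range v) := by
    rw [← hD.iSup_eq_top]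
    refine iSup_le fun i => ?_
    rw [hv i]
    exact Submodule.span_mono (Set.singleton_subset_iff.mpr ⟨i, rfl⟩)
  refine ⟨Module.Basis.mk hli hsp, fun i => ?_⟩
  rw [Module.Basis.mk_apply]
  exact hv i

/-- Elements of the stabiliser of a frame are monomial. -/
theorem monomial_of_mem {t : ℕ} {D : Fin t → Submodule F (ι → F)}
    {b : Module.Basis (Fin t) F (ι → F)} (hb : ∀ i, D i = Submodule.span F {b i})
    {g : GL ι F} (hg : g ∈ Geo.decompositionStabilizer D) :
    ∃ (σ : Equiv.Perm (Fin t)) (c : Fin t → F), (∀ i, c i ≠ 0) ∧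
      ∀ i, (g : Matrix ι ι F) *ᵥ b i = c i • b (σ i) := by
  obtain ⟨σ, hσ⟩ := hg
  have h : ∀ i, ∃ c : F, c • b (σ i) = (g : Matrix ι ι F) *ᵥ b i := by
    intro i
    have h1 : Matrix.toLin' (g : Matrix ι ι F) (b i) ∈ (D i).map (Matrix.toLin' (g : Matrix ι ι F)) :=
      Submodule.mem_map_of_mem (by rw [hb i]; exact Submodule.mem_span_singleton_self _)
    rw [hσ i, hb (σ i), Submodule.mem_span_singleton] at h1
    obtain ⟨c, hc⟩ := h1
    exact ⟨c, by rw [hc, Matrix.toLin'_apply]⟩
  choose c hc using h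
  refine ⟨σ, c, fun i h0 => ?_, fun i => (hc i).symm⟩
  have h1 := hc i
  rw [h0, zero_smul] at h1
  have h2 : ((g⁻¹ : GL ι F) : Matrix ι ι F) *ᵥ ((g : Matrix ι ι F) *ᵥ b i) = 0 := by
    rw [← h1, Matrix.mulVec_zero]
  rw [Matrix.mulVec_mulVec, ← Units.val_mul, inv_mul_cancel, Units.val_one, Matrix.one_mulVec] at h2
  exact b.ne_zero i h2

/-- Coordinates of `g v` for monomial `g`. -/
theorem repr_monomial {t : ℕ} {b : Module.Basis (Fin t) F (ι → F)} {g : Matrix ι ι F}
    {σ : Equiv.Perm (Fin t)} {c : Fin t → F} (hg : ∀ i, g *ᵥ b i = c i • b (σ i))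
    (v : ι → F) (i : Fin t) : b.repr (g *ᵥ v) (σ i) = c i * b.repr v i := by
  classical
  have h1 : g *ᵥ v = ∑ j, (b.repr v j * c j) • b (σ j) := by
    conv_lhs => rw [← b.sum_repr v]
    rw [Matrix.mulVec_sum]
    refine Finset.sum_congr rfl fun j _ => ?_
    rw [Matrix.mulVec_smul, hg j, smul_smul]
  rw [h1, map_sum, Finsupp.finsetSum_apply, Finset.sum_eq_single i]
  · rw [map_smul, Finsupp.smul_apply, b.repr_self, Finsupp.single_eq_same, smul_eq_mul, mul_one,
      mul_comm]
  · intro j _ hj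
    rw [map_smul, Finsupp.smul_apply, b.repr_self, Finsupp.single_eq_of_ne, smul_zero]
    exact fun h => hj (σ.injective h).symm
  · intro h
    exact absurd (Finset.mem_univ i) h

/-! ### `q = 2` -/

theorem frame_two [Fintype F] (hF : Fintype.card F = 2) {t : ℕ}
    {D : Fin t → Submodule F (ι → F)} (hD : Geo.IsMDecomposition 1 D) :
    ∃ W : Submodule F (ι → F), W ≠ ⊥ ∧ W ≠ ⊤ ∧ Module.finrank F W = 1 ∧
      Geo.decompositionStabilizer D ≤ Geo.subspaceStabilizer W := by
  classical
  obtain ⟨b, hb⟩ := exists_basis_of_frame hD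
  have hone : ∀ x : F, x ≠ 0 → x = 1 := by
    intro x hx
    have h1 := FiniteField.pow_card_sub_one_eq_one x hx
    rw [hF] at h1
    simpa using h1
  set s : ι → F := ∑ i, b i with hs
  have hrepr : ∀ i, b.repr s i = 1 := by
    intro i
    rw [hs, map_sum, Finsupp.finsetSum_apply, Finset.sum_eq_single i]
    · rw [b.repr_self, Finsupp.single_eq_same]
    · intro j _ hj
      rw [b.repr_self, Finsupp.single_eq_of_ne (Ne.symm hj)]
    · intro h
      exact absurd (Finset.mem_univ i) h
  have hs0 : s ≠ 0 := by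
    intro h0
    have h1 := hrepr ⟨0, by have := hD.two_le; omega⟩
    rw [h0, map_zero] at h1
    exact zero_ne_one h1
  have hfix : ∀ g ∈ Geo.decompositionStabilizer D, (g : Matrix ι ι F) *ᵥ s = s := by
    intro g hg
    obtain ⟨σ, c, hc, hgb⟩ := monomial_of_mem hb hg
    rw [hs, Matrix.mulVec_sum, ← Equiv.sum_comp σ (fun i => b i)]
    refine Finset.sum_congr rfl fun i _ => ?_
    rw [hgb i, hone _ (hc i), one_smul]
  have hfr : Module.finrank F (Submodule.span F {s}) = 1 := finrank_span_singleton hs0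
  refine ⟨Submodule.span F {s}, ?_, ?_, hfr, ?_⟩
  · intro h
    rw [h, finrank_bot] at hfr
    exact zero_ne_one hfr
  · intro h
    rw [h, finrank_top, Module.finrank_eq_card_basis b, Fintype.card_fin] at hfr
    have := hD.two_le
    omega
  · intro g hg v
    have key : ∀ h ∈ Geo.decompositionStabilizer D, ∀ w : ι → F,
        w ∈ Submodule.span F {s} → (h : Matrix ι ι F) *ᵥ w ∈ Submodule.span F {s} := by
      intro h hh w hw
      obtain ⟨a, rfl⟩ := Submodule.mem_span_singleton.mp hw
      rw [Matrix.mulVec_smul, hfix h hh]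
      exact hw
    constructor
    · exact key g hg v
    · intro hv
      have h1 := key g⁻¹ (inv_mem hg) _ hv
      change ((g⁻¹ : GL ι F) : Matrix ι ι F) *ᵥ ((g : Matrix ι ι F) *ᵥ v) ∈ _ at h1
      rw [Matrix.mulVec_mulVec, ← Units.val_mul, inv_mul_cancel, Units.val_one,
        Matrix.one_mulVec] at h1
      exact h1

/-! ### `q = 3` -/

theorem frame_three [Fintype F] (hF : Fintype.card F = 3) {t : ℕ}
    {D : Fin t → Submodule F (ι → F)} (hD : Geo.IsMDecomposition 1 D) :
    ∃ Q : (ι → F) → F, Geo.IsNondegenerateQuadraticForm Q ∧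
      Geo.decompositionStabilizer D ≤ Geo.quadSimilarityGroup Q := by
  classical
  obtain ⟨b, hb⟩ := exists_basis_of_frame hD
  have hsq : ∀ x : F, x ≠ 0 → x ^ 2 = 1 := by
    intro x hx
    have h1 := FiniteField.pow_card_sub_one_eq_one x hx
    rwa [hF] at h1
  have h2 : (2 : F) ≠ 0 := by
    intro h0
    have h1 : ringChar F ∣ 2 := (ringChar.spec F 2).mp (by exact_mod_cast h0)
    have h3 : ringChar F ∣ 3 := by
      refine (ringChar.spec F 3).mp ?_
      rw [← hF]
      exact FiniteField.cast_card_eq_zero F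
    have h4 : ringChar F ∣ 1 := by
      have := Nat.dvd_sub h3 h1
      simpa using this
    have h5 := (ringChar.spec F 1).mpr h4
    simp at h5
  set Q : (ι → F) → F := fun v => ∑ i, (b.repr v i) ^ 2 with hQ
  have hpol : ∀ v w, QuadraticMap.polar Q v w = 2 * ∑ i, b.repr v i * b.repr w i := by
    intro v w
    simp only [QuadraticMap.polar, hQ, map_add, Finsupp.add_apply]
    rw [Finset.mul_sum, ← Finset.sum_sub_distrib, ← Finset.sum_sub_distrib]
    refine Finset.sum_congr rfl fun i _ => ?_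
    ring
  have hsymm : ∀ v w, QuadraticMap.polar Q v w = QuadraticMap.polar Q w v := by
    intro v w
    rw [hpol, hpol]
    congr 1
    exact Finset.sum_congr rfl fun i _ => mul_comm _ _
  have hnd : ∀ v : ι → F, v ≠ 0 → ∃ x, QuadraticMap.polar Q v x ≠ 0 := by
    intro v hv
    obtain ⟨i, hi⟩ : ∃ i, b.repr v i ≠ 0 := by
      by_contra hcon
      push Not at hcon
      exact hv (b.repr.map_eq_zero_iff.mp (Finsupp.ext hcon))
    refine ⟨b i, ?_⟩
    rw [hpol, Finset.sum_eq_single i]
    · rw [b.repr_self, Finsupp.single_eq_same, mul_one]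
      exact mul_ne_zero h2 hi
    · intro j _ hj
      rw [b.repr_self, Finsupp.single_eq_of_ne hj, mul_zero]
    · intro h
      exact absurd (Finset.mem_univ i) h
  have hadd : ∀ x y v, QuadraticMap.polar Q (x + y) v =
      QuadraticMap.polar Q x v + QuadraticMap.polar Q y v := by
    intro x y v
    rw [hpol, hpol, hpol, ← mul_add, ← Finset.sum_add_distrib]
    congr 1
    refine Finset.sum_congr rfl fun i _ => ?_
    rw [map_add, Finsupp.add_apply, add_mul]
  have hsmul : ∀ (c : F) (x v : ι → F), QuadraticMap.polar Q (c • x) v =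
      c * QuadraticMap.polar Q x v := by
    intro c x v
    rw [hpol, hpol, Finset.mul_sum, Finset.mul_sum, Finset.mul_sum]
    refine Finset.sum_congr rfl fun i _ => ?_
    rw [map_smul, Finsupp.smul_apply, smul_eq_mul]
    ring
  refine ⟨Q, ⟨?_, ⟨hadd, hsmul, ?_, ?_⟩, ?_⟩, ?_⟩
  · intro c v
    simp only [hQ, map_smul, Finsupp.smul_apply, smul_eq_mul, Finset.mul_sum]
    refine Finset.sum_congr rfl fun i _ => ?_
    ring
  · intro v x y
    rw [hsymm, hadd, hsymm x, hsymm y]
  · intro c v x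
    rw [hsymm, hsmul, hsymm x]
  · intro v hv
    obtain ⟨x, hx⟩ := hnd v hv
    exact ⟨⟨x, by rwa [hsymm]⟩, ⟨x, hx⟩⟩
  · intro g hg
    obtain ⟨σ, c, hc, hgb⟩ := monomial_of_mem hb hg
    refine ⟨1, fun v => ?_⟩
    rw [Units.val_one, one_mul]
    simp only [hQ]
    rw [← Equiv.sum_comp σ]
    refine Finset.sum_congr rfl fun i _ => ?_
    rw [repr_monomial hgb, mul_pow, hsq _ (hc i), one_mul]

/-! ### `q = 4` -/

theorem frame_four [Fintype F] (hF : Fintype.card F = 4) {t : ℕ}
    {D : Fin t → Submodule F (ι → F)} (hD : Geo.IsMDecomposition 1 D) :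
    ∃ (σ : F ≃+* F) (f : (ι → F) → (ι → F) → F), Geo.IsUnitaryForm σ f ∧
      Geo.decompositionStabilizer D ≤ Geo.similarityGroup f := by
  classical
  obtain ⟨b, hb⟩ := exists_basis_of_frame hD
  have hcube : ∀ x : F, x ≠ 0 → x ^ 3 = 1 := by
    intro x hx
    have h1 := FiniteField.pow_card_sub_one_eq_one x hx
    rwa [hF] at h1
  have h4 : ∀ x : F, x ^ 4 = x := by
    intro x
    have h1 := FiniteField.pow_card x
    rwa [hF] at h1
  have h2 : (2 : F) = 0 := by
    have h1 : ((Fintype.card F : ℕ) : F) = 0 := FiniteField.cast_card_eq_zero F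
    rw [hF] at h1
    have h3 : (2 : F) * 2 = 0 := by
      have : ((4 : ℕ) : F) = 2 * 2 := by norm_num
      rwa [this] at h1
    rcases mul_eq_zero.mp h3 with h | h <;> exact h
  have hadd2 : ∀ x y : F, (x + y) ^ 2 = x ^ 2 + y ^ 2 := by
    intro x y
    have : (x + y) ^ 2 = x ^ 2 + y ^ 2 + 2 * (x * y) := by ring
    rw [this, h2, zero_mul, add_zero]
  let φ : F →+* F :=
    { toFun := fun x => x ^ 2
      map_one' := one_pow 2
      map_mul' := fun x y => mul_pow x y 2
      map_zero' := zero_pow two_ne_zero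
      map_add' := hadd2 }
  have hφ : ∀ x, φ x = x ^ 2 := fun x => rfl
  let σ : F ≃+* F := RingEquiv.ofRingHom φ φ
    (RingHom.ext fun x => by
      rw [RingHom.comp_apply, RingHom.id_apply, hφ, hφ, ← pow_mul]; exact h4 x)
    (RingHom.ext fun x => by
      rw [RingHom.comp_apply, RingHom.id_apply, hφ, hφ, ← pow_mul]; exact h4 x)
  have hσ : ∀ x, σ x = x ^ 2 := fun x => rfl
  set f : (ι → F) → (ι → F) → F := fun v w => ∑ i, b.repr v i * (b.repr w i) ^ 2 with hf
  have hherm : ∀ v w, f v w = σ (f w v) := by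
    intro v w
    simp only [hf]
    rw [map_sum]
    refine Finset.sum_congr rfl fun i _ => ?_
    rw [hσ, mul_pow, ← pow_mul, h4, mul_comm]
  have hnd : ∀ v : ι → F, v ≠ 0 → ∃ x, f v x ≠ 0 := by
    intro v hv
    obtain ⟨i, hi⟩ : ∃ i, b.repr v i ≠ 0 := by
      by_contra hcon
      push Not at hcon
      exact hv (b.repr.map_eq_zero_iff.mp (Finsupp.ext hcon))
    refine ⟨b i, ?_⟩
    simp only [hf]
    rw [Finset.sum_eq_single i]
    · rw [b.repr_self, Finsupp.single_eq_same, one_pow, mul_one]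
      exact hi
    · intro j _ hj
      rw [b.repr_self, Finsupp.single_eq_of_ne hj, zero_pow two_ne_zero, mul_zero]
    · intro h
      exact absurd (Finset.mem_univ i) h
  refine ⟨σ, f, ⟨?_, ?_, ?_, ?_, hherm, ?_⟩, ?_⟩
  · intro h
    have hall : ∀ x : F, x ^ 2 = x := by
      intro x
      rw [← hσ, h]
      rfl
    have hle : Fintype.card F ≤ 2 := by
      have hsub : (Finset.univ : Finset F) ⊆ {0, 1} := by
        intro x _
        have h1 : x * (x - 1) = 0 := by
          rw [mul_sub, mul_one, ← pow_two, hall, sub_self]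
        rcases mul_eq_zero.mp h1 with h | h
        · simp [h]
        · simp [sub_eq_zero.mp h]
      exact (Finset.card_le_card hsub).trans (Finset.card_le_two)
    omega
  · intro a
    rw [hσ, hσ, ← pow_mul]
    exact h4 a
  · intro x y v
    simp only [hf]
    rw [← Finset.sum_add_distrib]
    refine Finset.sum_congr rfl fun i _ => ?_
    rw [map_add, Finsupp.add_apply, add_mul]
  · intro c x v
    simp only [hf]
    rw [Finset.mul_sum]
    refine Finset.sum_congr rfl fun i _ => ?_
    rw [map_smul, Finsupp.smul_apply, smul_eq_mul, mul_assoc]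
  · intro v hv
    obtain ⟨x, hx⟩ := hnd v hv
    refine ⟨⟨x, fun h => hx ?_⟩, ⟨x, hx⟩⟩
    rw [hherm, h, map_zero]
  · intro g hg
    obtain ⟨τ, c, hc, hgb⟩ := monomial_of_mem hb hg
    refine ⟨1, fun u v => ?_⟩
    rw [Units.val_one, one_mul]
    simp only [hf]
    rw [← Equiv.sum_comp τ]
    refine Finset.sum_congr rfl fun i _ => ?_
    rw [repr_monomial hgb, repr_monomial hgb, mul_pow]
    calc c i * b.repr u i * (c i ^ 2 * b.repr v i ^ 2) = c i ^ 3 * (b.repr u i * b.repr v i ^ 2) := by
          ring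
      _ = _ := by rw [hcube _ (hc i), one_mul]

/-! ### Consequences for maximal subgroups of `SL` -/

/-- A maximal subgroup of `SL_n(q)` stabilising a frame of lines: either `q ≥ 5` and it is the
full frame stabiliser, or `q = 2, 3, 4` and it has one of the other types. -/
theorem frame_cases [Fintype F] (hn : 3 ≤ Fintype.card ι) {H : Subgroup (GL ι F)}
    (hH : Geo.IsMaximalIn (Geo.specialLinear ι F) H) {t : ℕ}
    {D : Fin t → Submodule F (ι → F)} (hD : Geo.IsMDecomposition 1 D)
    (h : H ≤ Geo.decompositionStabilizer D) :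
    (∃ W : Submodule F (ι → F), W ≠ ⊥ ∧ W ≠ ⊤ ∧
      H = Geo.subspaceStabilizer W ⊓ Geo.specialLinear ι F) ∨
    (5 ≤ Fintype.card F ∧ t = Fintype.card ι ∧
      H = Geo.decompositionStabilizer D ⊓ Geo.specialLinear ι F) ∨
    (Odd (Fintype.card F) ∧ ∃ Q : (ι → F) → F, Geo.IsNondegenerateQuadraticForm Q ∧
      H = Geo.quadSimilarityGroup Q ⊓ Geo.specialLinear ι F) ∨
    (∃ (σ : F ≃+* F) (f : (ι → F) → (ι → F) → F), Geo.IsUnitaryForm σ f ∧
      H = Geo.similarityGroup f ⊓ Geo.specialLinear ι F) := by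
  classical
  have ht : t = Fintype.card ι := by
    obtain ⟨b, hb⟩ := exists_basis_of_frame hD
    have h1 := Module.finrank_eq_card_basis b
    rw [Module.finrank_fintype_fun_eq_card, Fintype.card_fin] at h1
    exact h1.symm
  have h1 : 1 < Fintype.card F := Fintype.one_lt_card
  rcases Nat.lt_or_ge (Fintype.card F) 5 with h5 | h5
  · have h6 : Fintype.card F = 2 ∨ Fintype.card F = 3 ∨ Fintype.card F = 4 := by omega
    rcases h6 with h6 | h6 | h6
    · obtain ⟨W, hW0, hW1, -, hle⟩ := frame_two h6 hD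
      exact Or.inl ⟨W, hW0, hW1, eq_inf_of_isMaximalIn hH (h.trans hle)
        (not_sl_le_subspaceStabilizer hW0 hW1)⟩
    · obtain ⟨Q, hQ, hle⟩ := frame_three h6 hD
      refine Or.inr (Or.inr (Or.inl ⟨by rw [h6]; decide, Q, hQ,
        eq_inf_of_isMaximalIn hH (h.trans hle) (not_sl_le_quadSimilarityGroup hn hQ)⟩))
    · obtain ⟨σ, f, hf, hle⟩ := frame_four h6 hD
      exact Or.inr (Or.inr (Or.inr ⟨σ, f, hf,
        eq_inf_of_isMaximalIn hH (h.trans hle) (not_sl_le_similarityGroup_unitary hn hf)⟩))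
  · exact Or.inr (Or.inl ⟨h5, ht, eq_inf_of_isMaximalIn hH h
      (not_sl_le_decompositionStabilizer hD)⟩)

end Cfsg.Agent.H905
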