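import Cfsg.Agent.H905.JDTriv

/-!
# The double cover of the Hall-Janko group has no irreducible representation of degree twelve in odd characteristic
(helper905)

`V₁ = {r1 = -1}`, `E₁ = {r1 = 1}`. The centraliser of `r1` acts on `E₁` by explicit elements of the algebra of the
extraspecial group `⟨r2, sw, Ii, Jj⟩` (`G_act`); this gives `c = -(1 + I + J + IJ)/2` (`two_c`), and on `V₁` a
two-dimensional invariant subspace.
-/

set_option autoImplicit false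
set_option linter.unusedSectionVars false

namespace Cfsg.Agent.H905.JD

open Subgroup Cfsg.Spor Cfsg.Agent.J2.ZTau Cfsg.Agent.J2.Ico Cfsg.Agent.J2.Lattice Cfsg.Agent.J2.Refl
  Cfsg.Agent.J2.Group Cfsg.Agent.J2.Stab Cfsg.Agent.J2.SixGens Cfsg.Agent.H1.J2Lift
open Module

variable {k V : Type*} [Field k] [AddCommGroup V] [Module k V] {ρ : W →* Module.End k V}

/-! ### the representation of the centraliser on the eigenspaces of `r1` -/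

/-- the centraliser of `r1` -/
noncomputable def Ce : Subgroup W := centralizer {r1}

theorem mem_Ce {w : W} : w ∈ Ce ↔ w * r1 = r1 * w := by
  rw [Ce, mem_centralizer_iff]
  constructor
  · intro h; exact (h r1 rfl).symm
  · rintro h _ rfl; exact h.symm

/-- restriction to an eigenspace -/
noncomputable def res (ρ : W →* Module.End k V) (δ : k) : Ce →* Module.End k (Ep (⊤ : Submodule k V) (ρ r1) δ) where
  toFun w := (ρ w).restrict (p := Ep (⊤ : Submodule k V) (ρ r1) δ) (fun _ hv =>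
    ⟨trivial, comm_apply (mem_Ce.1 w.2) hv.2⟩)
  map_one' := by
    ext v
    change ρ ((1 : Ce) : W) v.1 = v.1
    rw [OneMemClass.coe_one, map_one]; rfl
  map_mul' a b := by
    ext v
    change ρ ((a * b : Ce) : W) v.1 = ρ a (ρ b v.1)
    rw [Subgroup.coe_mul, ap2]

theorem res_val (δ : k) (w : Ce) (v : Ep (⊤ : Submodule k V) (ρ r1) δ) : (res ρ δ w v : V) = ρ w v := rfl

section

variable (h2 : (2 : k) ≠ 0) (hng : ∀ v, ρ ng v = -v) (hz : ∀ v, ρ r1 v = -v → ρ r2 v = -v → v = 0)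

include h2 hng hz

theorem f1 {a : W} (e : a * r1 = r1 * a) {u : V} (h : ρ r1 u = -u) : ρ r1 (ρ a u) = -ρ a u := by
  have := comm_apply (ρ := ρ) e (v := u) (δ := -1) (by rw [h, neg_one_smul])
  rwa [neg_one_smul] at this

theorem f1' {a : W} (e : a * r1 = r1 * a) {u : V} (h : ρ r1 u = -u) : ρ r1 (ρ a⁻¹ u) = -ρ a⁻¹ u := by
  have := inv_comm (ρ := ρ) e (v := u) (δ := -1) (by rw [h, neg_one_smul])
  rwa [neg_one_smul] at this

theorem p1 {a : W} (e : a * r1 = r1 * a) {u : V} (h : ρ r1 u = u) : ρ r1 (ρ a u) = ρ a u := by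
  have := comm_apply (ρ := ρ) e (v := u) (δ := 1) (by rw [h, one_smul])
  rwa [one_smul] at this

theorem p1' {a : W} (e : a * r1 = r1 * a) {u : V} (h : ρ r1 u = u) : ρ r1 (ρ a⁻¹ u) = ρ a⁻¹ u := by
  have := inv_comm (ρ := ρ) e (v := u) (δ := 1) (by rw [h, one_smul])
  rwa [one_smul] at this

theorem v_r2 {u : V} (h : ρ r1 u = -u) : ρ r2 u = u := by
  have h3 := hz (u - ρ r2 u) (by rw [map_sub, ap22 ρ q_12, h, map_neg]; abel) (by
    rw [map_sub, ap20 ρ q_22]; abel)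
  exact (sub_eq_zero.1 h3).symm

theorem v_r3 {u : V} (h : ρ r1 u = -u) : ρ r3 u = u := by
  have e := ap22 ρ q_12_3 u
  rw [v_r2 h2 hng hz h, h, hng] at e
  exact (neg_injective e).symm

theorem v_sw {u : V} (h : ρ r1 u = -u) : ρ sw u = u := by
  rw [← inj_iff ρ gg, ← ap22 ρ q_2G, v_r2 h2 hng hz (f1 h2 hng hz q_G1 h)]

theorem v_I {u : V} (h : ρ r1 u = -u) : ρ Ii u = u := by
  have e := ap ρ q_x2 (ρ xx⁻¹ u)
  rw [ap2, v_r2 h2 hng hz (f1' h2 hng hz q_x1 h), inv_r, ap2, inv_r, ap2, ap2,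
    v_sw h2 hng hz (f1 h2 hng hz q_I1 h), v_r2 h2 hng hz (f1 h2 hng hz q_I1 h)] at e
  exact e.symm

theorem v_J {u : V} (h : ρ r1 u = -u) : ρ Jj u = u := by
  have e := ap22 ρ q_cI (ρ om⁻¹ u)
  rw [v_I h2 hng hz (f1' h2 hng hz q_c1 h), inv_r] at e
  exact e.symm

/-! ### the second and third line -/

theorem to_one {u : V} (h : ρ r2 u = -u) : ρ r1 (ρ nn⁻¹ u) = -ρ nn⁻¹ u := by
  have e : r1 * nn⁻¹ = nn⁻¹ * r2 := by
    rw [eq_inv_mul_iff_mul_eq, ← mul_assoc, q_n1, mul_inv_cancel_right]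
  rw [ap22 ρ e, h, map_neg]

theorem two_I2 {u : V} (h : ρ r2 u = -u) : ρ I2 u = u := by
  have h3 := to_one h2 hng hz h
  rw [I2, ap2, ap2, v_I h2 hng hz h3, inv_r]

theorem two_r3 {u : V} (h : ρ r2 u = -u) : ρ r3 u = u := by
  have h3 := v_r2 h2 hng hz (to_one h2 hng hz h)
  have e := ap22 ρ q_n2 (ρ nn⁻¹ u)
  rw [h3, inv_r] at e
  exact e.symm

theorem e_r23 {u : V} (h : ρ r1 u = u) : ρ r2 (ρ r3 u) = -u := by
  have e := ap ρ q_123 u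
  have e2 : r1 * r2 * r3 = r2 * r3 * r1 := by
    rw [q_12, mul_assoc, q_13, ← mul_assoc]
  rw [e2, ap2, h, ap2, hng] at e
  exact e

theorem two_I3 {u : V} (h : ρ r1 u = u) : (2 : k) • ρ I3 u = ρ Ii (u - ρ r2 u) + (u + ρ r2 u) := by
  have hp : ρ r2 (u - ρ r2 u) = -(u - ρ r2 u) := by rw [map_sub, ap20 ρ q_22]; abel
  have hq : ρ r2 (u + ρ r2 u) = u + ρ r2 u := by rw [map_add, ap20 ρ q_22]; abel
  have h3 : ρ I3 (u - ρ r2 u) = ρ Ii (u - ρ r2 u) := by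
    rw [ap ρ q_k, ap2, two_r3 h2 hng hz hp, ap2, two_I2 h2 hng hz hp]
  have h4 : ρ I3 (u + ρ r2 u) = u + ρ r2 u := by
    have h5 : ρ r1 (u + ρ r2 u) = u + ρ r2 u := by rw [map_add, ap22 ρ q_12, h]
    have h6 : ρ r3 (u + ρ r2 u) = -(u + ρ r2 u) := by
      have e := e_r23 h2 hng hz h5
      rw [ap22 ρ q_23, hq] at e
      exact e
    have h7 : ρ r1 (ρ nn (u + ρ r2 u)) = -ρ nn (u + ρ r2 u) := by
      rw [← ap22 ρ q_n3, h6, map_neg]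
    rw [I3, ap2, ap2, v_I h2 hng hz h7, inv_l]
  have h5 : ρ I3 (u - ρ r2 u) + (u + ρ r2 u) = ρ I3 (u - ρ r2 u) + ρ I3 (u + ρ r2 u) := by rw [h4]
  rw [← h3, h5, ← map_add, ← map_smul]
  congr 1
  rw [two_smul]; abel

/-- the action of `gg` on `E₁` -/
theorem G_act {v : V} (h : ρ r1 v = v) : (2 : k) • ρ gg v =
    -(ρ Ii (ρ Jj (ρ Ii v)) + ρ r2 (ρ sw (ρ Jj (ρ Ii v))) + ρ Jj (ρ Ii v) +
      ρ r2 (ρ sw (ρ Ii (ρ Jj (ρ Ii v))))) := by
  set w := ρ Jj (ρ Ii v) with hw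
  have hw1 : ρ r1 w = w := p1 h2 hng hz q_J1 (p1 h2 hng hz q_I1 h)
  set u := ρ xx⁻¹ w with hu
  have hu1 : ρ r1 u = u := p1' h2 hng hz q_x1 hw1
  have hxu : ρ xx u = w := inv_r ρ xx w
  have e1 : ρ gg v = -ρ xx (ρ I3 u) := by
    rw [ap ρ q_G, ap2, hng, ap2, ap2, ap2, ap2]
  have e2 := two_I3 h2 hng hz hu1
  have e3 : ρ xx (ρ r2 u) = ρ r2 (ρ sw (ρ Ii w)) := by
    rw [← ap2, q_x2, ap2, hxu, ap2, ap2]
  have e4 : ρ Ii (ρ r2 (ρ sw (ρ Ii w))) = -ρ r2 (ρ sw w) := by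
    rw [ap22 ρ q_I2, ← ap22 ρ q_tI, ap22 ρ q_II]
    have h5 := e_r23 h2 hng hz hw1
    rw [h5, map_neg, map_neg]
  rw [e1, smul_neg, ← map_smul, e2, map_add, map_add, ← ap22 ρ q_xI.symm, map_sub, map_sub, hxu, e3, e4]
  abel

/-! ### the element of order three -/

/-- the action of `om` on `E₁` -/
theorem om_act {v : V} (h : ρ r1 v = v) :
    (2 : k) • ρ om v = -(v + ρ Ii v + ρ Jj v + ρ Ii (ρ Jj v)) := by
  let cI : Ce := ⟨Ii, mem_Ce.2 q_I1⟩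
  let cJ : Ce := ⟨Jj, mem_Ce.2 q_J1⟩
  let c2 : Ce := ⟨r2, mem_Ce.2 q_12.symm⟩
  let ct : Ce := ⟨sw, mem_Ce.2 q_t1⟩
  let co : Ce := ⟨om, mem_Ce.2 q_c1⟩
  let cG : Ce := ⟨gg, mem_Ce.2 q_G1⟩
  have hv : ∀ x : Ep (⊤ : Submodule k V) (ρ r1) 1, ρ r1 (x : V) = x := fun x => by
    rw [x.2.2, one_smul]
  have hI : res ρ 1 cI * res ρ 1 cI = -1 := by
    ext x
    change ρ Ii (ρ Ii (x : V)) = -(x : V)
    rw [ap22 ρ q_II, e_r23 h2 hng hz (hv x)]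
  have hJ : res ρ 1 cJ * res ρ 1 cJ = -1 := by
    ext x
    change ρ Jj (ρ Jj (x : V)) = -(x : V)
    rw [ap22 ρ q_JJ, e_r23 h2 hng hz (hv x)]
  have hJI : res ρ 1 cJ * res ρ 1 cI = -(res ρ 1 cI * res ρ 1 cJ) := by
    ext x
    change ρ Jj (ρ Ii (x : V)) = -ρ Ii (ρ Jj (x : V))
    have e := ap ρ q_IJ (x : V)
    rw [ap2, ap2, ap2, ap2, e_r23 h2 hng hz (p1 h2 hng hz q_J1 (p1 h2 hng hz q_I1 (hv x)))] at e
    rw [e, neg_neg]
  have hbI : (res ρ 1 c2 * res ρ 1 ct) * res ρ 1 cI = res ρ 1 cI * (res ρ 1 c2 * res ρ 1 ct) := by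
    ext x
    change ρ r2 (ρ sw (ρ Ii (x : V))) = ρ Ii (ρ r2 (ρ sw (x : V)))
    rw [ap22 ρ q_tI, ← ap22 ρ q_I2]
  have hbJ : (res ρ 1 c2 * res ρ 1 ct) * res ρ 1 cJ = res ρ 1 cJ * (res ρ 1 c2 * res ρ 1 ct) := by
    ext x
    change ρ r2 (ρ sw (ρ Jj (x : V))) = ρ Jj (ρ r2 (ρ sw (x : V)))
    rw [ap22 ρ q_tJ, ← ap22 ρ q_J2]
  have hbb : (res ρ 1 c2 * res ρ 1 ct) * (res ρ 1 c2 * res ρ 1 ct) = -1 := by
    ext x
    change ρ r2 (ρ sw (ρ r2 (ρ sw (x : V)))) = -(x : V)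
    have e := ap22 ρ q_t2 (ρ sw (x : V))
    rw [e, ap20 ρ q_tt, e_r23 h2 hng hz (hv x)]
  have hG : (2 : k) • res ρ 1 cG =
      -((1 + res ρ 1 c2 * res ρ 1 ct) * (res ρ 1 cJ + res ρ 1 cJ * res ρ 1 cI)) := by
    ext x
    change (2 : k) • ρ gg (x : V) = -((ρ Jj (x : V) + ρ Jj (ρ Ii (x : V))) +
      ρ r2 (ρ sw (ρ Jj (x : V) + ρ Jj (ρ Ii (x : V)))))
    have e : ρ Ii (ρ Jj (ρ Ii (x : V))) = ρ Jj (x : V) := by
      have e1 : ρ Jj (ρ Ii (ρ Ii (x : V))) = -ρ Ii (ρ Jj (ρ Ii (x : V))) :=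
        congrArg (fun y : Ep (⊤ : Submodule k V) (ρ r1) 1 => (y : V))
          (LinearMap.congr_fun hJI (res ρ 1 cI x))
      rw [ap22 ρ q_II, e_r23 h2 hng hz (hv x), map_neg] at e1
      exact (neg_injective e1).symm
    rw [G_act h2 hng hz (hv x), e, map_add, map_add]
    congr 1
    abel
  have hcI : res ρ 1 co * res ρ 1 cI = res ρ 1 cJ * res ρ 1 co := by
    rw [← map_mul, ← map_mul]
    exact congrArg _ (Subtype.ext q_cI)
  have hcJ : res ρ 1 co * res ρ 1 cJ = res ρ 1 cI * res ρ 1 cJ * res ρ 1 co := by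
    rw [← map_mul, ← map_mul, ← map_mul]
    exact congrArg _ (Subtype.ext q_cJ)
  have hcb : res ρ 1 co * (res ρ 1 c2 * res ρ 1 ct) = (res ρ 1 c2 * res ρ 1 ct) * res ρ 1 co := by
    rw [← map_mul, ← map_mul, ← map_mul]
    refine congrArg _ (Subtype.ext ?_)
    change om * (r2 * sw) = r2 * sw * om
    rw [← mul_assoc, q_c2, mul_assoc, q_ct, ← mul_assoc]
  have hcG : res ρ 1 co * res ρ 1 cG * res ρ 1 co = res ρ 1 cG := by
    rw [← map_mul, ← map_mul]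
    exact congrArg _ (Subtype.ext q_cGc)
  have hccc : res ρ 1 co * res ρ 1 co * res ρ 1 co = 1 := by
    rw [← map_mul, ← map_mul, ← map_one (res ρ 1)]
    exact congrArg _ (Subtype.ext q_ccc)
  have key := two_c (k := k) h2 hI hJ hJI hbI hbJ hbb hG hcI hcJ hcb hcG hccc
  have e := congrArg (fun y : Ep (⊤ : Submodule k V) (ρ r1) 1 => (y : V))
    (LinearMap.congr_fun key ⟨v, trivial, by rw [h, one_smul]⟩)
  exact e

theorem v_I3 {u : V} (h : ρ r1 u = -u) : ρ I3 u = ρ I2 u := by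
  rw [ap ρ q_k, ap2, v_r3 h2 hng hz h, ap2, v_I h2 hng hz (f1 h2 hng hz q_i1 h)]

theorem v_J3 {u : V} (h : ρ r1 u = -u) : ρ J3' u = ρ J2' u := by
  rw [ap ρ q_l, ap2, v_r3 h2 hng hz h, ap2, v_J h2 hng hz (f1 h2 hng hz q_j1 h)]

/-- the action of `om` on `V₁` -/
theorem om_one {v : V} (h : ρ r1 v = -v) :
    (2 : k) • ρ om v = -(v + ρ I2 v + ρ J2' v + ρ I2 (ρ J2' v)) := by
  have h1 : ρ r1 (ρ nn v) = ρ nn v := by rw [← ap22 ρ q_n3, v_r3 h2 hng hz h]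
  have e := om_act h2 hng hz h1
  rw [ap22 ρ q_cn] at e
  have e1 := congrArg (fun x => ρ nn⁻¹ x) e
  simp only [map_smul, map_neg, map_add, inv_l] at e1
  have e2 : ρ nn⁻¹ (ρ Ii (ρ nn v)) = ρ I2 v := by
    rw [← v_I3 h2 hng hz h, I3, ap2, ap2]
  have e3 : ρ nn⁻¹ (ρ Jj (ρ nn v)) = ρ J2' v := by
    rw [← v_J3 h2 hng hz h, J3', ap2, ap2]
  have e4 : ρ nn⁻¹ (ρ Ii (ρ Jj (ρ nn v))) = ρ I2 (ρ J2' v) := by
    rw [← v_I3 h2 hng hz (f1 h2 hng hz q_j1 h), I3, ap2, ap2, ← e3, inv_r]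
  rw [e2, e3, e4] at e1
  exact e1

end

end Cfsg.Agent.H905.JD
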