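import Cfsg.Agent.H905.JDNeg

/-!
# An invariant subspace of dimension at most six (helper905)
-/

set_option autoImplicit false
set_option linter.unusedSectionVars false

namespace Cfsg.Agent.H905.JD

open Subgroup Cfsg.Spor Cfsg.Agent.J2.ZTau Cfsg.Agent.J2.Ico Cfsg.Agent.J2.Lattice Cfsg.Agent.J2.Refl
  Cfsg.Agent.J2.Group Cfsg.Agent.J2.Stab Cfsg.Agent.J2.SixGens Cfsg.Agent.H1.J2Lift
open Module

section alg

variable {k V : Type*} [Field k] [IsAlgClosed k] [AddCommGroup V] [Module k V] [FiniteDimensional k V] [Nontrivial V]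

/-- a plane invariant under `i`, `j`, `s` -/
theorem exists_plane (h2 : (2 : k) ≠ 0) {i j s : Module.End k V} (hi : i * i = -1) (hj : j * j = -1)
    (hij : j * i = -(i * j)) (ha : s * (i + j + i * j) = -((i + j + i * j) * s)) (ht : s * i + i * s = -1) :
    ∃ v : V, v ≠ 0 ∧ (∀ u ∈ Submodule.span k {v, j v}, i u ∈ Submodule.span k {v, j v}) ∧
      (∀ u ∈ Submodule.span k {v, j v}, j u ∈ Submodule.span k {v, j v}) ∧
      (∀ u ∈ Submodule.span k {v, j v}, s u ∈ Submodule.span k {v, j v}) := by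
  obtain ⟨ι, hι⟩ := IsAlgClosed.exists_pow_nat_eq (-1 : k) two_pos
  have hι2 : ι * ι = -1 := by rw [← hι]; ring
  have hι0 : ι ≠ 0 := by rintro rfl; rw [mul_zero] at hι2; exact one_ne_zero (neg_eq_zero.1 hι2.symm)
  obtain ⟨haj, hai⟩ := comm_of_trace hi hj hij ha ht
  set a := s * j + j * s with hadef
  obtain ⟨α, hα⟩ := Module.End.exists_eigenvalue a
  obtain ⟨u, hu⟩ := hα.exists_hasEigenvector
  have hau : a u = α • u := hu.apply_eq_smul
  have hi' : ∀ x, i (i x) = -x := fun x => LinearMap.congr_fun hi x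
  have hj' : ∀ x, j (j x) = -x := fun x => LinearMap.congr_fun hj x
  have hij' : ∀ x, j (i x) = -i (j x) := fun x => LinearMap.congr_fun hij x
  have haj' : ∀ x, a (j x) = j (a x) := fun x => LinearMap.congr_fun haj x
  have hai' : ∀ x, a (i x) = i (a x) := fun x => LinearMap.congr_fun hai x
  -- an eigenvector of `i`
  obtain ⟨v, hv0, hiv, hav⟩ : ∃ v : V, v ≠ 0 ∧ i v = ι • v ∧ a v = α • v := by
    by_cases h : i u + ι • u = 0
    · have h1 : i u = -(ι • u) := eq_neg_of_add_eq_zero_left h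
      refine ⟨j u, fun h3 => hu.2 ?_, ?_, ?_⟩
      · have h4 := hj' u
        rw [h3, map_zero] at h4
        exact neg_eq_zero.1 h4.symm
      · have h4 := hij' u
        rw [h1, map_neg, map_smul] at h4
        exact (neg_injective h4).symm
      · rw [haj', hau, map_smul]
    · refine ⟨_, h, ?_, ?_⟩
      · rw [map_add, hi', map_smul, smul_add, smul_smul, hι2, neg_one_smul, add_comm]
      · rw [map_add, hai', hau, map_smul, map_smul, hau, smul_add, smul_comm]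
  refine ⟨v, hv0, ?_⟩
  have hL : ∀ T : Module.End k V, T v ∈ Submodule.span k {v, j v} → T (j v) ∈ Submodule.span k {v, j v} →
      ∀ u ∈ Submodule.span k {v, j v}, T u ∈ Submodule.span k {v, j v} := by
    intro T h1 h3 u hu
    obtain ⟨x, y, rfl⟩ := Submodule.mem_span_pair.1 hu
    rw [map_add, map_smul, map_smul]
    exact Submodule.add_mem _ (Submodule.smul_mem _ _ h1) (Submodule.smul_mem _ _ h3)
  have mv : v ∈ Submodule.span k {v, j v} := Submodule.subset_span (by simp)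
  have mj : j v ∈ Submodule.span k {v, j v} := Submodule.subset_span (by simp)
  have hjv : i (j v) = -(ι • j v) := by
    have h4 := hij' v
    rw [hiv, map_smul] at h4
    rw [h4, neg_neg]
  -- the vector `Q = j s v`
  have e1 : ι • s v + i (s v) = -v := by
    have := LinearMap.congr_fun ht v
    rw [LinearMap.add_apply, Module.End.mul_apply, Module.End.mul_apply, hiv, map_smul] at this
    exact this
  have e2 : s (j v) = α • v - j (s v) := by
    have h4 : s (j v) + j (s v) = α • v := hav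
    rw [← h4]; abel
  have e3 : s (i (j v)) + i (j (s v)) = v - α • v := by
    have h4 : s (i v + j v + i (j v)) = -(i (s v) + j (s v) + i (j (s v))) := LinearMap.congr_fun ha v
    have h5 : s (i v) + i (s v) = -v := LinearMap.congr_fun ht v
    rw [map_add, map_add, e2] at h4
    have h6 : s (i (j v)) + i (j (s v)) = -(s (i v) + i (s v)) - α • v := by
      have : s (i (j v)) = -(i (s v) + j (s v) + i (j (s v))) - (s (i v) + (α • v - j (s v))) := by
        rw [← h4]; abel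
      rw [this]; abel
    rw [h6, h5, neg_neg]
  have e4 : i (j (s v)) + ι • j (s v) = (1 - α + ι * α) • v := by
    rw [hjv, map_neg, map_smul, e2, smul_sub, smul_smul] at e3
    have : i (j (s v)) + ι • j (s v) = -((ι * α) • v - ι • j (s v)) + i (j (s v)) + (ι * α) • v := by abel
    rw [this, e3, add_smul, sub_smul, one_smul]
  have e5 : i (j (s v)) - ι • j (s v) = j v := by
    have h4 := congrArg (fun x => j x) e1
    simp only [map_add, map_smul, map_neg, hij'] at h4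
    rw [← neg_eq_iff_eq_neg] at h4
    rw [← h4]; abel
  have e6 : (2 * ι) • j (s v) = (1 - α + ι * α) • v - j v := by
    rw [← e4, ← e5, mul_smul, two_smul]; abel
  have h2ι : 2 * ι ≠ 0 := mul_ne_zero h2 hι0
  have mQ : j (s v) ∈ Submodule.span k {v, j v} := by
    have h4 : j (s v) = (2 * ι)⁻¹ • ((1 - α + ι * α) • v - j v) := by
      rw [← e6, smul_smul, inv_mul_cancel₀ h2ι, one_smul]
    rw [h4]
    exact Submodule.smul_mem _ _ (Submodule.sub_mem _ (Submodule.smul_mem _ _ mv) mj)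
  have Lj : ∀ u ∈ Submodule.span k {v, j v}, j u ∈ Submodule.span k {v, j v} :=
    hL j mj (by rw [hj']; exact Submodule.neg_mem _ mv)
  refine ⟨hL i (by rw [hiv]; exact Submodule.smul_mem _ _ mv)
    (by rw [hjv]; exact Submodule.neg_mem _ (Submodule.smul_mem _ _ mj)), Lj, hL s ?_ ?_⟩
  · have h4 : s v = -j (j (s v)) := by rw [hj', neg_neg]
    rw [h4]
    exact Submodule.neg_mem _ (Lj _ mQ)
  · rw [e2]
    exact Submodule.sub_mem _ (Submodule.smul_mem _ _ mv) mQ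

end alg

variable {k V : Type*} [Field k] [AddCommGroup V] [Module k V] {ρ : W →* Module.End k V}

section

variable (h2 : (2 : k) ≠ 0) (hng : ∀ v, ρ ng v = -v) (hz : ∀ v, ρ r1 v = -v → ρ r2 v = -v → v = 0)

include h2 hng hz

/-- the plane in `V₁` -/
theorem exists_U [IsAlgClosed k] [FiniteDimensional k V] (hne : ∃ v : V, v ≠ 0 ∧ ρ r1 v = -v) :
    ∃ U : Submodule k V, U ≠ ⊥ ∧ finrank k U ≤ 2 ∧ (∀ u ∈ U, ρ r1 u = -u) ∧ (∀ u ∈ U, ρ I2 u ∈ U) ∧
      (∀ u ∈ U, ρ J2' u ∈ U) ∧ (∀ u ∈ U, ρ gg u ∈ U) := by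
  let E := Ep (⊤ : Submodule k V) (ρ r1) (-1)
  have hE : ∀ x : E, ρ r1 (x : V) = -x := fun x => by rw [x.2.2, neg_one_smul]
  have : Nontrivial E := by
    obtain ⟨v, hv, hv1⟩ := hne
    exact ⟨⟨⟨v, trivial, by rw [hv1, neg_one_smul]⟩, 0, fun h => hv (congrArg Subtype.val h)⟩⟩
  let ci : Ce := ⟨I2, mem_Ce.2 q_i1⟩
  let cj : Ce := ⟨J2', mem_Ce.2 q_j1⟩
  let co : Ce := ⟨om, mem_Ce.2 q_c1⟩
  let cG : Ce := ⟨gg, mem_Ce.2 q_G1⟩
  let cy : Ce := ⟨yy, mem_Ce.2 q_y1⟩
  have hi : res ρ (-1) ci * res ρ (-1) ci = -1 := by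
    ext x
    change ρ I2 (ρ I2 (x : V)) = -(x : V)
    rw [ap22 ρ q_ii, v_r3 h2 hng hz (hE x), hE]
  have hj : res ρ (-1) cj * res ρ (-1) cj = -1 := by
    ext x
    change ρ J2' (ρ J2' (x : V)) = -(x : V)
    rw [ap22 ρ q_jj, v_r3 h2 hng hz (hE x), hE]
  have hij : res ρ (-1) cj * res ρ (-1) ci = -(res ρ (-1) ci * res ρ (-1) cj) := by
    ext x
    change ρ J2' (ρ I2 (x : V)) = -ρ I2 (ρ J2' (x : V))
    have e := ap ρ q_ij (x : V)
    have h3 := f1 h2 hng hz q_j1 (f1 h2 hng hz q_i1 (hE x))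
    rw [ap2, ap2, ap2, ap2, v_r3 h2 hng hz h3, h3] at e
    rw [e, neg_neg]
  have hs : res ρ (-1) cG * res ρ (-1) cG = -1 := by
    ext x
    change ρ gg (ρ gg (x : V)) = -(x : V)
    have e := ap ρ q_GG (x : V)
    rw [ap2, ap2, hng, ap2, v_sw h2 hng hz (hE x), v_r2 h2 hng hz (hE x)] at e
    exact e
  have hc : (2 : k) • res ρ (-1) co = -(1 + res ρ (-1) ci + res ρ (-1) cj + res ρ (-1) ci * res ρ (-1) cj) := by
    ext x
    exact om_one h2 hng hz (hE x)
  have hcs : res ρ (-1) co * res ρ (-1) cG * res ρ (-1) co = res ρ (-1) cG := by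
    rw [← map_mul, ← map_mul]
    exact congrArg _ (Subtype.ext q_cGc)
  have hy : res ρ (-1) cy * res ρ (-1) co = res ρ (-1) cG * res ρ (-1) ci * res ρ (-1) cy := by
    ext x
    change ρ yy (ρ om (x : V)) = ρ gg (ρ I2 (ρ yy (x : V)))
    have h3 := f1 h2 hng hz q_y1 (hE x)
    have h4 : ρ Jj⁻¹ (ρ yy (x : V)) = ρ yy (x : V) := by
      rw [← inj_iff ρ Jj, inv_r, v_J h2 hng hz h3]
    rw [← ap2, ap ρ q_yc, ap2, ap2, ap2, ap2, v_sw h2 hng hz h3, h4]
  have hyy : res ρ (-1) cy * res ρ (-1) cy⁻¹ = 1 := by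
    rw [← map_mul, mul_inv_cancel, map_one]
  have hanti := anti_of_csc (k := k) h2 hi hj hij hc hcs
  have htr := trace_of_conj (k := k) h2 hi hj hij hs hc hy hyy
  obtain ⟨v, hv, si, sj, ss⟩ := exists_plane h2 hi hj hij hanti htr
  let U₁ := Submodule.span k {v, res ρ (-1) cj v}
  refine ⟨U₁.map E.subtype, ?_, ?_, ?_, ?_, ?_, ?_⟩
  · intro h
    have h3 : (v : V) ∈ U₁.map E.subtype := ⟨v, Submodule.subset_span (by simp), rfl⟩
    rw [h, Submodule.mem_bot] at h3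
    exact hv (Subtype.ext h3)
  · classical
    refine (Submodule.finrank_map_le _ _).trans ?_
    have e : U₁ = Submodule.span k ((({v, res ρ (-1) cj v} : Finset E)) : Set E) := by
      rw [Finset.coe_insert, Finset.coe_singleton]
    rw [e]
    exact (finrank_span_finset_le_card _).trans Finset.card_le_two
  · rintro _ ⟨x, _, rfl⟩
    exact hE x
  · rintro _ ⟨x, hx, rfl⟩
    exact ⟨_, si x hx, rfl⟩
  · rintro _ ⟨x, hx, rfl⟩
    exact ⟨_, sj x hx, rfl⟩
  · rintro _ ⟨x, hx, rfl⟩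
    exact ⟨_, ss x hx, rfl⟩

/-- the stabiliser of a subspace -/
noncomputable def Stb (ρ : W →* Module.End k V) (M : Submodule k V) : Subgroup W where
  carrier := {w | ∀ v, ρ w v ∈ M ↔ v ∈ M}
  one_mem' := fun v => by rw [map_one]; rfl
  mul_mem' := fun {a b} ha hb v => by rw [ap2, ha, hb]
  inv_mem' := fun {a} ha v => by rw [← ha (ρ a⁻¹ v), inv_r]

omit h2 hng hz in
theorem mem_Stb [FiniteDimensional k V] {M : Submodule k V} {w : W} (h : ∀ v ∈ M, ρ w v ∈ M) : w ∈ Stb ρ M := by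
  have h3 : M.map (ρ w) ≤ M := by
    rintro _ ⟨v, hv, rfl⟩
    exact h v hv
  have hi : Function.Injective (ρ w) := fun a b hab => (inj_iff ρ w).1 hab
  have h4 : M.map (ρ w) = M := Submodule.eq_of_le_of_finrank_eq h3
    (LinearEquiv.finrank_eq (Submodule.equivMapOfInjective (ρ w) hi M)).symm
  intro v
  refine ⟨fun h5 => ?_, h v⟩
  rw [← h4] at h5
  obtain ⟨u, hu, e⟩ := h5
  rwa [← hi e]

/-- the invariant subspace -/
theorem exists_M [IsAlgClosed k] [FiniteDimensional k V] (hne : ∃ v : V, v ≠ 0 ∧ ρ r1 v = -v) :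
    ∃ M : Submodule k V, M ≠ ⊥ ∧ finrank k M ≤ 6 ∧ ∀ g, ∀ v ∈ M, ρ g v ∈ M := by
  obtain ⟨U, hU0, hU2, u1, ui, uj, ug⟩ := exists_U h2 hng hz hne
  have u2 : ∀ u ∈ U, ρ r2 u = u := fun u hu => v_r2 h2 hng hz (u1 u hu)
  have u3 : ∀ u ∈ U, ρ r3 u = u := fun u hu => v_r3 h2 hng hz (u1 u hu)
  have us : ∀ u ∈ U, ρ sw u = u := fun u hu => v_sw h2 hng hz (u1 u hu)
  have uI : ∀ u ∈ U, ρ Ii u = u := fun u hu => v_I h2 hng hz (u1 u hu)
  have uJ : ∀ u ∈ U, ρ Jj u = u := fun u hu => v_J h2 hng hz (u1 u hu)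
  have g1 : r1 * nn⁻¹ = nn⁻¹ * r2 := by rw [eq_inv_mul_iff_mul_eq, ← mul_assoc, q_n1, mul_inv_cancel_right]
  have g2 : r2 * nn⁻¹ = nn⁻¹ * r3 := by rw [eq_inv_mul_iff_mul_eq, ← mul_assoc, q_n2, mul_inv_cancel_right]
  have g3 : sw * nn = nn⁻¹ * sw := by rw [eq_inv_mul_iff_mul_eq, ← mul_assoc, q_ntn]
  have g4 : sw * nn⁻¹ = nn * sw := by rw [mul_inv_eq_iff_eq_mul, q_ntn]
  have g5 : Ii * nn = nn * I3 := by rw [I3, mul_assoc, mul_inv_cancel_left]
  have g6 : Ii * nn⁻¹ = nn⁻¹ * I2 := by rw [I2, mul_assoc, inv_mul_cancel_left]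
  have g7 : Jj * nn = nn * J3' := by rw [J3', mul_assoc, mul_inv_cancel_left]
  have g8 : Jj * nn⁻¹ = nn⁻¹ * J2' := by rw [J2', mul_assoc, inv_mul_cancel_left]
  have g9 : nn * nn = nn⁻¹ := by rw [eq_inv_iff_mul_eq_one, q_nnn]
  let A := U.map (ρ nn)
  let B := U.map (ρ nn⁻¹)
  have mA : ∀ {u}, u ∈ U → ρ nn u ∈ A ⊔ B := fun {u} hu => Submodule.mem_sup_left ⟨u, hu, rfl⟩
  have mB : ∀ {u}, u ∈ U → ρ nn⁻¹ u ∈ A ⊔ B := fun {u} hu => Submodule.mem_sup_right ⟨u, hu, rfl⟩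
  have ind : ∀ {T : Module.End k V} {L : Submodule k V}, (∀ u ∈ U, T (ρ nn u) ∈ L) → (∀ u ∈ U, T (ρ nn⁻¹ u) ∈ L) →
      ∀ v ∈ A ⊔ B, T v ∈ L := by
    intro T L hA hB v hv
    obtain ⟨_, ⟨a, ha, rfl⟩, _, ⟨b, hb, rfl⟩, rfl⟩ := Submodule.mem_sup.1 hv
    rw [map_add]
    exact L.add_mem (hA a ha) (hB b hb)
  have l1 : ∀ v ∈ A ⊔ B, ρ r1 v = v := by
    intro v hv
    have : (ρ r1 - 1) v ∈ (⊥ : Submodule k V) := ind (T := ρ r1 - 1) (L := ⊥) (fun u hu => by
      rw [LinearMap.sub_apply, Module.End.one_apply, ← ap22 ρ q_n3, u3 u hu, sub_self]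
      exact Submodule.zero_mem _) (fun u hu => by
      rw [LinearMap.sub_apply, Module.End.one_apply, ap22 ρ g1, u2 u hu, sub_self]
      exact Submodule.zero_mem _) v hv
    rw [Submodule.mem_bot, LinearMap.sub_apply, Module.End.one_apply, sub_eq_zero] at this
    exact this
  have l2 : ∀ v ∈ A ⊔ B, ρ r2 v ∈ A ⊔ B := ind (fun u hu => by
    rw [← ap22 ρ q_n1, u1 u hu, map_neg]; exact Submodule.neg_mem _ (mA hu)) (fun u hu => by
    rw [ap22 ρ g2, u3 u hu]; exact mB hu)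
  have ls : ∀ v ∈ A ⊔ B, ρ sw v ∈ A ⊔ B := ind (fun u hu => by
    rw [ap22 ρ g3, us u hu]; exact mB hu) (fun u hu => by
    rw [ap22 ρ g4, us u hu]; exact mA hu)
  have lI : ∀ v ∈ A ⊔ B, ρ Ii v ∈ A ⊔ B := ind (fun u hu => by
    rw [ap22 ρ g5, v_I3 h2 hng hz (u1 u hu)]; exact mA (ui u hu)) (fun u hu => by
    rw [ap22 ρ g6]; exact mB (ui u hu))
  have lJ : ∀ v ∈ A ⊔ B, ρ Jj v ∈ A ⊔ B := ind (fun u hu => by
    rw [ap22 ρ g7, v_J3 h2 hng hz (u1 u hu)]; exact mA (uj u hu)) (fun u hu => by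
    rw [ap22 ρ g8]; exact mB (uj u hu))
  have lG : ∀ v ∈ A ⊔ B, ρ gg v ∈ A ⊔ B := by
    intro v hv
    have e := G_act h2 hng hz (l1 v hv)
    have h3 : (2 : k) • ρ gg v ∈ A ⊔ B := by
      rw [e]
      exact Submodule.neg_mem _ (Submodule.add_mem _ (Submodule.add_mem _ (Submodule.add_mem _
        (lI _ (lJ _ (lI _ hv))) (l2 _ (ls _ (lJ _ (lI _ hv))))) (lJ _ (lI _ hv)))
        (l2 _ (ls _ (lI _ (lJ _ (lI _ hv))))))
    exact (Submodule.smul_mem_iff _ h2).1 h3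
  let M := U ⊔ (A ⊔ B)
  have indM : ∀ {T : Module.End k V}, (∀ u ∈ U, T u ∈ M) → (∀ u ∈ A ⊔ B, T u ∈ M) → ∀ v ∈ M, T v ∈ M := by
    intro T hA hB v hv
    obtain ⟨a, ha, b, hb, rfl⟩ := Submodule.mem_sup.1 hv
    rw [map_add]
    exact M.add_mem (hA a ha) (hB b hb)
  have mU : ∀ {u}, u ∈ U → u ∈ M := fun hu => Submodule.mem_sup_left hu
  have mL : ∀ {u}, u ∈ A ⊔ B → u ∈ M := fun hu => Submodule.mem_sup_right hu
  have hS : Stb ρ M = ⊤ := gen
    (mem_Stb fun v hv => by rw [hng]; exact Submodule.neg_mem _ hv)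
    (mem_Stb (indM (fun u hu => by rw [u1 u hu]; exact Submodule.neg_mem _ (mU hu)) fun u hu => by
      rw [l1 u hu]; exact mL hu))
    (mem_Stb (indM (fun u hu => mL (mA hu)) (ind (fun u hu => by
      rw [ap21 ρ g9]; exact mL (mB hu)) fun u hu => by rw [inv_r]; exact mU hu)))
    (mem_Stb (indM (fun u hu => mU (ug u hu)) fun u hu => mL (lG u hu)))
    (mem_Stb (indM (fun u hu => by rw [uI u hu]; exact mU hu) fun u hu => mL (lI u hu)))
    (mem_Stb (indM (fun u hu => by rw [uJ u hu]; exact mU hu) fun u hu => mL (lJ u hu)))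
  refine ⟨M, ?_, ?_, ?_⟩
  · intro h
    apply hU0
    rw [eq_bot_iff, ← h]
    exact le_sup_left
  · have e1 : finrank k A ≤ finrank k U := Submodule.finrank_map_le _ _
    have e2 : finrank k B ≤ finrank k U := Submodule.finrank_map_le _ _
    have e3 : finrank k ↥(A ⊔ B) ≤ finrank k A + finrank k B := Submodule.finrank_add_le_finrank_add_finrank _ _
    have e4 : finrank k M ≤ finrank k U + finrank k ↥(A ⊔ B) := Submodule.finrank_add_le_finrank_add_finrank _ _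
    omega
  · intro g v hv
    have : g ∈ Stb ρ M := by rw [hS]; trivial
    exact (this v).2 hv

end

/-- **the double cover** -/
theorem neg_false [IsAlgClosed k] [FiniteDimensional k V] (h2 : (2 : k) ≠ 0) (hng : ∀ v, ρ ng v = -v)
    (hdim : finrank k V = 12)
    (hirr : ∀ L : Submodule k V, (∀ g, ∀ v ∈ L, ρ g v ∈ L) → L = ⊥ ∨ L = ⊤) : False := by
  obtain ⟨ι, hι⟩ := IsAlgClosed.exists_pow_nat_eq (-1 : k) two_pos
  have hι2 : ι * ι = -1 := by rw [← hι]; ring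
  have : Nontrivial V := Module.nontrivial_of_finrank_pos (R := k) (by rw [hdim]; norm_num)
  rcases neg_dim h2 hng hdim hι2 with h | h
  · have hz : ∀ v, ρ r1 v = -v → ρ r2 v = -v → v = 0 := by
      intro v h3 h4
      have h5 : v ∈ Wt ρ (-1 : k) (-1) := mem_Wt.2 ⟨by rw [h3, neg_one_smul], by rw [h4, neg_one_smul]⟩
      rwa [h] at h5
    by_cases hne : ∃ v : V, v ≠ 0 ∧ ρ r1 v = -v
    · obtain ⟨M, hM0, hM6, hM⟩ := exists_M h2 hng hz hne
      rcases hirr M hM with h3 | h3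
      · exact hM0 h3
      · rw [h3, finrank_top, hdim] at hM6
        omega
    · push Not at hne
      have h3 : Wt ρ (-1 : k) (-(-1)) = ⊥ := by
        rw [eq_bot_iff]
        intro v hv
        rw [Submodule.mem_bot]
        by_contra h0
        exact hne v h0 (by rw [(mem_Wt.1 hv).1, neg_one_smul])
      have h4 := dim_formula (ρ := ρ) (ε := (-1 : k)) (fun v => by rw [hng, neg_one_smul]) (by ring) h2
      rw [h, h3, finrank_bot, hdim] at h4
      omega
  · have hr1 : ∀ v, ρ r1 v = -v := fun v => by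
      have h3 : v ∈ Wt ρ (-1 : k) (-1) := by rw [h]; trivial
      rw [(mem_Wt.1 h3).1, neg_one_smul]
    have hr2 : ∀ v, ρ r2 v = -v := fun v => by
      have h3 : v ∈ Wt ρ (-1 : k) (-1) := by rw [h]; trivial
      rw [(mem_Wt.1 h3).2, neg_one_smul]
    have hr3 : ∀ v, ρ r3 v = -v := fun v => by
      have e := ap22 ρ q_12_3 v
      rw [hr2, map_neg, hr1, neg_neg, hng] at e
      exact (neg_eq_iff_eq_neg.2 e).symm
    have hsw : ∀ v, ρ sw v = -v := fun v => by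
      rw [← inj_iff ρ gg, ← ap22 ρ q_2G, hr2, map_neg]
    have hI : ∀ v, ρ Ii v = -v := fun v => by
      have e := ap ρ q_x2 (ρ xx⁻¹ v)
      rw [ap2, hr2, map_neg, inv_r, ap2, inv_r, ap2, ap2, hr2, hsw, neg_neg] at e
      exact e.symm
    obtain ⟨v, hv⟩ := exists_ne (0 : V)
    have e := ap ρ q_Ij v
    rw [ap2, hI, ap2, ap2, hI, hr3, map_neg, neg_neg] at e
    have h3 := eq_zero_of_two h2 e.symm
    exact hv (inj ρ J2' h3)

end Cfsg.Agent.H905.JD
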