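import Mathlib

/-!
# Two by two quaternion algebras of operators (helper905)

* `s_formula` : `s = i/2 - (a/2) j - ((1-a)/2) ij`; `root_of_sq` : `a² = a + 1`;
* `Qs F₀ i j` : the subring of the operators `x + y i + z j + w ij` with coefficients in a subfield `F₀`;
* `trace_mem` : their traces are in `F₀`;
* `block_trace` : the trace of a block matrix.
-/

set_option autoImplicit false

namespace Cfsg.Agent.H905.JD

open Module

section Alg

variable {k A : Type*} [Field k] [Ring A] [Algebra k A]

theorem s_formula (h2 : (2 : k) ≠ 0) {i j s : A} {a : k} (hi : i * i = -1) (hj : j * j = -1)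
    (hij : j * i = -(i * j)) (hs : s * (i + j + i * j) = -((i + j + i * j) * s)) (h1 : s * i + i * s = -1)
    (h3 : s * j + j * s = a • 1) : (2 : k) • s = i - a • j - (1 - a) • (i * j) := by
  have e1 : i * (i * j) = -j := by rw [← mul_assoc, hi, neg_one_mul]
  have e2 : j * (i * j) = i := by rw [← mul_assoc, hij, neg_mul, mul_assoc, hj, mul_neg_one, neg_neg]
  have e3 : i * j * i = j := by rw [mul_assoc, hij, mul_neg, e1, neg_neg]
  have e4 : i * j * j = -i := by rw [mul_assoc, hj, mul_neg_one]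
  have e5 : i * j * (i * j) = -1 := by rw [← mul_assoc, e3, hj]
  have h4 : s * (i * j) + i * j * s = (1 - a) • 1 := by
    have h5 : (s * i + i * s) + (s * j + j * s) + (s * (i * j) + i * j * s) = 0 := by
      have : (s * i + i * s) + (s * j + j * s) + (s * (i * j) + i * j * s) =
          s * (i + j + i * j) + (i + j + i * j) * s := by noncomm_ring
      rw [this, hs, neg_add_cancel]
    rw [h1, h3] at h5
    rw [sub_smul, one_smul, ← sub_eq_zero, ← h5]
    abel
  set D := (2 : k) • s - (i - a • j - (1 - a) • (i * j)) with hD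
  have d1 : D * i = -(i * D) := by
    have : D * i + i * D = (2 : k) • (s * i + i * s) - (i * i + i * i) + a • (j * i + i * j) +
        (1 - a) • (i * j * i + i * (i * j)) := by
      rw [hD]
      simp only [sub_mul, mul_sub, smul_mul_assoc, mul_smul_comm]
      module
    rw [eq_neg_iff_add_eq_zero, this, h1, hi, hij, e3, e1]
    module
  have d2 : D * j = -(j * D) := by
    have : D * j + j * D = (2 : k) • (s * j + j * s) - (i * j + j * i) + a • (j * j + j * j) +
        (1 - a) • (i * j * j + j * (i * j)) := by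
      rw [hD]
      simp only [sub_mul, mul_sub, smul_mul_assoc, mul_smul_comm]
      module
    rw [eq_neg_iff_add_eq_zero, this, h3, hj, hij, e4, e2]
    module
  have d3 : D * (i * j) = -(i * j * D) := by
    have : D * (i * j) + i * j * D = (2 : k) • (s * (i * j) + i * j * s) - (i * (i * j) + i * j * i) +
        a • (j * (i * j) + i * j * j) + (1 - a) • (i * j * (i * j) + i * j * (i * j)) := by
      rw [hD]
      simp only [sub_mul, mul_sub, smul_mul_assoc, mul_smul_comm]
      module
    rw [eq_neg_iff_add_eq_zero, this, h4, e1, e3, e2, e4, e5]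
    module
  have d4 : D * (i * j) = i * j * D := by
    rw [← mul_assoc, d1, neg_mul, mul_assoc, d2, mul_neg, neg_neg, mul_assoc]
  have d5 : (2 : k) • (i * j * D) = 0 := by
    rw [two_smul]
    nth_rewrite 1 [← d4]
    rw [d3, neg_add_cancel]
  have d6 : i * j * D = 0 := by
    have h5 := congrArg (fun x => (2 : k)⁻¹ • x) d5
    simpa only [smul_smul, inv_mul_cancel₀ h2, one_smul, smul_zero] using h5
  have d7 : D = 0 := by
    have h5 := congrArg (fun x => -(i * j) * x) d6
    simp only [mul_zero] at h5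
    rw [← mul_assoc, neg_mul, e5, neg_neg, one_mul] at h5
    exact h5
  rw [hD, sub_eq_zero] at d7
  exact d7

theorem root_of_sq [Nontrivial A] (h2 : (2 : k) ≠ 0) {i j s : A} {a : k} (hi : i * i = -1) (hj : j * j = -1)
    (hij : j * i = -(i * j)) (hss : s * s = -1) (h : (2 : k) • s = i - a • j - (1 - a) • (i * j)) :
    a * a = a + 1 := by
  have e1 : i * (i * j) = -j := by rw [← mul_assoc, hi, neg_one_mul]
  have e2 : j * (i * j) = i := by rw [← mul_assoc, hij, neg_mul, mul_assoc, hj, mul_neg_one, neg_neg]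
  have e3 : i * j * i = j := by rw [mul_assoc, hij, mul_neg, e1, neg_neg]
  have e4 : i * j * j = -i := by rw [mul_assoc, hj, mul_neg_one]
  have e5 : i * j * (i * j) = -1 := by rw [← mul_assoc, e3, hj]
  have h3 : ((2 : k) • s) * ((2 : k) • s) = (-4 : k) • (1 : A) := by
    rw [smul_mul_smul_comm, hss]
    module
  have h4 : ((2 : k) • s) * ((2 : k) • s) = (-(1 + a * a + (1 - a) * (1 - a))) • (1 : A) := by
    rw [h]
    simp only [sub_mul, mul_sub, smul_mul_assoc, mul_smul_comm, hi, hj, hij, e1, e2, e3, e4, e5]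
    module
  rw [h3] at h4
  have h5 : (-4 : k) = -(1 + a * a + (1 - a) * (1 - a)) := by
    have h6 : ((-4 : k) - -(1 + a * a + (1 - a) * (1 - a))) • (1 : A) = 0 := by rw [sub_smul, h4, sub_self]
    rcases smul_eq_zero.1 h6 with h7 | h7
    · exact sub_eq_zero.1 h7
    · exact absurd h7 one_ne_zero
  have h6 : 2 * (a * a - (a + 1)) = 0 := by linear_combination h5
  exact sub_eq_zero.1 ((mul_eq_zero.1 h6).resolve_left h2)

/-- the subring of the operators with coefficients in a subfield -/
def Qs (F₀ : Subfield k) {i j : A} (hi : i * i = -1) (hj : j * j = -1) (hij : j * i = -(i * j)) : Subring A where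
  carrier := {T | ∃ a ∈ F₀, ∃ b ∈ F₀, ∃ c ∈ F₀, ∃ d ∈ F₀, T = a • 1 + b • i + c • j + d • (i * j)}
  mul_mem' := by
    rintro _ _ ⟨a, ha, b, hb, c, hc, d, hd, rfl⟩ ⟨a', ha', b', hb', c', hc', d', hd', rfl⟩
    have e1 : i * (i * j) = -j := by rw [← mul_assoc, hi, neg_one_mul]
    have e2 : j * (i * j) = i := by rw [← mul_assoc, hij, neg_mul, mul_assoc, hj, mul_neg_one, neg_neg]
    have e3 : i * j * i = j := by rw [mul_assoc, hij, mul_neg, e1, neg_neg]
    have e4 : i * j * j = -i := by rw [mul_assoc, hj, mul_neg_one]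
    have e5 : i * j * (i * j) = -1 := by rw [← mul_assoc, e3, hj]
    refine ⟨a * a' - b * b' - c * c' - d * d', by aesop, a * b' + b * a' + c * d' - d * c', ?_,
      a * c' - b * d' + c * a' + d * b', ?_, a * d' + b * c' - c * b' + d * a', ?_, ?_⟩
    · exact F₀.sub_mem (F₀.add_mem (F₀.add_mem (F₀.mul_mem ha hb') (F₀.mul_mem hb ha')) (F₀.mul_mem hc hd'))
        (F₀.mul_mem hd hc')
    · exact F₀.add_mem (F₀.add_mem (F₀.sub_mem (F₀.mul_mem ha hc') (F₀.mul_mem hb hd')) (F₀.mul_mem hc ha'))
        (F₀.mul_mem hd hb')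
    · exact F₀.add_mem (F₀.sub_mem (F₀.add_mem (F₀.mul_mem ha hd') (F₀.mul_mem hb hc')) (F₀.mul_mem hc hb'))
        (F₀.mul_mem hd ha')
    · simp only [add_mul, mul_add, smul_mul_assoc, mul_smul_comm, one_mul, mul_one, hi, hj, hij, e1, e2, e3, e4, e5]
      module
  one_mem' := ⟨1, F₀.one_mem, 0, F₀.zero_mem, 0, F₀.zero_mem, 0, F₀.zero_mem, by module⟩
  add_mem' := by
    rintro _ _ ⟨a, ha, b, hb, c, hc, d, hd, rfl⟩ ⟨a', ha', b', hb', c', hc', d', hd', rfl⟩
    exact ⟨a + a', F₀.add_mem ha ha', b + b', F₀.add_mem hb hb', c + c', F₀.add_mem hc hc', d + d',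
      F₀.add_mem hd hd', by module⟩
  zero_mem' := ⟨0, F₀.zero_mem, 0, F₀.zero_mem, 0, F₀.zero_mem, 0, F₀.zero_mem, by module⟩
  neg_mem' := by
    rintro _ ⟨a, ha, b, hb, c, hc, d, hd, rfl⟩
    exact ⟨-a, F₀.neg_mem ha, -b, F₀.neg_mem hb, -c, F₀.neg_mem hc, -d, F₀.neg_mem hd, by module⟩

theorem mem_Qs {F₀ : Subfield k} {i j : A} {hi : i * i = -1} {hj : j * j = -1} {hij : j * i = -(i * j)} {T : A} :
    T ∈ Qs F₀ hi hj hij ↔ ∃ a ∈ F₀, ∃ b ∈ F₀, ∃ c ∈ F₀, ∃ d ∈ F₀, T = a • 1 + b • i + c • j + d • (i * j) := Iff.rfl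

end Alg

section Tr

variable {k V : Type*} [Field k] [AddCommGroup V] [Module k V] [FiniteDimensional k V]

theorem trace_zero_of_anti (h2 : (2 : k) ≠ 0) {x y : Module.End k V} (hy : y * y = -1) (h : y * x = -(x * y)) :
    LinearMap.trace k V x = 0 := by
  have h1 : y * x * y = x := by rw [h, neg_mul, mul_assoc, hy, mul_neg_one, neg_neg]
  have h3 : LinearMap.trace k V x = -LinearMap.trace k V x := by
    nth_rewrite 1 [← h1]
    rw [mul_assoc, LinearMap.trace_mul_comm, mul_assoc, hy, mul_neg_one, map_neg]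
  have h4 : 2 * LinearMap.trace k V x = 0 := by linear_combination h3
  exact (mul_eq_zero.1 h4).resolve_left h2

theorem trace_mem (h2 : (2 : k) ≠ 0) {F₀ : Subfield k} {i j : Module.End k V} {hi : i * i = -1} {hj : j * j = -1}
    {hij : j * i = -(i * j)} {T : Module.End k V} (hT : T ∈ Qs F₀ hi hj hij) : LinearMap.trace k V T ∈ F₀ := by
  obtain ⟨a, ha, b, hb, c, hc, d, hd, rfl⟩ := mem_Qs.1 hT
  have e1 : i * (i * j) = -j := by rw [← mul_assoc, hi, neg_one_mul]
  have e3 : i * j * i = j := by rw [mul_assoc, hij, mul_neg, e1, neg_neg]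
  have ti : LinearMap.trace k V i = 0 := trace_zero_of_anti h2 hj hij
  have tj : LinearMap.trace k V j = 0 := trace_zero_of_anti h2 hi (by rw [hij, neg_neg])
  have tk : LinearMap.trace k V (i * j) = 0 := trace_zero_of_anti h2 hi (by rw [e1, e3])
  rw [map_add, map_add, map_add, map_smul, map_smul, map_smul, map_smul, ti, tj, tk, smul_zero, smul_zero,
    smul_zero, add_zero, add_zero, add_zero, LinearMap.trace_one, smul_eq_mul]
  exact F₀.mul_mem ha (natCast_mem F₀ _)

end Tr

section Block

variable {k U : Type*} [Field k] [AddCommGroup U] [Module k U] [FiniteDimensional k U] {n : Type*} [Fintype n]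
  [DecidableEq n]

/-- **the trace of a block matrix** -/
theorem block_trace (f : Module.End k (n → U)) : LinearMap.trace k (n → U) f =
    ∑ a, LinearMap.trace k U (endVecRingEquivMatrixEnd n k U f a a) := by
  let b := Module.finBasis k U
  rw [LinearMap.trace_eq_matrix_trace k (Pi.basis fun _ : n => b)]
  rw [Matrix.trace, Fintype.sum_sigma]
  refine Finset.sum_congr rfl fun a _ => ?_
  rw [LinearMap.trace_eq_matrix_trace k b, Matrix.trace]
  refine Finset.sum_congr rfl fun c _ => ?_
  rw [Matrix.diag, Matrix.diag, LinearMap.toMatrix_apply, LinearMap.toMatrix_apply, Pi.basis_apply, Pi.basis_repr]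
  rfl

end Block

end Cfsg.Agent.H905.JD
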