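import Mathlib

/-!
# Eigenspaces of an operator swapped by another one (helper905)

* `Ep S r μ` : the `μ`-eigenvectors of `r` in `S`;
* `finrank_split`, `finrank_swap` : `finrank S = 2 finrank (Ep S r μ)` if `r² = μ²` on `S` and `y` anticommutes with `r`.
* `quat` : identities in an algebra.
-/

set_option autoImplicit false

namespace Cfsg.Agent.H905.JD

open Module

section Split

variable {k V : Type*} [Field k] [AddCommGroup V] [Module k V]

/-- the eigenvectors in a subspace -/
def Ep (S : Submodule k V) (r : Module.End k V) (μ : k) : Submodule k V where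
  carrier := {v | v ∈ S ∧ r v = μ • v}
  zero_mem' := ⟨S.zero_mem, by rw [map_zero, smul_zero]⟩
  add_mem' := fun {a b} ha hb => ⟨S.add_mem ha.1 hb.1, by rw [map_add, ha.2, hb.2, smul_add]⟩
  smul_mem' := fun c a ha => ⟨S.smul_mem c ha.1, by rw [map_smul, ha.2, smul_comm]⟩

theorem mem_Ep {S : Submodule k V} {r : Module.End k V} {μ : k} {v : V} :
    v ∈ Ep S r μ ↔ v ∈ S ∧ r v = μ • v := Iff.rfl

variable [FiniteDimensional k V]

theorem finrank_split (h2 : (2 : k) ≠ 0) {S : Submodule k V} {r : Module.End k V} {μ : k} (hμ : μ ≠ 0)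
    (hS : ∀ v ∈ S, r v ∈ S) (hr : ∀ v ∈ S, r (r v) = (μ * μ) • v) :
    finrank k S = finrank k (Ep S r μ) + finrank k (Ep S r (-μ)) := by
  have h1 := Submodule.finrank_sup_add_finrank_inf_eq (Ep S r μ) (Ep S r (-μ))
  have hinf : Ep S r μ ⊓ Ep S r (-μ) = ⊥ := by
    rw [eq_bot_iff]
    rintro v ⟨⟨_, h3⟩, _, h4⟩
    rw [h3, neg_smul] at h4
    have h5 : (2 * μ) • v = 0 := by
      rw [mul_smul, two_smul]
      nth_rewrite 1 [h4]
      rw [neg_add_cancel]
    exact (smul_eq_zero.1 h5).resolve_left (mul_ne_zero h2 hμ)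
  have hsup : Ep S r μ ⊔ Ep S r (-μ) = S := by
    apply le_antisymm
    · exact sup_le (fun v hv => hv.1) (fun v hv => hv.1)
    · intro v hv
      have e1 : v = (2 : k)⁻¹ • (v + μ⁻¹ • r v) + (2 : k)⁻¹ • (v - μ⁻¹ • r v) := by
        rw [← smul_add, add_add_sub_cancel, ← two_smul k v, smul_smul, inv_mul_cancel₀ h2, one_smul]
      rw [e1]
      refine Submodule.add_mem_sup ⟨S.smul_mem _ (S.add_mem hv (S.smul_mem _ (hS v hv))), ?_⟩
        ⟨S.smul_mem _ (S.sub_mem hv (S.smul_mem _ (hS v hv))), ?_⟩
      · rw [map_smul, map_add, map_smul, hr v hv]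
        match_scalars <;> field_simp
      · rw [map_smul, map_sub, map_smul, hr v hv]
        match_scalars <;> field_simp
  rw [hinf, finrank_bot, add_zero, hsup] at h1
  exact h1

theorem finrank_le_of_inj {A B : Submodule k V} {y : Module.End k V} (hy : ∀ v ∈ A, y v ∈ B)
    (hinj : ∀ v, y v = 0 → v = 0) : finrank k A ≤ finrank k B := by
  let f : A →ₗ[k] B := y.restrict hy
  refine LinearMap.finrank_le_finrank_of_injective (f := f) ?_
  rw [injective_iff_map_eq_zero]
  intro a ha
  exact Subtype.ext (hinj a.1 (congrArg Subtype.val ha))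

theorem finrank_swap (h2 : (2 : k) ≠ 0) {S : Submodule k V} {r y : Module.End k V} {μ : k} (hμ : μ ≠ 0)
    (hS : ∀ v ∈ S, r v ∈ S) (hr : ∀ v ∈ S, r (r v) = (μ * μ) • v) (hy : ∀ v ∈ S, y v ∈ S)
    (hinj : ∀ v, y v = 0 → v = 0) (hanti : ∀ v ∈ S, r (y v) = -y (r v)) :
    finrank k S = 2 * finrank k (Ep S r μ) := by
  have h1 : finrank k (Ep S r μ) ≤ finrank k (Ep S r (-μ)) := finrank_le_of_inj (y := y) (fun v hv =>
    ⟨hy v hv.1, by rw [hanti v hv.1, hv.2, map_smul, neg_smul]⟩) hinj
  have h3 : finrank k (Ep S r (-μ)) ≤ finrank k (Ep S r μ) := finrank_le_of_inj (y := y) (fun v hv =>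
    ⟨hy v hv.1, by rw [hanti v hv.1, hv.2, map_smul, neg_smul, neg_neg]⟩) hinj
  rw [finrank_split h2 hμ hS hr]
  omega

end Split

section Alg

variable {k A : Type*} [Field k] [Ring A] [Algebra k A]

/-- `c = -(1 + i + j + ij)/2` and `c s c = s` : `s` anticommutes with `i + j + ij` -/
theorem anti_of_csc (h2 : (2 : k) ≠ 0) {i j s c : A} (hi : i * i = -1) (hj : j * j = -1) (hij : j * i = -(i * j))
    (hc : (2 : k) • c = -(1 + i + j + i * j)) (hs : c * s * c = s) :
    s * (i + j + i * j) = -((i + j + i * j) * s) := by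
  set u := i + j + i * j with hu
  have huu : u * u = -3 := by
    have e1 : i * (i * j) = -j := by rw [← mul_assoc, hi, neg_one_mul]
    have e2 : j * (i * j) = i := by rw [← mul_assoc, hij, neg_mul, mul_assoc, hj, mul_neg_one, neg_neg]
    have e3 : i * j * i = j := by rw [mul_assoc, hij, mul_neg, e1, neg_neg]
    have e4 : i * j * j = -i := by rw [mul_assoc, hj, mul_neg_one]
    have e5 : i * j * (i * j) = -1 := by rw [← mul_assoc, e3, hj]
    rw [hu]
    simp only [mul_add, add_mul, hi, hj, hij, e1, e2, e3, e4, e5]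
    have e6 : (-3 : A) = -1 + -1 + -1 := by norm_num
    rw [e6]
    abel
  have h4 : (4 : k) ≠ 0 := by
    have : (4 : k) = 2 * 2 := by norm_num
    rw [this]; exact mul_ne_zero h2 h2
  have hc' : (2 : k) • c = -(1 + u) := by rw [hc, hu]; abel
  -- `(1 + u) s (1 + u) = 4 s`
  have e1 : (1 + u) * s * (1 + u) = (4 : k) • s := by
    have : (1 + u) * s * (1 + u) = ((2 : k) • c) * s * ((2 : k) • c) := by rw [hc']; noncomm_ring
    rw [this, smul_mul_assoc, smul_mul_assoc, mul_smul_comm, hs, smul_smul]
    norm_num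
  -- multiply by `1 - u` on the left : `(1 - u)(1 + u) = 4`
  have e2 : (1 - u) * (1 + u) = 4 := by
    have : (1 - u) * (1 + u) = 1 - u * u := by noncomm_ring
    rw [this, huu]; norm_num
  have e3 : (4 : A) * (s * (1 + u)) = (4 : k) • ((1 - u) * s) := by
    have := congrArg (fun x => (1 - u) * x) e1
    simp only [mul_smul_comm] at this
    rw [← this, ← e2]
    noncomm_ring
  have e4 : (4 : k) • (s * (1 + u)) = (4 : k) • ((1 - u) * s) := by
    rw [← e3, Algebra.smul_def, map_ofNat]
  have e5 : s * (1 + u) = (1 - u) * s := by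
    have := congrArg (fun x => (4 : k)⁻¹ • x) e4
    simpa only [smul_smul, inv_mul_cancel₀ h4, one_smul] using this
  have e6 : s * u = s * (1 + u) - s := by noncomm_ring
  rw [e6, e5]
  noncomm_ring

/-- `(s i)² + s i + 1 = 0` from a conjugate of `c` -/
theorem trace_of_conj (h2 : (2 : k) ≠ 0) {i j s c y : A} (hi : i * i = -1) (hj : j * j = -1) (hij : j * i = -(i * j))
    (hs : s * s = -1) (hc : (2 : k) • c = -(1 + i + j + i * j)) (hy : y * c = s * i * y) {y' : A} (hyy : y * y' = 1) :
    s * i + i * s = -1 := by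
  set u := i + j + i * j with hu
  have huu : u * u = -3 := by
    have e1 : i * (i * j) = -j := by rw [← mul_assoc, hi, neg_one_mul]
    have e2 : j * (i * j) = i := by rw [← mul_assoc, hij, neg_mul, mul_assoc, hj, mul_neg_one, neg_neg]
    have e3 : i * j * i = j := by rw [mul_assoc, hij, mul_neg, e1, neg_neg]
    have e4 : i * j * j = -i := by rw [mul_assoc, hj, mul_neg_one]
    have e5 : i * j * (i * j) = -1 := by rw [← mul_assoc, e3, hj]
    rw [hu]
    simp only [mul_add, add_mul, hi, hj, hij, e1, e2, e3, e4, e5]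
    have e6 : (-3 : A) = -1 + -1 + -1 := by norm_num
    rw [e6]
    abel
  have h4 : (4 : k) ≠ 0 := by
    have : (4 : k) = 2 * 2 := by norm_num
    rw [this]; exact mul_ne_zero h2 h2
  have hc' : (2 : k) • c = -(1 + u) := by rw [hc, hu]; abel
  have e1 : c * c + c + 1 = 0 := by
    have e2 : (4 : k) • (c * c + c + 1) = 0 := by
      have : (4 : k) • (c * c + c + 1) = ((2 : k) • c) * ((2 : k) • c) + (2 : k) • ((2 : k) • c) + (4 : k) • (1 : A) := by
        rw [smul_mul_assoc, mul_smul_comm, smul_smul, smul_smul, smul_add, smul_add]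
        norm_num
      rw [this, hc', Algebra.smul_def, Algebra.smul_def, map_ofNat, map_ofNat]
      have : -(1 + u) * -(1 + u) + 2 * -(1 + u) + 4 * 1 = u * u + 3 := by
        have e2 : (2 : A) = 1 + 1 := by norm_num
        have e3 : (3 : A) = 1 + 1 + 1 := by norm_num
        have e4 : (4 : A) = 1 + 1 + 1 + 1 := by norm_num
        rw [e2, e3, e4, neg_mul_neg]
        simp only [add_mul, mul_add, one_mul, mul_one]
        abel
      rw [this, huu]; norm_num
    have := congrArg (fun x => (4 : k)⁻¹ • x) e2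
    simpa only [smul_smul, inv_mul_cancel₀ h4, one_smul, smul_zero] using this
  -- transport
  have e3 : (s * i) * (s * i) + s * i + 1 = 0 := by
    have e4 : y * (c * c + c + 1) = ((s * i) * (s * i) + s * i + 1) * y := by
      have : y * (c * c) = (s * i) * (s * i) * y := by
        rw [← mul_assoc, hy, mul_assoc, hy]; noncomm_ring
      rw [mul_add, mul_add, this, hy, add_mul, add_mul, mul_one, one_mul]
    rw [e1, mul_zero] at e4
    have := congrArg (fun x => x * y') e4
    simp only [zero_mul] at this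
    rw [mul_assoc, hyy, mul_one] at this
    exact this.symm
  -- multiply by `(s i)⁻¹ = i s`
  have e5 : (s * i) * (i * s) = 1 := by
    have : (s * i) * (i * s) = s * (i * i) * s := by noncomm_ring
    rw [this, hi, mul_neg_one, neg_mul, hs, neg_neg]
  have e6 := congrArg (fun x => x * (i * s)) e3
  simp only [zero_mul, add_mul, one_mul] at e6
  have e7 : s * i * (s * i) * (i * s) = s * i := by
    rw [mul_assoc, e5, mul_one]
  rw [e7, e5] at e6
  rw [eq_neg_iff_add_eq_zero, ← e6]
  abel

/-- `c` in terms of the quaternion units -/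
theorem two_c (h2 : (2 : k) ≠ 0) {I J b c G : A} (hI : I * I = -1) (hJ : J * J = -1) (hJI : J * I = -(I * J))
    (hbI : b * I = I * b) (hbJ : b * J = J * b) (hbb : b * b = -1) (hG : (2 : k) • G = -((1 + b) * (J + J * I)))
    (hcI : c * I = J * c) (hcJ : c * J = I * J * c) (hcb : c * b = b * c) (hcG : c * G * c = G)
    (hccc : c * c * c = 1) : (2 : k) • c = -(1 + I + J + I * J) := by
  have e1 : c * (J + J * I) = (I * J - I) * c := by
    have : c * (J + J * I) = c * J + c * J * I := by noncomm_ring
    rw [this, hcJ, mul_assoc (I * J) c I, hcI, ← mul_assoc (I * J) J c, mul_assoc I J J, hJ]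
    noncomm_ring
  have e2 : (1 + b) * (J + J * I) = (1 + b) * (I * J - I) * (c * c) := by
    have h3 : (2 : k) • G = c * ((2 : k) • G) * c := by rw [mul_smul_comm, smul_mul_assoc, hcG]
    rw [hG] at h3
    have h4 : c * -((1 + b) * (J + J * I)) * c = -((1 + b) * (I * J - I) * (c * c)) := by
      have : c * -((1 + b) * (J + J * I)) * c = -((c + c * b) * (J + J * I) * c) := by noncomm_ring
      rw [this, hcb]
      have : (c + b * c) * (J + J * I) * c = (1 + b) * (c * (J + J * I)) * c := by noncomm_ring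
      rw [this, e1]
      noncomm_ring
    rw [h4] at h3
    exact neg_injective h3
  have e3 : (1 + b) * (J + J * I) * c = (1 + b) * (I * J - I) := by
    rw [e2]
    have : (1 + b) * (I * J - I) * (c * c) * c = (1 + b) * (I * J - I) * (c * c * c) := by noncomm_ring
    rw [this, hccc, mul_one]
  -- multiply by `(1 - I)(-J)` on the left
  have e4 : (1 - I) * -J * (1 + b) = (1 + b) * ((1 - I) * -J) := by
    have : (1 - I) * -J * (1 + b) = -J + I * J - J * b + I * (J * b) := by noncomm_ring
    rw [this, ← hbJ, ← mul_assoc I b J, ← hbI]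
    noncomm_ring
  have e5 : (1 - I) * -J * (J + J * I) = 1 + 1 := by
    have : (1 - I) * -J * (J + J * I) = -(J * J) - J * J * I + I * (J * J) + I * (J * J) * I := by noncomm_ring
    rw [this, hJ]
    have : -(-1 : A) - -1 * I + I * -1 + I * -1 * I = 1 - I * I := by noncomm_ring
    rw [this, hI]
    noncomm_ring
  have e6 : (1 - I) * -J * (I * J - I) = -(1 + I + J + I * J) := by
    have h7 : J * I * J = I := by rw [hJI, neg_mul, mul_assoc, hJ, mul_neg_one, neg_neg]
    have : (1 - I) * -J * (I * J - I) = -(J * I * J) + J * I + I * (J * I * J) - I * (J * I) := by noncomm_ring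
    rw [this, h7, hJI, mul_neg, ← mul_assoc, hI]
    noncomm_ring
  have e7 : (1 + b) * (c + c) = (1 + b) * -(1 + I + J + I * J) := by
    have h8 := congrArg (fun x => (1 - I) * -J * x) e3
    have h9 : (1 - I) * -J * ((1 + b) * (J + J * I) * c) = (1 + b) * (c + c) := by
      have : (1 - I) * -J * ((1 + b) * (J + J * I) * c) = (1 - I) * -J * (1 + b) * ((J + J * I) * c) := by
        noncomm_ring
      rw [this, e4]
      have : (1 + b) * ((1 - I) * -J) * ((J + J * I) * c) = (1 + b) * ((1 - I) * -J * (J + J * I)) * c := by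
        noncomm_ring
      rw [this, e5]
      noncomm_ring
    have h10 : (1 - I) * -J * ((1 + b) * (I * J - I)) = (1 + b) * -(1 + I + J + I * J) := by
      rw [← mul_assoc, e4, mul_assoc, e6]
    rw [h9, h10] at h8
    exact h8
  have e8 : (1 - b) * (1 + b) = 1 + 1 := by
    have : (1 - b) * (1 + b) = 1 - b * b := by noncomm_ring
    rw [this, hbb]; noncomm_ring
  have e9 := congrArg (fun x => (1 - b) * x) e7
  simp only [← mul_assoc, e8] at e9
  have e10 : (2 : k) • (c + c) = (2 : k) • -(1 + I + J + I * J) := by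
    rw [two_smul, two_smul]
    rw [add_mul, one_mul, add_mul, one_mul] at e9
    exact e9
  have e11 := congrArg (fun x => (2 : k)⁻¹ • x) e10
  simp only [smul_smul, inv_mul_cancel₀ h2, one_smul] at e11
  rw [two_smul, e11]

/-- `a = s j + j s` is central -/
theorem comm_of_trace {i j s : A} (hi : i * i = -1) (hj : j * j = -1) (hij : j * i = -(i * j))
    (ha : s * (i + j + i * j) = -((i + j + i * j) * s)) (ht : s * i + i * s = -1) :
    (s * j + j * s) * j = j * (s * j + j * s) ∧ (s * j + j * s) * i = i * (s * j + j * s) := by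
  have e1 : (s * j + j * s) * j = j * (s * j + j * s) := by
    have h1 : (s * j + j * s) * j = s * (j * j) + j * s * j := by noncomm_ring
    have h2 : j * (s * j + j * s) = j * s * j + (j * j) * s := by noncomm_ring
    rw [h1, h2, hj]
    noncomm_ring
  have hk : (i * j) * (i * j) = -1 := by
    have : (i * j) * (i * j) = i * (j * i) * j := by noncomm_ring
    rw [this, hij]
    have : i * -(i * j) * j = -(i * i * (j * j)) := by noncomm_ring
    rw [this, hi, hj]; noncomm_ring
  have e2 : s * j + j * s = 1 - (s * (i * j) + (i * j) * s) := by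
    have h1 : s * (i + j + i * j) + (i + j + i * j) * s = 0 := by rw [ha, neg_add_cancel]
    have h2 : s * (i + j + i * j) + (i + j + i * j) * s = (s * i + i * s) + (s * j + j * s) +
      (s * (i * j) + (i * j) * s) := by noncomm_ring
    rw [h2, ht] at h1
    rw [eq_sub_iff_add_eq, ← sub_eq_zero, ← h1]
    abel
  have e3 : (s * j + j * s) * (i * j) = (i * j) * (s * j + j * s) := by
    rw [e2]
    have h1 : (1 - (s * (i * j) + (i * j) * s)) * (i * j) = i * j - s * ((i * j) * (i * j)) - (i * j) * s * (i * j) := by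
      noncomm_ring
    have h2 : (i * j) * (1 - (s * (i * j) + (i * j) * s)) = i * j - (i * j) * s * (i * j) - ((i * j) * (i * j)) * s := by
      noncomm_ring
    rw [h1, h2, hk]
    noncomm_ring
  refine ⟨e1, ?_⟩
  have e4 : i = -(i * j * j) := by rw [mul_assoc, hj, mul_neg_one, neg_neg]
  have e5 : (s * j + j * s) * (i * j * j) = (i * j * j) * (s * j + j * s) := by
    rw [← mul_assoc, e3, mul_assoc, e1, ← mul_assoc]
  calc (s * j + j * s) * i = -((s * j + j * s) * (i * j * j)) := by rw [← mul_neg, ← e4]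
    _ = -((i * j * j) * (s * j + j * s)) := by rw [e5]
    _ = i * (s * j + j * s) := by rw [← neg_mul, ← e4]

end Alg

end Cfsg.Agent.H905.JD
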