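import Cfsg.Agent.H905.JDWords
import Cfsg.Agent.H905.JDSplit

/-!
# The Hall-Janko group in dimension twelve: the weights of a frame (helper905)

`Wt ρ δ₁ δ₂` : the vectors with `r1 = δ₁`, `r2 = δ₂`. `dim_formula`; `triv_zero` (`ρ(-1) = 1`) and `neg_zero`
(`ρ(-1) = -1`): `dim V = 12` gives `Wt ε ε = 0` or `⊤`.
-/

set_option autoImplicit false
set_option linter.unusedSectionVars false

namespace Cfsg.Agent.H905.JD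

open Subgroup Cfsg.Spor Cfsg.Agent.J2.ZTau Cfsg.Agent.J2.Ico Cfsg.Agent.J2.Lattice Cfsg.Agent.J2.Refl
  Cfsg.Agent.J2.Group Cfsg.Agent.J2.Stab Cfsg.Agent.J2.SixGens Cfsg.Agent.H1.J2Lift
open Module

variable {k V : Type*} [Field k] [AddCommGroup V] [Module k V] (ρ : W →* Module.End k V)

theorem ap {a b : W} (e : a = b) (v : V) : ρ a v = ρ b v := by rw [e]

theorem ap2 (a b : W) (v : V) : ρ (a * b) v = ρ a (ρ b v) := by rw [map_mul]; rfl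

theorem ap22 {a b c d : W} (e : a * b = c * d) (v : V) : ρ a (ρ b v) = ρ c (ρ d v) := by
  rw [← ap2, e, ap2]

theorem ap21 {a b c : W} (e : a * b = c) (v : V) : ρ a (ρ b v) = ρ c v := by rw [← ap2, e]

theorem ap20 {a b : W} (e : a * b = 1) (v : V) : ρ a (ρ b v) = v := by rw [← ap2, e, map_one]; rfl

theorem inv_l (a : W) (v : V) : ρ a⁻¹ (ρ a v) = v := ap20 ρ (inv_mul_cancel a) v
theorem inv_r (a : W) (v : V) : ρ a (ρ a⁻¹ v) = v := ap20 ρ (mul_inv_cancel a) v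

theorem inj (a : W) {v : V} (h : ρ a v = 0) : v = 0 := by
  rw [← inv_l ρ a v, h, map_zero]

theorem inj_iff (a : W) {u v : V} : ρ a u = ρ a v ↔ u = v :=
  ⟨fun h => by rw [← inv_l ρ a u, h, inv_l], fun h => by rw [h]⟩

/-- the weight spaces -/
noncomputable def Wt (δ₁ δ₂ : k) : Submodule k V := Ep (Ep ⊤ (ρ r1) δ₁) (ρ r2) δ₂

variable {ρ}

theorem mem_Wt {δ₁ δ₂ : k} {v : V} : v ∈ Wt ρ δ₁ δ₂ ↔ ρ r1 v = δ₁ • v ∧ ρ r2 v = δ₂ • v :=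
  ⟨fun h => ⟨h.1.2, h.2⟩, fun h => ⟨⟨trivial, h.1⟩, h.2⟩⟩

theorem q_12_3 : r1 * r2 = ng * r3 := by
  have h := congrArg (fun w => w * r3) q_123
  rwa [mul_assoc (r1 * r2), q_33, mul_one] at h

section dims

variable {ε : k} (hε : ∀ v, ρ ng v = ε • v) (h1 : ε * ε = 1)
include hε h1

theorem r3_of {δ₁ δ₂ : k} {v : V} (hv : v ∈ Wt ρ δ₁ δ₂) : ρ r3 v = (ε * δ₁ * δ₂) • v := by
  obtain ⟨h2, h3⟩ := mem_Wt.1 hv
  have h4 := ap22 ρ q_12_3 v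
  rw [h3, map_smul, h2, hε, smul_smul] at h4
  have h5 := congrArg (fun x => ε • x) h4
  simp only [smul_smul, h1, one_smul] at h5
  rw [← h5]
  congr 1
  ring

theorem nn_wt {δ₁ δ₂ : k} {v : V} (hv : v ∈ Wt ρ δ₁ δ₂) : ρ nn v ∈ Wt ρ (ε * δ₁ * δ₂) δ₁ := by
  obtain ⟨h2, h3⟩ := mem_Wt.1 hv
  refine mem_Wt.2 ⟨?_, ?_⟩
  · rw [← ap22 ρ q_n3, r3_of hε h1 hv, map_smul]
  · rw [← ap22 ρ q_n1, h2, map_smul]

variable [FiniteDimensional k V] (h2 : (2 : k) ≠ 0)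
include h2

theorem dim_formula : finrank k V = finrank k (Wt ρ ε ε) + 3 * finrank k (Wt ρ ε (-ε)) := by
  have hε0 : ε ≠ 0 := by rintro rfl; rw [mul_zero] at h1; exact one_ne_zero h1.symm
  have hsq : ∀ w : W, w * w = 1 → ∀ v : V, ρ w (ρ w v) = (ε * ε) • v := fun w hw v => by
    rw [ap20 ρ hw, h1, one_smul]
  have e0 := finrank_split (r := ρ r1) (S := (⊤ : Submodule k V)) (μ := ε) h2 hε0 (fun _ _ => trivial)
    (fun v _ => hsq r1 q_11 v)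
  have hs : ∀ δ : k, finrank k (Ep ⊤ (ρ r1) δ) = finrank k (Wt ρ δ ε) + finrank k (Wt ρ δ (-ε)) := fun δ =>
    finrank_split (r := ρ r2) (μ := ε) h2 hε0 (fun v hv => ⟨trivial, by
      rw [ap22 ρ q_12, hv.2, map_smul]⟩) (fun v _ => hsq r2 q_22 v)
  have hn : ∀ δ₁ δ₂ : k, finrank k (Wt ρ δ₁ δ₂) ≤ finrank k (Wt ρ (ε * δ₁ * δ₂) δ₁) := fun δ₁ δ₂ =>
    finrank_le_of_inj (y := ρ nn) (fun v hv => nn_wt hε h1 hv) (fun v hv => inj ρ nn hv)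
  have a1 := hn ε (-ε)
  have a2 := hn (-ε) ε
  have a3 := hn (-ε) (-ε)
  have b1 : ε * ε * -ε = -ε := by linear_combination -ε * h1
  have b2 : ε * -ε * ε = -ε := by linear_combination -ε * h1
  have b3 : ε * -ε * -ε = ε := by linear_combination ε * h1
  rw [b1] at a1
  rw [b2] at a2
  rw [b3] at a3
  rw [finrank_top, hs ε, hs (-ε)] at e0
  omega

end dims

section four

variable [FiniteDimensional k V] (h2 : (2 : k) ≠ 0)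

theorem anti_of {a b : W} {z : W} (e : a * b = z * b * a) {v : V} (hz : ρ z (ρ b (ρ a v)) = -ρ b (ρ a v)) :
    ρ a (ρ b v) = -ρ b (ρ a v) := by
  rw [← ap2, e, ap2, ap2, hz]

theorem stab_wt {w : W} (e1 : w * r1 = r1 * w) (e2 : w * r2 = r2 * w) {δ₁ δ₂ : k} {v : V} (hv : v ∈ Wt ρ δ₁ δ₂) :
    ρ w v ∈ Wt ρ δ₁ δ₂ := by
  obtain ⟨h3, h4⟩ := mem_Wt.1 hv
  refine mem_Wt.2 ⟨?_, ?_⟩
  · rw [← ap22 ρ e1, h3, map_smul]
  · rw [← ap22 ρ e2, h4, map_smul]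

include h2

/-- two pairs of anticommuting operators -/
theorem four_dvd {S : Submodule k V} {x₁ y₁ x₂ y₂ : W} (hx₁ : ∀ v ∈ S, ρ x₁ v ∈ S) (hy₁ : ∀ v ∈ S, ρ y₁ v ∈ S)
    (hx₂ : ∀ v ∈ S, ρ x₂ v ∈ S) (hy₂ : ∀ v ∈ S, ρ y₂ v ∈ S) (hs₁ : ∀ v ∈ S, ρ x₁ (ρ x₁ v) = v)
    (hs₂ : ∀ v ∈ S, ρ x₂ (ρ x₂ v) = v) (ha₁ : ∀ v ∈ S, ρ x₁ (ρ y₁ v) = -ρ y₁ (ρ x₁ v))
    (ha₂ : ∀ v ∈ S, ρ x₂ (ρ y₂ v) = -ρ y₂ (ρ x₂ v)) (hc₁ : ∀ v ∈ S, ρ x₁ (ρ x₂ v) = ρ x₂ (ρ x₁ v))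
    (hc₂ : ∀ v ∈ S, ρ x₁ (ρ y₂ v) = ρ y₂ (ρ x₁ v)) : ∃ d, finrank k S = 4 * d := by
  have e1 := finrank_swap (r := ρ x₁) (y := ρ y₁) (S := S) (μ := 1) h2 one_ne_zero hx₁
    (fun v hv => by rw [hs₁ v hv, mul_one, one_smul]) hy₁ (fun v hv => inj ρ _ hv) ha₁
  have e2 := finrank_swap (r := ρ x₂) (y := ρ y₂) (S := Ep S (ρ x₁) 1) (μ := 1) h2 one_ne_zero
    (fun v hv => ⟨hx₂ v hv.1, by rw [hc₁ v hv.1, hv.2, map_smul]⟩)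
    (fun v hv => by rw [hs₂ v hv.1, mul_one, one_smul])
    (fun v hv => ⟨hy₂ v hv.1, by rw [hc₂ v hv.1, hv.2, map_smul]⟩) (fun v hv => inj ρ _ hv) (fun v hv => ha₂ v hv.1)
  exact ⟨_, by rw [e1, e2]; ring⟩

/-- the case `ρ(-1) = 1` -/
theorem triv_dim (hng : ∀ v, ρ ng v = v) (hdim : finrank k V = 12) :
    Wt ρ (1 : k) 1 = ⊥ ∨ Wt ρ (1 : k) 1 = ⊤ := by
  have hε : ∀ v, ρ ng v = (1 : k) • v := fun v => by rw [hng, one_smul]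
  have h3 : ∀ {v : V}, v ∈ Wt ρ (1 : k) (-1) → ρ r3 v = -v := fun {v} hv => by
    rw [r3_of hε (one_mul 1) hv, one_mul, one_mul, neg_one_smul]
  have hr2 : ∀ {v : V}, v ∈ Wt ρ (1 : k) (-1) → ρ r2 v = -v := fun {v} hv => by
    rw [(mem_Wt.1 hv).2, neg_one_smul]
  have hr1 : ∀ {v : V}, v ∈ Wt ρ (1 : k) (-1) → ρ r1 v = v := fun {v} hv => by
    rw [(mem_Wt.1 hv).1, one_smul]
  have sI : ∀ v ∈ Wt ρ (1 : k) (-1), ρ Ii v ∈ Wt ρ (1 : k) (-1) := fun v hv => stab_wt q_I1 q_I2 hv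
  have sJ : ∀ v ∈ Wt ρ (1 : k) (-1), ρ Jj v ∈ Wt ρ (1 : k) (-1) := fun v hv => stab_wt q_J1 q_J2 hv
  have sj : ∀ v ∈ Wt ρ (1 : k) (-1), ρ J2' v ∈ Wt ρ (1 : k) (-1) := fun v hv => stab_wt q_j1 q_j2 hv
  have k1 : I3 * r1 = r1 * I3 := by
    rw [q_k, mul_assoc (Ii * I2), ← q_13, ← mul_assoc (Ii * I2), mul_assoc Ii I2 r1, q_i1, ← mul_assoc, q_I1]
    group
  have k2 : I3 * r2 = r2 * I3 := by
    rw [q_k, mul_assoc (Ii * I2), ← q_23, ← mul_assoc (Ii * I2), mul_assoc Ii I2 r2, q_i2, ← mul_assoc, q_I2]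
    group
  have sk : ∀ v ∈ Wt ρ (1 : k) (-1), ρ I3 v ∈ Wt ρ (1 : k) (-1) := fun v hv => stab_wt k1 k2 hv
  obtain ⟨d, hd⟩ := four_dvd (ρ := ρ) h2 (S := Wt ρ (1 : k) (-1)) (x₁ := Ii) (y₁ := J2') (x₂ := Jj) (y₂ := I3)
    sI sj sJ sk
    (fun v hv => by rw [ap22 ρ q_II, h3 hv, map_neg, hr2 hv, neg_neg])
    (fun v hv => by rw [ap22 ρ q_JJ, h3 hv, map_neg, hr2 hv, neg_neg])
    (fun v hv => anti_of q_Ij (h3 (sj _ (sI _ hv))))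
    (fun v hv => anti_of q_Jk (hr2 (sk _ (sJ _ hv))))
    (fun v hv => by
      rw [← ap2, q_IJ, ap2, ap2, ap2, h3 (sJ _ (sI _ hv)), map_neg, hr2 (sJ _ (sI _ hv)), neg_neg])
    (fun v hv => by rw [ap22 ρ q_Ik])
  have h4 := dim_formula hε (one_mul 1) h2
  rw [hd, hdim] at h4
  have h5 : finrank k (Wt ρ (1 : k) 1) = 0 ∨ finrank k (Wt ρ (1 : k) 1) = 12 := by omega
  rcases h5 with h5 | h5
  · exact Or.inl (Submodule.finrank_eq_zero.1 h5)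
  · exact Or.inr (Submodule.eq_top_of_finrank_eq (by rw [h5, hdim]))

/-- the case `ρ(-1) = -1` -/
theorem neg_dim (hng : ∀ v, ρ ng v = -v) (hdim : finrank k V = 12) {ι : k} (hι : ι * ι = -1) :
    Wt ρ (-1 : k) (-1) = ⊥ ∨ Wt ρ (-1 : k) (-1) = ⊤ := by
  have hε : ∀ v, ρ ng v = (-1 : k) • v := fun v => by rw [hng, neg_one_smul]
  have hε1 : (-1 : k) * -1 = 1 := by norm_num
  have hι0 : ι ≠ 0 := by rintro rfl; rw [mul_zero] at hι; exact one_ne_zero (neg_eq_zero.1 hι.symm)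
  have h3 : ∀ {v : V}, v ∈ Wt ρ (-1 : k) (-1) → ρ r3 v = -v := fun {v} hv => by
    rw [r3_of hε hε1 hv, hε1, one_mul, neg_one_smul]
  have hr2 : ∀ {v : V}, v ∈ Wt ρ (-1 : k) (-1) → ρ r2 v = -v := fun {v} hv => by
    rw [(mem_Wt.1 hv).2, neg_one_smul]
  have hr1 : ∀ {v : V}, v ∈ Wt ρ (-1 : k) (-1) → ρ r1 v = -v := fun {v} hv => by
    rw [(mem_Wt.1 hv).1, neg_one_smul]
  have sI : ∀ v ∈ Wt ρ (-1 : k) (-1), ρ Ii v ∈ Wt ρ (-1 : k) (-1) := fun v hv => stab_wt q_I1 q_I2 hv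
  have sJ : ∀ v ∈ Wt ρ (-1 : k) (-1), ρ Jj v ∈ Wt ρ (-1 : k) (-1) := fun v hv => stab_wt q_J1 q_J2 hv
  have si : ∀ v ∈ Wt ρ (-1 : k) (-1), ρ I2 v ∈ Wt ρ (-1 : k) (-1) := fun v hv => stab_wt q_i1 q_i2 hv
  have sj : ∀ v ∈ Wt ρ (-1 : k) (-1), ρ J2' v ∈ Wt ρ (-1 : k) (-1) := fun v hv => stab_wt q_j1 q_j2 hv
  obtain ⟨d, hd⟩ := four_dvd (ρ := ρ) h2 (S := Wt ρ (-1 : k) (-1)) (x₁ := I2) (y₁ := Jj) (x₂ := J2') (y₂ := Ii)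
    si sJ sj sI
    (fun v hv => by rw [ap22 ρ q_ii, h3 hv, map_neg, hr1 hv, neg_neg])
    (fun v hv => by rw [ap22 ρ q_jj, h3 hv, map_neg, hr1 hv, neg_neg])
    (fun v hv => anti_of q_iJ (h3 (sJ _ (si _ hv))))
    (fun v hv => by
      have := anti_of (ρ := ρ) q_Ij (v := v) (h3 (sj _ (sI _ hv)))
      rw [this, neg_neg])
    (fun v hv => by
      rw [← ap2, q_ij, ap2, ap2, ap2, h3 (sj _ (si _ hv)), map_neg, hr1 (sj _ (si _ hv)), neg_neg])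
    (fun v hv => by rw [ap22 ρ q_Ii])
  -- the other weight
  have g3 : ∀ {v : V}, v ∈ Wt ρ (-1 : k) 1 → ρ r3 v = v := fun {v} hv => by
    rw [r3_of hε hε1 hv, hε1, one_mul, one_smul]
  have g1 : ∀ {v : V}, v ∈ Wt ρ (-1 : k) 1 → ρ r1 v = -v := fun {v} hv => by
    rw [(mem_Wt.1 hv).1, neg_one_smul]
  have ti : ∀ v ∈ Wt ρ (-1 : k) 1, ρ I2 v ∈ Wt ρ (-1 : k) 1 := fun v hv => stab_wt q_i1 q_i2 hv
  have tj : ∀ v ∈ Wt ρ (-1 : k) 1, ρ J2' v ∈ Wt ρ (-1 : k) 1 := fun v hv => stab_wt q_j1 q_j2 hv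
  have e1 := finrank_swap (r := ρ I2) (y := ρ J2') (S := Wt ρ (-1 : k) 1) (μ := ι) h2 hι0 ti
    (fun v hv => by rw [ap22 ρ q_ii, g3 hv, g1 hv, hι, neg_one_smul]) tj (fun v hv => inj ρ _ hv)
    (fun v hv => by
      rw [← ap2, q_ij, ap2, ap2, ap2, g3 (tj _ (ti _ hv)), g1 (tj _ (ti _ hv))])
  have h4 := dim_formula hε hε1 h2
  rw [neg_neg, hd, e1, hdim] at h4
  have h5 : finrank k (Wt ρ (-1 : k) (-1)) = 0 ∨ finrank k (Wt ρ (-1 : k) (-1)) = 12 := by omega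
  rcases h5 with h5 | h5
  · exact Or.inl (Submodule.finrank_eq_zero.1 h5)
  · exact Or.inr (Submodule.eq_top_of_finrank_eq (by rw [h5, hdim]))

end four

end Cfsg.Agent.H905.JD
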