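import Cfsg.Agent.H905.JDTrace
import Cfsg.Agent.H1.TJ2

/-!
# The traces of the representation of degree six of the double cover of the Hall-Janko group (helper905)
-/

set_option autoImplicit false
set_option linter.unusedSectionVars false

namespace Cfsg.Agent.H905.JD

open Subgroup Cfsg.Spor Cfsg.Agent.J2.ZTau Cfsg.Agent.J2.Ico Cfsg.Agent.J2.Lattice Cfsg.Agent.J2.Refl
  Cfsg.Agent.J2.Group Cfsg.Agent.J2.Stab Cfsg.Agent.J2.SixGens Cfsg.Agent.H1.J2Lift
open Module

variable {k V : Type*} [Field k] [AddCommGroup V] [Module k V] {ρ : W →* Module.End k V}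

section

variable [FiniteDimensional k V] (e : (Fin 3 → UU ρ) ≃ₗ[k] V) (he : ∀ u, e u = Th ρ u)

/-- the block matrix of an operator -/
noncomputable def Psi (T : Module.End k V) : Matrix (Fin 3) (Fin 3) (Module.End k (UU ρ)) :=
  endVecRingEquivMatrixEnd (Fin 3) k (UU ρ) (e.symm.conjRingEquiv T)

theorem Psi_mul (S T : Module.End k V) : Psi e (S * T) = Psi e S * Psi e T := by
  unfold Psi
  rw [map_mul, map_mul]

theorem Psi_one : Psi e 1 = 1 := by
  unfold Psi
  rw [map_one, map_one]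

theorem Psi_trace (T : Module.End k V) : LinearMap.trace k V T = ∑ a, LinearMap.trace k (UU ρ) (Psi e T a a) := by
  rw [← LinearMap.trace_conj' T e.symm]
  exact block_trace _

include he

theorem Psi_eq {T : Module.End k V} {f : Fin 3 → Fin 3 → Module.End k (UU ρ)}
    (h : ∀ b x, T (Th ρ (Pi.single b x)) = Th ρ (fun a => f a b x)) (a b : Fin 3) : Psi e T a b = f a b := by
  ext1 x
  change (e.symm (T (e (Pi.single b x)))) a = f a b x
  rw [he, h, ← he, LinearEquiv.symm_apply_apply]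

variable (h2 : (2 : k) ≠ 0) (hng : ∀ v, ρ ng v = -v) (hz : ∀ v, ρ r1 v = -v → ρ r2 v = -v → v = 0)
include h2 hng hz

omit he e [FiniteDimensional k V] h2 hng hz in
theorem Th_zero (x : UU ρ) : Th ρ (Pi.single 0 x) = (x : V) := by
  rw [Th_apply, Pi.single_eq_same, Pi.single_eq_of_ne (by decide), Pi.single_eq_of_ne (by decide), ZeroMemClass.coe_zero,
    map_zero, map_zero, add_zero, add_zero]

omit he e [FiniteDimensional k V] h2 hng hz in
theorem Th_one (x : UU ρ) : Th ρ (Pi.single 1 x) = ρ nn x := by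
  rw [Th_apply, Pi.single_eq_same, Pi.single_eq_of_ne (by decide), Pi.single_eq_of_ne (by decide), ZeroMemClass.coe_zero,
    map_zero, add_zero, zero_add]

omit he e [FiniteDimensional k V] h2 hng hz in
theorem Th_two (x : UU ρ) : Th ρ (Pi.single 2 x) = ρ nn⁻¹ x := by
  rw [Th_apply, Pi.single_eq_same, Pi.single_eq_of_ne (by decide), Pi.single_eq_of_ne (by decide), ZeroMemClass.coe_zero,
    map_zero, add_zero, zero_add]

/-- the elements with block matrix over a subring -/
noncomputable def Gd (S : Subring (Module.End k (UU ρ))) : Subgroup W where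
  carrier := {w | ∀ a b, Psi e (ρ w) a b ∈ S}
  one_mem' := by
    intro a b
    rw [map_one, Psi_one, Matrix.one_apply]
    split_ifs
    · exact S.one_mem
    · exact S.zero_mem
  mul_mem' := by
    intro x y hx hy a b
    rw [map_mul, Psi_mul, Matrix.mul_apply]
    exact S.sum_mem fun c _ => S.mul_mem (hx a c) (hy c b)
  inv_mem' := by
    intro x hx
    have hfin : Finite W := Cfsg.Agent.H1.TJ2.finite_W
    have hpow : ∀ n : ℕ, ∀ a b, Psi e (ρ (x ^ n)) a b ∈ S := by
      intro n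
      induction n with
      | zero =>
        intro a b
        rw [pow_zero, map_one, Psi_one, Matrix.one_apply]
        split_ifs
        · exact S.one_mem
        · exact S.zero_mem
      | succ n ih =>
        intro a b
        rw [pow_succ, map_mul, Psi_mul, Matrix.mul_apply]
        exact S.sum_mem fun c _ => S.mul_mem (ih a c) (hx c b)
    have h3 : x⁻¹ = x ^ (orderOf x - 1) := by
      rw [inv_eq_iff_mul_eq_one, ← pow_succ', Nat.sub_add_cancel (orderOf_pos x), pow_orderOf_eq_one]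
    change ∀ a b, Psi e (ρ x⁻¹) a b ∈ S
    rw [h3]
    exact hpow _

/-- **the whole group has block matrices over the quaternion algebra** -/
theorem Gd_top {α : k} (hs : (2 : k) • op ρ q_G1 = op ρ q_i1 - α • op ρ q_j1 - (1 - α) • (op ρ q_i1 * op ρ q_j1))
    {F₀ : Subfield k} (hα : α ∈ F₀) :
    Gd e (Qs F₀ (qi h2 hng hz) (qj h2 hng hz) (qij h2 hng hz)) = ⊤ := by
  set S := Qs F₀ (qi h2 hng hz) (qj h2 hng hz) (qij h2 hng hz) with hS
  have mi : op ρ q_i1 ∈ S := ⟨0, F₀.zero_mem, 1, F₀.one_mem, 0, F₀.zero_mem, 0, F₀.zero_mem, by module⟩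
  have mj : op ρ q_j1 ∈ S := ⟨0, F₀.zero_mem, 0, F₀.zero_mem, 1, F₀.one_mem, 0, F₀.zero_mem, by module⟩
  have hh : (2 : k)⁻¹ ∈ F₀ := F₀.inv_mem (by
    have := F₀.add_mem F₀.one_mem F₀.one_mem
    rwa [one_add_one_eq_two] at this)
  have msc : ∀ {T : Module.End k (UU ρ)}, T ∈ S → (2 : k)⁻¹ • T ∈ S := by
    rintro _ ⟨a, ha, b, hb, c, hc, d, hd, rfl⟩
    exact ⟨2⁻¹ * a, F₀.mul_mem hh ha, 2⁻¹ * b, F₀.mul_mem hh hb, 2⁻¹ * c, F₀.mul_mem hh hc, 2⁻¹ * d,
      F₀.mul_mem hh hd, by module⟩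
  have ms : op ρ q_G1 ∈ S := by
    have h3 : op ρ q_G1 = (2 : k)⁻¹ • (op ρ q_i1 - α • op ρ q_j1 - (1 - α) • (op ρ q_i1 * op ρ q_j1)) := by
      rw [← hs, smul_smul, inv_mul_cancel₀ h2, one_smul]
    rw [h3]
    refine msc ⟨0, F₀.zero_mem, 1, F₀.one_mem, -α, F₀.neg_mem hα, -(1 - α), F₀.neg_mem (F₀.sub_mem F₀.one_mem hα), ?_⟩
    module
  have mm : (2 : k)⁻¹ • (op ρ q_j1 + op ρ q_j1 * op ρ q_i1) ∈ S := msc (S.add_mem mj (S.mul_mem mj mi))
  have hu : ∀ {x y : V}, (2 : k) • x = y → x = (2 : k)⁻¹ • y := fun {x y} h => by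
    rw [← h, smul_smul, inv_mul_cancel₀ h2, one_smul]
  have fin3 : ∀ {P : Fin 3 → Prop}, P 0 → P 1 → P 2 → ∀ a, P a := fun {P} h0 h1 h3 a => by
    fin_cases a
    · exact h0
    · exact h1
    · exact h3
  refine gen ?_ ?_ ?_ ?_ ?_ ?_
  · -- `ng`
    have h3 := Psi_eq e he (T := ρ ng) (f := fun a b => if a = b then -1 else 0) (fun b x => by
      rw [hng, ← map_neg]
      congr 1
      funext a
      by_cases h : a = b
      · subst h
        rw [Pi.neg_apply, Pi.single_eq_same, if_pos rfl]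
        rfl
      · rw [Pi.neg_apply, Pi.single_eq_of_ne h, if_neg h, neg_zero]
        rfl)
    intro a b
    rw [h3]
    split_ifs
    · exact S.neg_mem S.one_mem
    · exact S.zero_mem
  · -- `r1`
    have h3 := Psi_eq e he (T := ρ r1) (f := ![![-1, 0, 0], ![0, 1, 0], ![0, 0, 1]])
      (fin3 (fun x => by
        rw [Th_zero, UU_neg, Th_apply]
        simp) (fun x => by
        rw [Th_one, w_r1 h2 hng hz, Th_apply]
        simp) (fun x => by
        rw [Th_two, w_r1' h2 hng hz, Th_apply]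
        simp))
    intro a b
    rw [h3]
    exact fin3 (P := fun a => ∀ b, (![![-1, 0, 0], ![0, 1, 0], ![0, 0, 1]] : Fin 3 → Fin 3 → Module.End k (UU ρ)) a b ∈ S)
      (fin3 (S.neg_mem S.one_mem) S.zero_mem S.zero_mem) (fin3 S.zero_mem S.one_mem S.zero_mem)
      (fin3 S.zero_mem S.zero_mem S.one_mem) a b
  · -- `nn`
    have h3 := Psi_eq e he (T := ρ nn) (f := ![![0, 0, 1], ![1, 0, 0], ![0, 1, 0]])
      (fin3 (fun x => by
        rw [Th_zero, Th_apply]
        simp) (fun x => by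
        rw [Th_one, ap21 ρ g_9, Th_apply]
        simp) (fun x => by
        rw [Th_two, inv_r, Th_apply]
        simp))
    intro a b
    rw [h3]
    exact fin3 (P := fun a => ∀ b, (![![0, 0, 1], ![1, 0, 0], ![0, 1, 0]] : Fin 3 → Fin 3 → Module.End k (UU ρ)) a b ∈ S)
      (fin3 S.zero_mem S.zero_mem S.one_mem) (fin3 S.one_mem S.zero_mem S.zero_mem)
      (fin3 S.zero_mem S.one_mem S.zero_mem) a b
  · -- `gg`
    set m := (2 : k)⁻¹ • (op ρ q_j1 + op ρ q_j1 * op ρ q_i1) with hm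
    have h3 := Psi_eq e he (T := ρ gg) (f := ![![op ρ q_G1, 0, 0], ![0, -m, m], ![0, -m, -m]])
      (fin3 (fun x => by
        rw [Th_zero, Th_apply]
        simp
        rfl) (fun x => by
        rw [Th_one, hu (w_G h2 hng hz x), Th_apply]
        simp [hm, smul_sub, smul_add]
        abel) (fun x => by
        rw [Th_two, hu (w_G' h2 hng hz x), Th_apply]
        simp [hm, smul_sub, smul_add]
        abel))
    intro a b
    rw [h3]
    exact fin3 (P := fun a => ∀ b, (![![op ρ q_G1, 0, 0], ![0, -m, m], ![0, -m, -m]] :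
        Fin 3 → Fin 3 → Module.End k (UU ρ)) a b ∈ S)
      (fin3 ms S.zero_mem S.zero_mem) (fin3 S.zero_mem (S.neg_mem mm) mm)
      (fin3 S.zero_mem (S.neg_mem mm) (S.neg_mem mm)) a b
  · -- `Ii`
    have h3 := Psi_eq e he (T := ρ Ii) (f := ![![1, 0, 0], ![0, op ρ q_i1, 0], ![0, 0, op ρ q_i1]])
      (fin3 (fun x => by
        rw [Th_zero, v_I h2 hng hz (UU_neg x), Th_apply]
        simp) (fun x => by
        rw [Th_one, w_I h2 hng hz, Th_apply]
        simp) (fun x => by
        rw [Th_two, w_I' h2 hng hz, Th_apply]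
        simp))
    intro a b
    rw [h3]
    exact fin3 (P := fun a => ∀ b, (![![1, 0, 0], ![0, op ρ q_i1, 0], ![0, 0, op ρ q_i1]] :
        Fin 3 → Fin 3 → Module.End k (UU ρ)) a b ∈ S)
      (fin3 S.one_mem S.zero_mem S.zero_mem) (fin3 S.zero_mem mi S.zero_mem)
      (fin3 S.zero_mem S.zero_mem mi) a b
  · -- `Jj`
    have h3 := Psi_eq e he (T := ρ Jj) (f := ![![1, 0, 0], ![0, op ρ q_j1, 0], ![0, 0, op ρ q_j1]])
      (fin3 (fun x => by
        rw [Th_zero, v_J h2 hng hz (UU_neg x), Th_apply]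
        simp) (fun x => by
        rw [Th_one, w_J h2 hng hz, Th_apply]
        simp) (fun x => by
        rw [Th_two, w_J' h2 hng hz, Th_apply]
        simp))
    intro a b
    rw [h3]
    exact fin3 (P := fun a => ∀ b, (![![1, 0, 0], ![0, op ρ q_j1, 0], ![0, 0, op ρ q_j1]] :
        Fin 3 → Fin 3 → Module.End k (UU ρ)) a b ∈ S)
      (fin3 S.one_mem S.zero_mem S.zero_mem) (fin3 S.zero_mem mj S.zero_mem)
      (fin3 S.zero_mem S.zero_mem mj) a b

end

/-- **all traces are in every subfield containing the golden ratio** -/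
theorem trace_rep_mem [FiniteDimensional k V] (h2 : (2 : k) ≠ 0) (hng : ∀ v, ρ ng v = -v)
    (hz : ∀ v, ρ r1 v = -v → ρ r2 v = -v → v = 0) (hU : finrank k (UU ρ) = 2) (hV : finrank k V = 6) {α : k}
    (hs : (2 : k) • op ρ q_G1 = op ρ q_i1 - α • op ρ q_j1 - (1 - α) • (op ρ q_i1 * op ρ q_j1))
    {F₀ : Subfield k} (hα : α ∈ F₀) (w : W) : LinearMap.trace k V (ρ w) ∈ F₀ := by
  let e : (Fin 3 → UU ρ) ≃ₗ[k] V := LinearEquiv.ofInjectiveOfFinrankEq (Th ρ) (Th_inj h2 hng hz) (by
    rw [Module.finrank_pi_fintype, Finset.sum_const, Finset.card_univ, Fintype.card_fin, hU, hV]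
    rfl)
  have he : ∀ u, e u = Th ρ u := fun u => rfl
  have hw : w ∈ Gd e (Qs F₀ (qi h2 hng hz) (qj h2 hng hz) (qij h2 hng hz)) := by
    rw [Gd_top e he h2 hng hz hs hα]; trivial
  rw [Psi_trace e]
  exact F₀.sum_mem fun a _ => trace_mem h2 (hw a a)

end Cfsg.Agent.H905.JD
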