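import Cfsg.Agent.H905.JDTen
import Cfsg.Agent.H905.JDQuat

/-!
# The representation of degree six of the double cover of the Hall-Janko group (helper905)

`U = {r1 = -1}` is a plane with a quaternion algebra `i`, `j` and `s = gg`; `s j + j s = α`, `α² = α + 1`;
`V = U ⊕ n U ⊕ n⁻¹ U`; **`trace_rep_mem`** : all traces are in every subfield containing `α`.
-/

set_option autoImplicit false
set_option linter.unusedSectionVars false

namespace Cfsg.Agent.H905.JD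

open Subgroup Cfsg.Spor Cfsg.Agent.J2.ZTau Cfsg.Agent.J2.Ico Cfsg.Agent.J2.Lattice Cfsg.Agent.J2.Refl
  Cfsg.Agent.J2.Group Cfsg.Agent.J2.Stab Cfsg.Agent.J2.SixGens Cfsg.Agent.H1.J2Lift
open Module

variable {k V : Type*} [Field k] [AddCommGroup V] [Module k V] {ρ : W →* Module.End k V}

/-- the plane -/
noncomputable abbrev UU (ρ : W →* Module.End k V) : Submodule k V := Ep (⊤ : Submodule k V) (ρ r1) (-1)

/-- the operator of an element commuting with `r1` on the plane -/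
noncomputable abbrev op (ρ : W →* Module.End k V) {w : W} (h : w * r1 = r1 * w) : Module.End k (UU ρ) :=
  res ρ (-1) ⟨w, mem_Ce.2 h⟩

theorem UU_neg (x : UU ρ) : ρ r1 (x : V) = -x := by rw [x.2.2, neg_one_smul]

section

variable (h2 : (2 : k) ≠ 0) (hng : ∀ v, ρ ng v = -v) (hz : ∀ v, ρ r1 v = -v → ρ r2 v = -v → v = 0)

include h2 hng hz

theorem qi : op ρ q_i1 * op ρ q_i1 = -1 := by
  ext x
  change ρ I2 (ρ I2 (x : V)) = -(x : V)
  rw [ap22 ρ q_ii, v_r3 h2 hng hz (UU_neg x), UU_neg]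

theorem qj : op ρ q_j1 * op ρ q_j1 = -1 := by
  ext x
  change ρ J2' (ρ J2' (x : V)) = -(x : V)
  rw [ap22 ρ q_jj, v_r3 h2 hng hz (UU_neg x), UU_neg]

theorem qij : op ρ q_j1 * op ρ q_i1 = -(op ρ q_i1 * op ρ q_j1) := by
  ext x
  change ρ J2' (ρ I2 (x : V)) = -ρ I2 (ρ J2' (x : V))
  have e := ap ρ q_ij (x : V)
  have h3 := f1 h2 hng hz q_j1 (f1 h2 hng hz q_i1 (UU_neg x))
  rw [ap2, ap2, ap2, ap2, v_r3 h2 hng hz h3, h3] at e
  rw [e, neg_neg]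

theorem qs : op ρ q_G1 * op ρ q_G1 = -1 := by
  ext x
  change ρ gg (ρ gg (x : V)) = -(x : V)
  have e := ap ρ q_GG (x : V)
  rw [ap2, ap2, hng, ap2, v_sw h2 hng hz (UU_neg x), v_r2 h2 hng hz (UU_neg x)] at e
  exact e

theorem qc : (2 : k) • op ρ q_c1 = -(1 + op ρ q_i1 + op ρ q_j1 + op ρ q_i1 * op ρ q_j1) := by
  ext x
  exact om_one h2 hng hz (UU_neg x)

theorem qanti : op ρ q_G1 * (op ρ q_i1 + op ρ q_j1 + op ρ q_i1 * op ρ q_j1) =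
    -((op ρ q_i1 + op ρ q_j1 + op ρ q_i1 * op ρ q_j1) * op ρ q_G1) := by
  have hcs : op ρ q_c1 * op ρ q_G1 * op ρ q_c1 = op ρ q_G1 := by
    rw [← map_mul, ← map_mul]
    exact congrArg _ (Subtype.ext q_cGc)
  exact anti_of_csc (k := k) h2 (qi h2 hng hz) (qj h2 hng hz) (qij h2 hng hz) (qc h2 hng hz) hcs

theorem qtr : op ρ q_G1 * op ρ q_i1 + op ρ q_i1 * op ρ q_G1 = -1 := by
  have hy : op ρ q_y1 * op ρ q_c1 = op ρ q_G1 * op ρ q_i1 * op ρ q_y1 := by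
    ext x
    change ρ yy (ρ om (x : V)) = ρ gg (ρ I2 (ρ yy (x : V)))
    have h3 := f1 h2 hng hz q_y1 (UU_neg x)
    have h4 : ρ Jj⁻¹ (ρ yy (x : V)) = ρ yy (x : V) := by
      rw [← inj_iff ρ Jj, inv_r, v_J h2 hng hz h3]
    rw [← ap2, ap ρ q_yc, ap2, ap2, ap2, ap2, v_sw h2 hng hz h3, h4]
  have hyy : op ρ q_y1 * res ρ (-1) (⟨yy, mem_Ce.2 q_y1⟩ : Ce)⁻¹ = 1 := by
    rw [← map_mul, mul_inv_cancel, map_one]
  exact trace_of_conj (k := k) h2 (qi h2 hng hz) (qj h2 hng hz) (qij h2 hng hz) (qs h2 hng hz) (qc h2 hng hz) hy hyy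

/-- **the golden ratio** -/
theorem exists_alpha [IsAlgClosed k] [FiniteDimensional k V] (hU : finrank k (UU ρ) = 2) :
    ∃ α : k, α * α = α + 1 ∧ op ρ q_G1 * op ρ q_j1 + op ρ q_j1 * op ρ q_G1 = α • 1 ∧
      (2 : k) • op ρ q_G1 = op ρ q_i1 - α • op ρ q_j1 - (1 - α) • (op ρ q_i1 * op ρ q_j1) := by
  have hnt : Nontrivial (UU ρ) := Module.nontrivial_of_finrank_pos (R := k) (by rw [hU]; norm_num)
  obtain ⟨ι, hι⟩ := IsAlgClosed.exists_pow_nat_eq (-1 : k) two_pos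
  have hι2 : ι * ι = -1 := by rw [← hι]; ring
  have hι0 : ι ≠ 0 := by rintro rfl; rw [mul_zero] at hι2; exact one_ne_zero (neg_eq_zero.1 hι2.symm)
  have hi := qi h2 hng hz
  have hj := qj h2 hng hz
  have hij := qij h2 hng hz
  have ha := qanti h2 hng hz
  have ht := qtr h2 hng hz
  obtain ⟨haj, hai⟩ := comm_of_trace hi hj hij ha ht
  obtain ⟨α, hα⟩ := Module.End.exists_eigenvalue (op ρ q_G1 * op ρ q_j1 + op ρ q_j1 * op ρ q_G1)
  obtain ⟨u, hu⟩ := hα.exists_hasEigenvector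
  set a := op ρ q_G1 * op ρ q_j1 + op ρ q_j1 * op ρ q_G1 with hadef
  let S := Ep (⊤ : Submodule k (UU ρ)) a α
  have hi' : ∀ x, op ρ q_i1 (op ρ q_i1 x) = -x := fun x => LinearMap.congr_fun hi x
  have hj' : ∀ x, op ρ q_j1 (op ρ q_j1 x) = -x := fun x => LinearMap.congr_fun hj x
  have hij' : ∀ x, op ρ q_j1 (op ρ q_i1 x) = -op ρ q_i1 (op ρ q_j1 x) := fun x => LinearMap.congr_fun hij x
  have haj' : ∀ x, a (op ρ q_j1 x) = op ρ q_j1 (a x) := fun x => LinearMap.congr_fun haj x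
  have hai' : ∀ x, a (op ρ q_i1 x) = op ρ q_i1 (a x) := fun x => LinearMap.congr_fun hai x
  have e1 := finrank_swap (r := op ρ q_i1) (y := op ρ q_j1) (S := S) (μ := ι) h2 hι0
    (fun v hv => ⟨trivial, by rw [hai', hv.2, map_smul]⟩)
    (fun v _ => by rw [hi', hι2, neg_one_smul])
    (fun v hv => ⟨trivial, by rw [haj', hv.2, map_smul]⟩)
    (fun v hv => by
      have := hj' v
      rw [hv, map_zero] at this
      exact neg_eq_zero.1 this.symm)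
    (fun v _ => by rw [hij', neg_neg])
  have hS0 : 0 < finrank k S := by
    rw [Module.finrank_pos_iff]
    exact ⟨⟨⟨u, trivial, hu.apply_eq_smul⟩, 0, fun h => hu.2 (congrArg Subtype.val h)⟩⟩
  have hS2 : finrank k S ≤ 2 := by rw [← hU]; exact Submodule.finrank_le S
  have hS : S = ⊤ := Submodule.eq_top_of_finrank_eq (by rw [hU]; omega)
  have hsc : a = α • 1 := by
    ext1 x
    have hx : x ∈ S := by rw [hS]; trivial
    exact hx.2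
  have hf := s_formula (k := k) h2 hi hj hij ha ht hsc
  exact ⟨α, root_of_sq (k := k) h2 hi hj hij (qs h2 hng hz) hf, hsc, hf⟩

end

/-! ### the decomposition -/

section dec

variable (h2 : (2 : k) ≠ 0) (hng : ∀ v, ρ ng v = -v) (hz : ∀ v, ρ r1 v = -v → ρ r2 v = -v → v = 0)

/-- `u ↦ u₀ + n u₁ + n⁻¹ u₂` -/
noncomputable def Th (ρ : W →* Module.End k V) : (Fin 3 → UU ρ) →ₗ[k] V where
  toFun u := (u 0 : V) + ρ nn (u 1) + ρ nn⁻¹ (u 2)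
  map_add' a b := by
    simp only [Pi.add_apply, Submodule.coe_add, map_add]
    abel
  map_smul' c a := by
    simp only [Pi.smul_apply, Submodule.coe_smul, map_smul, smul_add, RingHom.id_apply]

theorem Th_apply (u : Fin 3 → UU ρ) : Th ρ u = (u 0 : V) + ρ nn (u 1) + ρ nn⁻¹ (u 2) := rfl

theorem g_1 : r1 * nn⁻¹ = nn⁻¹ * r2 := by rw [eq_inv_mul_iff_mul_eq, ← mul_assoc, q_n1, mul_inv_cancel_right]
theorem g_2 : r2 * nn⁻¹ = nn⁻¹ * r3 := by rw [eq_inv_mul_iff_mul_eq, ← mul_assoc, q_n2, mul_inv_cancel_right]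
theorem g_3 : sw * nn = nn⁻¹ * sw := by rw [eq_inv_mul_iff_mul_eq, ← mul_assoc, q_ntn]
theorem g_4 : sw * nn⁻¹ = nn * sw := by rw [mul_inv_eq_iff_eq_mul, q_ntn]
theorem g_5 : Ii * nn = nn * I3 := by rw [I3, mul_assoc, mul_inv_cancel_left]
theorem g_6 : Ii * nn⁻¹ = nn⁻¹ * I2 := by rw [I2, mul_assoc, inv_mul_cancel_left]
theorem g_7 : Jj * nn = nn * J3' := by rw [J3', mul_assoc, mul_inv_cancel_left]
theorem g_8 : Jj * nn⁻¹ = nn⁻¹ * J2' := by rw [J2', mul_assoc, inv_mul_cancel_left]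
theorem g_9 : nn * nn = nn⁻¹ := by rw [eq_inv_iff_mul_eq_one, q_nnn]

include h2 hng hz

theorem w_r1 (u : UU ρ) : ρ r1 (ρ nn u) = ρ nn (u : V) := by rw [← ap22 ρ q_n3, v_r3 h2 hng hz (UU_neg u)]
theorem w_r1' (u : UU ρ) : ρ r1 (ρ nn⁻¹ u) = ρ nn⁻¹ (u : V) := by rw [ap22 ρ g_1, v_r2 h2 hng hz (UU_neg u)]
theorem w_r2 (u : UU ρ) : ρ r2 (ρ nn u) = -ρ nn (u : V) := by rw [← ap22 ρ q_n1, UU_neg, map_neg]
theorem w_r2' (u : UU ρ) : ρ r2 (ρ nn⁻¹ u) = ρ nn⁻¹ (u : V) := by rw [ap22 ρ g_2, v_r3 h2 hng hz (UU_neg u)]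
theorem w_s (u : UU ρ) : ρ sw (ρ nn u) = ρ nn⁻¹ (u : V) := by rw [ap22 ρ g_3, v_sw h2 hng hz (UU_neg u)]
theorem w_s' (u : UU ρ) : ρ sw (ρ nn⁻¹ u) = ρ nn (u : V) := by rw [ap22 ρ g_4, v_sw h2 hng hz (UU_neg u)]
theorem w_I (u : UU ρ) : ρ Ii (ρ nn u) = ρ nn (op ρ q_i1 u : V) := by
  rw [ap22 ρ g_5, v_I3 h2 hng hz (UU_neg u)]; rfl
theorem w_I' (u : UU ρ) : ρ Ii (ρ nn⁻¹ u) = ρ nn⁻¹ (op ρ q_i1 u : V) := by rw [ap22 ρ g_6]; rfl
theorem w_J (u : UU ρ) : ρ Jj (ρ nn u) = ρ nn (op ρ q_j1 u : V) := by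
  rw [ap22 ρ g_7, v_J3 h2 hng hz (UU_neg u)]; rfl
theorem w_J' (u : UU ρ) : ρ Jj (ρ nn⁻¹ u) = ρ nn⁻¹ (op ρ q_j1 u : V) := by rw [ap22 ρ g_8]; rfl

theorem iji (u : UU ρ) : op ρ q_i1 (op ρ q_j1 (op ρ q_i1 u)) = op ρ q_j1 u := by
  have h3 : op ρ q_j1 (op ρ q_i1 (op ρ q_i1 u)) = -op ρ q_i1 (op ρ q_j1 (op ρ q_i1 u)) :=
    LinearMap.congr_fun (qij h2 hng hz) (op ρ q_i1 u)
  have h4 : op ρ q_i1 (op ρ q_i1 u) = -u := LinearMap.congr_fun (qi h2 hng hz) u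
  rw [h4, map_neg] at h3
  exact (neg_injective h3).symm

/-- the operator `m = j + j i` -/
theorem w_G (u : UU ρ) : (2 : k) • ρ gg (ρ nn u) =
    -(ρ nn ((op ρ q_j1 u + op ρ q_j1 (op ρ q_i1 u) : UU ρ) : V)) -
      ρ nn⁻¹ ((op ρ q_j1 u + op ρ q_j1 (op ρ q_i1 u) : UU ρ) : V) := by
  rw [G_act h2 hng hz (w_r1 h2 hng hz u)]
  simp only [w_I h2 hng hz, w_J h2 hng hz, w_s h2 hng hz, w_r2' h2 hng hz, iji h2 hng hz, Submodule.coe_add, map_add]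
  abel

theorem w_G' (u : UU ρ) : (2 : k) • ρ gg (ρ nn⁻¹ u) =
    ρ nn ((op ρ q_j1 u + op ρ q_j1 (op ρ q_i1 u) : UU ρ) : V) -
      ρ nn⁻¹ ((op ρ q_j1 u + op ρ q_j1 (op ρ q_i1 u) : UU ρ) : V) := by
  rw [G_act h2 hng hz (w_r1' h2 hng hz u)]
  simp only [w_I' h2 hng hz, w_J' h2 hng hz, w_s' h2 hng hz, w_r2 h2 hng hz, iji h2 hng hz, Submodule.coe_add, map_add]
  abel

theorem Th_inj : Function.Injective (Th ρ) := by
  rw [← LinearMap.ker_eq_bot, LinearMap.ker_eq_bot']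
  intro u hu
  have h3 := congrArg (fun x => ρ r1 x) hu
  simp only [Th_apply, map_add, map_zero, UU_neg, w_r1 h2 hng hz, w_r1' h2 hng hz] at h3
  rw [Th_apply] at hu
  have h4 : (u 0 : V) = -(u 0 : V) := by
    have h5 : (u 0 : V) + ρ nn (u 1) + ρ nn⁻¹ (u 2) = -(u 0 : V) + ρ nn (u 1) + ρ nn⁻¹ (u 2) := by rw [hu, h3]
    rw [add_assoc, add_assoc] at h5
    exact add_right_cancel h5
  have h0 := eq_zero_of_two h2 h4
  rw [h0, zero_add] at hu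
  have h6 := congrArg (fun x => ρ r2 x) hu
  simp only [map_add, map_zero, w_r2 h2 hng hz, w_r2' h2 hng hz] at h6
  have h7 : ρ nn (u 1 : V) = -ρ nn (u 1 : V) := by
    have h8 : ρ nn (u 1 : V) + ρ nn⁻¹ (u 2) = -ρ nn (u 1 : V) + ρ nn⁻¹ (u 2) := by rw [hu, h6]
    exact add_right_cancel h8
  have h8 := eq_zero_of_two h2 h7
  rw [h8, zero_add] at hu
  funext a
  fin_cases a
  · exact Subtype.ext h0
  · exact Subtype.ext (inj ρ nn h8)
  · exact Subtype.ext (inj ρ nn⁻¹ hu)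

end dec

end Cfsg.Agent.H905.JD
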