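import Cfsg.Agent.H905.JDRep

/-!
# The Hall-Janko group has no irreducible representation of degree twelve in odd characteristic (helper905)
-/

set_option autoImplicit false
set_option linter.unusedSectionVars false

namespace Cfsg.Agent.H905.JD

open Subgroup Cfsg.Spor Cfsg.Agent.J2.ZTau Cfsg.Agent.J2.Ico Cfsg.Agent.J2.Lattice Cfsg.Agent.J2.Refl
  Cfsg.Agent.J2.Group Cfsg.Agent.J2.Stab Cfsg.Agent.J2.SixGens Cfsg.Agent.H1.J2Lift
open Module

variable {k V : Type*} [Field k] [AddCommGroup V] [Module k V] {ρ : W →* Module.End k V}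

theorem inv_comm {a b : W} (e : a * b = b * a) {v : V} {δ : k} (h : ρ b v = δ • v) : ρ b (ρ a⁻¹ v) = δ • ρ a⁻¹ v := by
  have e' : b * a⁻¹ = a⁻¹ * b := by
    rw [eq_inv_mul_iff_mul_eq, ← mul_assoc, e, mul_inv_cancel_right]
  rw [ap22 ρ e', h, map_smul]

theorem comm_apply {a b : W} (e : a * b = b * a) {v : V} {δ : k} (h : ρ b v = δ • v) : ρ b (ρ a v) = δ • ρ a v := by
  rw [← ap22 ρ e, h, map_smul]

theorem eq_zero_of_two (h2 : (2 : k) ≠ 0) {v : V} (h : v = -v) : v = 0 := by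
  have h3 : (2 : k) • v = 0 := by
    rw [two_smul]
    nth_rewrite 1 [h]
    rw [neg_add_cancel]
  exact (smul_eq_zero.1 h3).resolve_left h2

theorem triv_fix (h2 : (2 : k) ≠ 0) (hz : ∀ v, ρ r1 v = v → ρ r2 v = v → v = 0) {v : V} (hv : ρ r1 v = v) : v = 0 := by
  have c1 : ∀ {a : W}, a * r1 = r1 * a → ∀ {u : V}, ρ r1 u = u → ρ r1 (ρ a u) = ρ a u := fun {a} e {u} h => by
    have := comm_apply (ρ := ρ) e (v := u) (δ := 1) (by rw [h, one_smul])
    rwa [one_smul] at this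
  have c2 : ∀ {a : W}, a * r1 = r1 * a → ∀ {u : V}, ρ r1 u = u → ρ r1 (ρ a⁻¹ u) = ρ a⁻¹ u := fun {a} e {u} h => by
    have := inv_comm (ρ := ρ) e (v := u) (δ := 1) (by rw [h, one_smul])
    rwa [one_smul] at this
  have f2 : ∀ {u : V}, ρ r1 u = u → ρ r2 u = -u := fun {u} h => by
    have h3 := hz (u + ρ r2 u) (by rw [map_add, ap22 ρ q_12, h]) (by
      rw [map_add, ap20 ρ q_22, add_comm])
    rw [eq_neg_iff_add_eq_zero, add_comm, h3]
  have ft : ∀ {u : V}, ρ r1 u = u → ρ sw u = -u := fun {u} h => by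
    rw [← inj_iff ρ gg, ← ap22 ρ q_2G, f2 (c1 q_G1 h), map_neg]
  have fI : ∀ {u : V}, ρ r1 u = u → ρ Ii u = -u := fun {u} h => by
    have e := ap ρ q_x2 (ρ xx⁻¹ u)
    rw [ap2, f2 (c2 q_x1 h), map_neg, inv_r, ap2, inv_r, ap2, ap2, ft (c1 q_I1 h), map_neg, f2 (c1 q_I1 h),
      neg_neg] at e
    exact e.symm
  have fJ : ∀ {u : V}, ρ r1 u = u → ρ Jj u = -u := fun {u} h => by
    have e := ap22 ρ q_cI (ρ om⁻¹ u)
    rw [fI (c2 q_c1 h), map_neg, inv_r] at e
    exact e.symm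
  have e := ap ρ q_cJ (ρ om⁻¹ v)
  rw [ap2, fJ (c2 q_c1 hv), map_neg, inv_r, ap2, inv_r, ap2, fJ hv, map_neg, fI hv, neg_neg] at e
  exact eq_zero_of_two h2 e.symm

/-- **the Hall-Janko group** -/
theorem triv_false [FiniteDimensional k V] (h2 : (2 : k) ≠ 0) (hng : ∀ v, ρ ng v = v) (hdim : finrank k V = 12)
    (hirr : ∀ L : Submodule k V, (∀ g, ∀ v ∈ L, ρ g v ∈ L) → L = ⊥ ∨ L = ⊤) : False := by
  rcases triv_dim h2 hng hdim with h | h
  · have hz : ∀ v, ρ r1 v = v → ρ r2 v = v → v = 0 := by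
      intro v h3 h4
      have h5 : v ∈ Wt ρ (1 : k) 1 := mem_Wt.2 ⟨by rw [h3, one_smul], by rw [h4, one_smul]⟩
      rwa [h] at h5
    have h3 : Wt ρ (1 : k) (-1) = ⊥ := by
      rw [eq_bot_iff]
      intro v hv
      rw [Submodule.mem_bot]
      exact triv_fix h2 hz (by rw [(mem_Wt.1 hv).1, one_smul])
    have h4 := dim_formula (ρ := ρ) (ε := (1 : k)) (fun v => by rw [hng, one_smul]) (one_mul 1) h2
    rw [h, h3, finrank_bot, hdim] at h4
    omega
  · have hr : ρ r1 = 1 := by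
      ext v
      have h3 : v ∈ Wt ρ (1 : k) 1 := by rw [h]; trivial
      rw [(mem_Wt.1 h3).1, one_smul]; rfl
    have hn : ρ ng = 1 := by
      ext v
      rw [hng]; rfl
    have hk : ρ.ker = ⊤ := gen_normal inferInstance hn hr
    have hg : ∀ g v, ρ g v = v := fun g v => by
      have h3 : g ∈ ρ.ker := by rw [hk]; trivial
      rw [MonoidHom.mem_ker.1 h3]; rfl
    have : Nontrivial V := Module.nontrivial_of_finrank_pos (R := k) (by rw [hdim]; norm_num)
    obtain ⟨v, hv⟩ := exists_ne (0 : V)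
    rcases hirr (Submodule.span k {v}) (fun g u hu => by rwa [hg]) with h3 | h3
    · rw [Submodule.span_singleton_eq_bot] at h3
      exact hv h3
    · have h4 := finrank_span_singleton (K := k) hv
      rw [h3, finrank_top, hdim] at h4
      omega

end Cfsg.Agent.H905.JD
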