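import Cfsg.Agent.H4.JT.Words
import Cfsg.Agent.H1.TJ2

/-!
# Words in the double cover of the Hall-Janko group (helper905)

`r1 r2 r3` : the reflections of the frame; `nn` : a rotation of the frame; `tt'`, `Ii`, `Jj` : elements of the
extraspecial group `Q₁` acting trivially on the first line; `om` of order three; `GG`, `xx`, `yy` in the centraliser of
`r1`. All relations used in `H905/JDRep`; `gen` : generation of `W`.
-/

set_option autoImplicit false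
set_option maxRecDepth 100000
set_option linter.unusedSimpArgs false

namespace Cfsg.Agent.H905.JD

open Subgroup Cfsg.Spor Cfsg.Agent.J2.ZTau Cfsg.Agent.J2.Ico Cfsg.Agent.J2.Lattice Cfsg.Agent.J2.Refl
  Cfsg.Agent.J2.Group Cfsg.Agent.J2.Stab Cfsg.Agent.J2.SixGens Cfsg.Agent.H1.J2Lift

/-- a root -/
def v59 : Vec := ⟨⟨⟨0, 0⟩, ⟨0, 0⟩, ⟨0, 0⟩, ⟨0, 0⟩⟩, ⟨⟨1, 0⟩, ⟨1, 0⟩, ⟨0, 0⟩, ⟨0, 0⟩⟩, ⟨⟨1, 0⟩, ⟨1, 0⟩, ⟨0, 0⟩, ⟨0, 0⟩⟩⟩
/-- a root -/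
def v273 : Vec := ⟨⟨⟨1, 0⟩, ⟨1, 0⟩, ⟨0, 0⟩, ⟨0, 0⟩⟩, ⟨⟨0, 0⟩, ⟨0, 0⟩, ⟨0, 0⟩, ⟨0, 0⟩⟩, ⟨⟨1, 0⟩, ⟨1, 0⟩, ⟨0, 0⟩, ⟨0, 0⟩⟩⟩
/-- a root -/
def v8 : Vec := ⟨⟨⟨0, 0⟩, ⟨0, 0⟩, ⟨0, 0⟩, ⟨0, 0⟩⟩, ⟨⟨1, 0⟩, ⟨1, 0⟩, ⟨0, 0⟩, ⟨0, 0⟩⟩, ⟨⟨3, -2⟩, ⟨1, 0⟩, ⟨-2, 2⟩, ⟨2, -2⟩⟩⟩
/-- a root -/
def v88 : Vec := ⟨⟨⟨0, 0⟩, ⟨0, 0⟩, ⟨0, 0⟩, ⟨0, 0⟩⟩, ⟨⟨1, 0⟩, ⟨-3, 2⟩, ⟨2, -2⟩, ⟨2, -2⟩⟩, ⟨⟨1, 0⟩, ⟨1, 0⟩, ⟨0, 0⟩, ⟨0, 0⟩⟩⟩
/-- a root -/
def v2 : Vec := ⟨⟨⟨0, 0⟩, ⟨0, 0⟩, ⟨0, 0⟩, ⟨0, 0⟩⟩, ⟨⟨-1, 0⟩, ⟨1, 0⟩, ⟨0, 0⟩, ⟨0, 0⟩⟩, ⟨⟨1, 0⟩, ⟨1, 0⟩, ⟨0, 0⟩, ⟨0, 0⟩⟩⟩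
/-- a root -/
def v41 : Vec := ⟨⟨⟨0, 0⟩, ⟨0, 0⟩, ⟨0, 0⟩, ⟨0, 0⟩⟩, ⟨⟨3, -2⟩, ⟨1, 0⟩, ⟨-2, 2⟩, ⟨2, -2⟩⟩, ⟨⟨1, 0⟩, ⟨1, 0⟩, ⟨0, 0⟩, ⟨0, 0⟩⟩⟩
/-- a root -/
def v80 : Vec := ⟨⟨⟨0, 0⟩, ⟨1, 0⟩, ⟨0, 0⟩, ⟨0, 0⟩⟩, ⟨⟨0, 0⟩, ⟨1, 0⟩, ⟨0, 0⟩, ⟨0, 0⟩⟩, ⟨⟨1, 0⟩, ⟨-1, 0⟩, ⟨1, -1⟩, ⟨1, -1⟩⟩⟩
/-- a root -/
def v312 : Vec := ⟨⟨⟨1, 0⟩, ⟨0, 0⟩, ⟨0, 0⟩, ⟨0, 0⟩⟩, ⟨⟨1, 0⟩, ⟨1, 0⟩, ⟨-1, 1⟩, ⟨1, -1⟩⟩, ⟨⟨1, 0⟩, ⟨0, 0⟩, ⟨0, 0⟩, ⟨0, 0⟩⟩⟩
/-- a root -/
def v26 : Vec := ⟨⟨⟨2, -1⟩, ⟨0, 0⟩, ⟨-1, 0⟩, ⟨2, -1⟩⟩, ⟨⟨1, -1⟩, ⟨0, 0⟩, ⟨0, 1⟩, ⟨1, 0⟩⟩, ⟨⟨0, 0⟩, ⟨0, 0⟩, ⟨0, 0⟩, ⟨1, -1⟩⟩⟩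
/-- a root -/
def v27 : Vec := ⟨⟨⟨0, 0⟩, ⟨2, -2⟩, ⟨-3, 1⟩, ⟨-1, 1⟩⟩, ⟨⟨0, 0⟩, ⟨1, 0⟩, ⟨0, 0⟩, ⟨0, 0⟩⟩, ⟨⟨1, 0⟩, ⟨0, 0⟩, ⟨0, 0⟩, ⟨0, 0⟩⟩⟩
/-- a root -/
def v214 : Vec := ⟨⟨⟨-2, 2⟩, ⟨0, 0⟩, ⟨1, -1⟩, ⟨-3, 1⟩⟩, ⟨⟨0, 0⟩, ⟨1, 0⟩, ⟨0, 0⟩, ⟨0, 0⟩⟩, ⟨⟨1, 0⟩, ⟨0, 0⟩, ⟨0, 0⟩, ⟨0, 0⟩⟩⟩
/-- a root -/
def v233 : Vec := ⟨⟨⟨1, 0⟩, ⟨3, -2⟩, ⟨-3, 1⟩, ⟨-1, 1⟩⟩, ⟨⟨0, 0⟩, ⟨1, 0⟩, ⟨0, 0⟩, ⟨0, 0⟩⟩, ⟨⟨0, 0⟩, ⟨-1, 0⟩, ⟨0, 0⟩, ⟨0, 0⟩⟩⟩
/-- a root -/
def v275 : Vec := ⟨⟨⟨1, 0⟩, ⟨3, -2⟩, ⟨-3, 1⟩, ⟨-1, 1⟩⟩, ⟨⟨-1, 0⟩, ⟨0, 0⟩, ⟨0, 0⟩, ⟨0, 0⟩⟩, ⟨⟨1, 0⟩, ⟨0, 0⟩, ⟨0, 0⟩, ⟨0, 0⟩⟩⟩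
/-- a root -/
def v3 : Vec := ⟨⟨⟨-1, 1⟩, ⟨0, 0⟩, ⟨1, 0⟩, ⟨0, 0⟩⟩, ⟨⟨0, 0⟩, ⟨-1, 0⟩, ⟨0, 0⟩, ⟨1, 0⟩⟩, ⟨⟨-2, 2⟩, ⟨0, 0⟩, ⟨1, -1⟩, ⟨-2, 1⟩⟩⟩
/-- a root -/
def v4 : Vec := ⟨⟨⟨-1, 1⟩, ⟨0, 0⟩, ⟨1, 0⟩, ⟨0, 0⟩⟩, ⟨⟨2, -2⟩, ⟨0, 0⟩, ⟨-1, 1⟩, ⟨2, -1⟩⟩, ⟨⟨0, 0⟩, ⟨-1, 0⟩, ⟨0, 0⟩, ⟨1, 0⟩⟩⟩
/-- a root -/
def v171 : Vec := ⟨⟨⟨0, 1⟩, ⟨1, -1⟩, ⟨-1, 0⟩, ⟨0, 0⟩⟩, ⟨⟨1, -1⟩, ⟨0, 0⟩, ⟨0, 0⟩, ⟨1, 0⟩⟩, ⟨⟨0, 0⟩, ⟨2, -2⟩, ⟨-2, 1⟩, ⟨-1, 1⟩⟩⟩
/-- a root -/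
def v243 : Vec := ⟨⟨⟨-1, 0⟩, ⟨0, 0⟩, ⟨0, 1⟩, ⟨-1, 1⟩⟩, ⟨⟨1, 0⟩, ⟨-2, 1⟩, ⟨1, -1⟩, ⟨2, -1⟩⟩, ⟨⟨0, 0⟩, ⟨0, 0⟩, ⟨1, 0⟩, ⟨0, 0⟩⟩⟩

/-- rotation of the frame -/
def wN : List Vec := [v59, v273]
/-- swaps the second and the third line -/
def wT : List Vec := [v59]
/-- the first quaternion unit -/
def wI : List Vec := [v8, v88]
/-- the second quaternion unit -/
def wJ : List Vec := [v2, v41]
/-- an element of order three -/
def wC : List Vec := [v80, v312, v26, e1]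
/-- an element of the centraliser of `r1` -/
def wG : List Vec := [v27, v214, v8]
/-- an element of the centraliser of `r1` -/
def wx : List Vec := [v233, v275]
/-- an element of the centraliser of `r1` -/
def wy : List Vec := [v3, v4, v171, v243]

/-- the first reflection of the frame -/
noncomputable def r1 : W := wd [e1]
/-- the second reflection of the frame -/
noncomputable def r2 : W := wd [e2]
/-- the third reflection of the frame -/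
noncomputable def r3 : W := wd [e3]
/-- rotation of the frame -/
noncomputable def nn : W := wd wN
/-- swaps the second and the third line -/
noncomputable def sw : W := wd wT
/-- the first quaternion unit -/
noncomputable def Ii : W := wd wI
/-- the second quaternion unit -/
noncomputable def Jj : W := wd wJ
/-- an element of order three -/
noncomputable def om : W := wd wC
/-- an element of the centraliser of `r1` -/
noncomputable def gg : W := wd wG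
/-- an element of the centraliser of `r1` -/
noncomputable def xx : W := wd wx
/-- an element of the centraliser of `r1` -/
noncomputable def yy : W := wd wy
/-- the quaternion units for the second line -/
noncomputable def I2 : W := nn * Ii * nn⁻¹
/-- the quaternion units for the second line -/
noncomputable def J2' : W := nn * Jj * nn⁻¹
/-- the quaternion units for the third line -/
noncomputable def I3 : W := nn⁻¹ * Ii * nn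
/-- the quaternion units for the third line -/
noncomputable def J3' : W := nn⁻¹ * Jj * nn


theorem q_12 : r1 * r2 = r2 * r1 := by
  simp only [r1, r2, r3, nn, sw, Ii, Jj, om, gg, xx, yy, I2, J2', I3, J3', ← wd_append, ← wd_reverse]
  exact wd_eq (by decide +kernel)
theorem q_13 : r1 * r3 = r3 * r1 := by
  simp only [r1, r2, r3, nn, sw, Ii, Jj, om, gg, xx, yy, I2, J2', I3, J3', ← wd_append, ← wd_reverse]
  exact wd_eq (by decide +kernel)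
theorem q_23 : r2 * r3 = r3 * r2 := by
  simp only [r1, r2, r3, nn, sw, Ii, Jj, om, gg, xx, yy, I2, J2', I3, J3', ← wd_append, ← wd_reverse]
  exact wd_eq (by decide +kernel)
theorem q_n1 : nn * r1 = r2 * nn := by
  simp only [r1, r2, r3, nn, sw, Ii, Jj, om, gg, xx, yy, I2, J2', I3, J3', ← wd_append, ← wd_reverse]
  exact wd_eq (by decide +kernel)
theorem q_n2 : nn * r2 = r3 * nn := by
  simp only [r1, r2, r3, nn, sw, Ii, Jj, om, gg, xx, yy, I2, J2', I3, J3', ← wd_append, ← wd_reverse]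
  exact wd_eq (by decide +kernel)
theorem q_n3 : nn * r3 = r1 * nn := by
  simp only [r1, r2, r3, nn, sw, Ii, Jj, om, gg, xx, yy, I2, J2', I3, J3', ← wd_append, ← wd_reverse]
  exact wd_eq (by decide +kernel)
theorem q_t1 : sw * r1 = r1 * sw := by
  simp only [r1, r2, r3, nn, sw, Ii, Jj, om, gg, xx, yy, I2, J2', I3, J3', ← wd_append, ← wd_reverse]
  exact wd_eq (by decide +kernel)
theorem q_t2 : sw * r2 = r3 * sw := by
  simp only [r1, r2, r3, nn, sw, Ii, Jj, om, gg, xx, yy, I2, J2', I3, J3', ← wd_append, ← wd_reverse]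
  exact wd_eq (by decide +kernel)
theorem q_I1 : Ii * r1 = r1 * Ii := by
  simp only [r1, r2, r3, nn, sw, Ii, Jj, om, gg, xx, yy, I2, J2', I3, J3', ← wd_append, ← wd_reverse]
  exact wd_eq (by decide +kernel)
theorem q_I2 : Ii * r2 = r2 * Ii := by
  simp only [r1, r2, r3, nn, sw, Ii, Jj, om, gg, xx, yy, I2, J2', I3, J3', ← wd_append, ← wd_reverse]
  exact wd_eq (by decide +kernel)
theorem q_I3 : Ii * r3 = r3 * Ii := by
  simp only [r1, r2, r3, nn, sw, Ii, Jj, om, gg, xx, yy, I2, J2', I3, J3', ← wd_append, ← wd_reverse]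
  exact wd_eq (by decide +kernel)
theorem q_J1 : Jj * r1 = r1 * Jj := by
  simp only [r1, r2, r3, nn, sw, Ii, Jj, om, gg, xx, yy, I2, J2', I3, J3', ← wd_append, ← wd_reverse]
  exact wd_eq (by decide +kernel)
theorem q_J2 : Jj * r2 = r2 * Jj := by
  simp only [r1, r2, r3, nn, sw, Ii, Jj, om, gg, xx, yy, I2, J2', I3, J3', ← wd_append, ← wd_reverse]
  exact wd_eq (by decide +kernel)
theorem q_J3 : Jj * r3 = r3 * Jj := by
  simp only [r1, r2, r3, nn, sw, Ii, Jj, om, gg, xx, yy, I2, J2', I3, J3', ← wd_append, ← wd_reverse]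
  exact wd_eq (by decide +kernel)
theorem q_II : Ii * Ii = r2 * r3 := by
  simp only [r1, r2, r3, nn, sw, Ii, Jj, om, gg, xx, yy, I2, J2', I3, J3', ← wd_append, ← wd_reverse]
  exact wd_eq (by decide +kernel)
theorem q_JJ : Jj * Jj = r2 * r3 := by
  simp only [r1, r2, r3, nn, sw, Ii, Jj, om, gg, xx, yy, I2, J2', I3, J3', ← wd_append, ← wd_reverse]
  exact wd_eq (by decide +kernel)
theorem q_IJ : Ii * Jj = r2 * r3 * Jj * Ii := by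
  simp only [r1, r2, r3, nn, sw, Ii, Jj, om, gg, xx, yy, I2, J2', I3, J3', ← wd_append, ← wd_reverse]
  exact wd_eq (by decide +kernel)
theorem q_tI : sw * Ii = Ii * sw := by
  simp only [r1, r2, r3, nn, sw, Ii, Jj, om, gg, xx, yy, I2, J2', I3, J3', ← wd_append, ← wd_reverse]
  exact wd_eq (by decide +kernel)
theorem q_tJ : sw * Jj = Jj * sw := by
  simp only [r1, r2, r3, nn, sw, Ii, Jj, om, gg, xx, yy, I2, J2', I3, J3', ← wd_append, ← wd_reverse]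
  exact wd_eq (by decide +kernel)
theorem q_i1 : I2 * r1 = r1 * I2 := by
  simp only [r1, r2, r3, nn, sw, Ii, Jj, om, gg, xx, yy, I2, J2', I3, J3', ← wd_append, ← wd_reverse]
  exact wd_eq (by decide +kernel)
theorem q_i2 : I2 * r2 = r2 * I2 := by
  simp only [r1, r2, r3, nn, sw, Ii, Jj, om, gg, xx, yy, I2, J2', I3, J3', ← wd_append, ← wd_reverse]
  exact wd_eq (by decide +kernel)
theorem q_i3 : I2 * r3 = r3 * I2 := by
  simp only [r1, r2, r3, nn, sw, Ii, Jj, om, gg, xx, yy, I2, J2', I3, J3', ← wd_append, ← wd_reverse]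
  exact wd_eq (by decide +kernel)
theorem q_j1 : J2' * r1 = r1 * J2' := by
  simp only [r1, r2, r3, nn, sw, Ii, Jj, om, gg, xx, yy, I2, J2', I3, J3', ← wd_append, ← wd_reverse]
  exact wd_eq (by decide +kernel)
theorem q_j2 : J2' * r2 = r2 * J2' := by
  simp only [r1, r2, r3, nn, sw, Ii, Jj, om, gg, xx, yy, I2, J2', I3, J3', ← wd_append, ← wd_reverse]
  exact wd_eq (by decide +kernel)
theorem q_j3 : J2' * r3 = r3 * J2' := by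
  simp only [r1, r2, r3, nn, sw, Ii, Jj, om, gg, xx, yy, I2, J2', I3, J3', ← wd_append, ← wd_reverse]
  exact wd_eq (by decide +kernel)
theorem q_ii : I2 * I2 = r1 * r3 := by
  simp only [r1, r2, r3, nn, sw, Ii, Jj, om, gg, xx, yy, I2, J2', I3, J3', ← wd_append, ← wd_reverse]
  exact wd_eq (by decide +kernel)
theorem q_jj : J2' * J2' = r1 * r3 := by
  simp only [r1, r2, r3, nn, sw, Ii, Jj, om, gg, xx, yy, I2, J2', I3, J3', ← wd_append, ← wd_reverse]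
  exact wd_eq (by decide +kernel)
theorem q_ij : I2 * J2' = r1 * r3 * J2' * I2 := by
  simp only [r1, r2, r3, nn, sw, Ii, Jj, om, gg, xx, yy, I2, J2', I3, J3', ← wd_append, ← wd_reverse]
  exact wd_eq (by decide +kernel)
theorem q_Ii : Ii * I2 = I2 * Ii := by
  simp only [r1, r2, r3, nn, sw, Ii, Jj, om, gg, xx, yy, I2, J2', I3, J3', ← wd_append, ← wd_reverse]
  exact wd_eq (by decide +kernel)
theorem q_Jj : Jj * J2' = J2' * Jj := by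
  simp only [r1, r2, r3, nn, sw, Ii, Jj, om, gg, xx, yy, I2, J2', I3, J3', ← wd_append, ← wd_reverse]
  exact wd_eq (by decide +kernel)
theorem q_Ij : Ii * J2' = r3 * J2' * Ii := by
  simp only [r1, r2, r3, nn, sw, Ii, Jj, om, gg, xx, yy, I2, J2', I3, J3', ← wd_append, ← wd_reverse]
  exact wd_eq (by decide +kernel)
theorem q_iJ : I2 * Jj = r3 * Jj * I2 := by
  simp only [r1, r2, r3, nn, sw, Ii, Jj, om, gg, xx, yy, I2, J2', I3, J3', ← wd_append, ← wd_reverse]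
  exact wd_eq (by decide +kernel)
theorem q_k : I3 = Ii * I2 * r3 := by
  simp only [r1, r2, r3, nn, sw, Ii, Jj, om, gg, xx, yy, I2, J2', I3, J3', ← wd_append, ← wd_reverse]
  exact wd_eq (by decide +kernel)
theorem q_l : J3' = Jj * J2' * r3 := by
  simp only [r1, r2, r3, nn, sw, Ii, Jj, om, gg, xx, yy, I2, J2', I3, J3', ← wd_append, ← wd_reverse]
  exact wd_eq (by decide +kernel)
theorem q_Ik : Ii * I3 = I3 * Ii := by
  simp only [r1, r2, r3, nn, sw, Ii, Jj, om, gg, xx, yy, I2, J2', I3, J3', ← wd_append, ← wd_reverse]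
  exact wd_eq (by decide +kernel)
theorem q_Jk : Jj * I3 = r2 * I3 * Jj := by
  simp only [r1, r2, r3, nn, sw, Ii, Jj, om, gg, xx, yy, I2, J2', I3, J3', ← wd_append, ← wd_reverse]
  exact wd_eq (by decide +kernel)
theorem q_jk : J2' * I3 = r1 * I3 * J2' := by
  simp only [r1, r2, r3, nn, sw, Ii, Jj, om, gg, xx, yy, I2, J2', I3, J3', ← wd_append, ← wd_reverse]
  exact wd_eq (by decide +kernel)
theorem q_cn : om * nn = nn * om := by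
  simp only [r1, r2, r3, nn, sw, Ii, Jj, om, gg, xx, yy, I2, J2', I3, J3', ← wd_append, ← wd_reverse]
  exact wd_eq (by decide +kernel)
theorem q_ct : om * sw = sw * om := by
  simp only [r1, r2, r3, nn, sw, Ii, Jj, om, gg, xx, yy, I2, J2', I3, J3', ← wd_append, ← wd_reverse]
  exact wd_eq (by decide +kernel)
theorem q_c1 : om * r1 = r1 * om := by
  simp only [r1, r2, r3, nn, sw, Ii, Jj, om, gg, xx, yy, I2, J2', I3, J3', ← wd_append, ← wd_reverse]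
  exact wd_eq (by decide +kernel)
theorem q_c2 : om * r2 = r2 * om := by
  simp only [r1, r2, r3, nn, sw, Ii, Jj, om, gg, xx, yy, I2, J2', I3, J3', ← wd_append, ← wd_reverse]
  exact wd_eq (by decide +kernel)
theorem q_c3 : om * r3 = r3 * om := by
  simp only [r1, r2, r3, nn, sw, Ii, Jj, om, gg, xx, yy, I2, J2', I3, J3', ← wd_append, ← wd_reverse]
  exact wd_eq (by decide +kernel)
theorem q_cI : om * Ii = Jj * om := by
  simp only [r1, r2, r3, nn, sw, Ii, Jj, om, gg, xx, yy, I2, J2', I3, J3', ← wd_append, ← wd_reverse]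
  exact wd_eq (by decide +kernel)
theorem q_cJ : om * Jj = Ii * Jj * om := by
  simp only [r1, r2, r3, nn, sw, Ii, Jj, om, gg, xx, yy, I2, J2', I3, J3', ← wd_append, ← wd_reverse]
  exact wd_eq (by decide +kernel)
theorem q_x1 : xx * r1 = r1 * xx := by
  simp only [r1, r2, r3, nn, sw, Ii, Jj, om, gg, xx, yy, I2, J2', I3, J3', ← wd_append, ← wd_reverse]
  exact wd_eq (by decide +kernel)
theorem q_x2 : xx * r2 = r2 * sw * Ii * xx := by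
  simp only [r1, r2, r3, nn, sw, Ii, Jj, om, gg, xx, yy, I2, J2', I3, J3', ← wd_append, ← wd_reverse]
  exact wd_eq (by decide +kernel)
theorem q_xt : xx * sw = sw * xx := by
  simp only [r1, r2, r3, nn, sw, Ii, Jj, om, gg, xx, yy, I2, J2', I3, J3', ← wd_append, ← wd_reverse]
  exact wd_eq (by decide +kernel)
theorem q_xI : xx * Ii = Ii * xx := by
  simp only [r1, r2, r3, nn, sw, Ii, Jj, om, gg, xx, yy, I2, J2', I3, J3', ← wd_append, ← wd_reverse]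
  exact wd_eq (by decide +kernel)
theorem q_cGc : om * gg * om = gg := by
  simp only [r1, r2, r3, nn, sw, Ii, Jj, om, gg, xx, yy, I2, J2', I3, J3', ← wd_append, ← wd_reverse]
  exact wd_eq (by decide +kernel)
theorem q_G1 : gg * r1 = r1 * gg := by
  simp only [r1, r2, r3, nn, sw, Ii, Jj, om, gg, xx, yy, I2, J2', I3, J3', ← wd_append, ← wd_reverse]
  exact wd_eq (by decide +kernel)
theorem q_2G : r2 * gg = gg * sw := by
  simp only [r1, r2, r3, nn, sw, Ii, Jj, om, gg, xx, yy, I2, J2', I3, J3', ← wd_append, ← wd_reverse]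
  exact wd_eq (by decide +kernel)
theorem q_y1 : yy * r1 = r1 * yy := by
  simp only [r1, r2, r3, nn, sw, Ii, Jj, om, gg, xx, yy, I2, J2', I3, J3', ← wd_append, ← wd_reverse]
  exact wd_eq (by decide +kernel)
theorem q_ntn : nn * sw * nn = sw := by
  simp only [r1, r2, r3, nn, sw, Ii, Jj, om, gg, xx, yy, I2, J2', I3, J3', ← wd_append, ← wd_reverse]
  exact wd_eq (by decide +kernel)
theorem q_11 : r1 * r1 = 1 := by
  rw [← wd_nil]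
  simp only [r1, r2, r3, nn, sw, Ii, Jj, om, gg, xx, yy, I2, J2', I3, J3', ← wd_append, ← wd_reverse]
  exact wd_eq (by decide +kernel)
theorem q_22 : r2 * r2 = 1 := by
  rw [← wd_nil]
  simp only [r1, r2, r3, nn, sw, Ii, Jj, om, gg, xx, yy, I2, J2', I3, J3', ← wd_append, ← wd_reverse]
  exact wd_eq (by decide +kernel)
theorem q_33 : r3 * r3 = 1 := by
  rw [← wd_nil]
  simp only [r1, r2, r3, nn, sw, Ii, Jj, om, gg, xx, yy, I2, J2', I3, J3', ← wd_append, ← wd_reverse]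
  exact wd_eq (by decide +kernel)
theorem q_nnn : nn * nn * nn = 1 := by
  rw [← wd_nil]
  simp only [r1, r2, r3, nn, sw, Ii, Jj, om, gg, xx, yy, I2, J2', I3, J3', ← wd_append, ← wd_reverse]
  exact wd_eq (by decide +kernel)
theorem q_tt : sw * sw = 1 := by
  rw [← wd_nil]
  simp only [r1, r2, r3, nn, sw, Ii, Jj, om, gg, xx, yy, I2, J2', I3, J3', ← wd_append, ← wd_reverse]
  exact wd_eq (by decide +kernel)
theorem q_ccc : om * om * om = 1 := by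
  rw [← wd_nil]
  simp only [r1, r2, r3, nn, sw, Ii, Jj, om, gg, xx, yy, I2, J2', I3, J3', ← wd_append, ← wd_reverse]
  exact wd_eq (by decide +kernel)
theorem q_yc : yy * om = gg * I2 * Jj⁻¹ * sw * yy := by
  simp only [r1, r2, r3, nn, sw, Ii, Jj, om, gg, xx, yy, I2, J2', I3, J3', ← wd_append, ← wd_reverse]
  exact wd_eq (by decide +kernel)
theorem q_123 : r1 * r2 * r3 = ng := by
  have h : wd ([e1] ++ [e2] ++ [e3]) = ng * wd [] := wd_eqN (by decide +kernel)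
  rw [wd_append, wd_append, wd_nil, mul_one] at h
  exact h
theorem q_GG : gg * gg = ng * (r2 * sw) := by
  have h : wd (wG ++ wG) = ng * wd ([e2] ++ wT) := wd_eqN (by decide +kernel)
  rw [wd_append, wd_append] at h
  exact h
theorem q_G : gg = ng * (xx * I3 * xx⁻¹ * Jj * Ii) := by
  have h : wd wG = ng * wd (wx ++ (wN.reverse ++ wI ++ wN) ++ wx.reverse ++ wJ ++ wI) :=
    wd_eqN (by decide +kernel)
  simp only [wd_append, wd_reverse] at h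
  exact h

/-! ### generation -/

/-- letters -/
def lt (k : ℕ) : List Vec := match k with
  | 0 => wN
  | 1 => wN.reverse
  | 2 => wG
  | 3 => wG.reverse
  | 4 => wI
  | _ => wJ

/-- words in the letters -/
def cw (L : List ℕ) : List Vec := L.flatMap lt

theorem cw_cons (k : ℕ) (L : List ℕ) : cw (k :: L) = lt k ++ cw L := rfl

/-- ten roots as images of the first one -/
def tab : List (Vec × List ℕ) := [(Cfsg.Agent.J2.SixGens.r0, []), (Cfsg.Agent.J2.SixGens.r1, [0]), (r5, [1, 5, 4, 0, 2, 0]),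
  (r11, [0, 4, 1, 2, 0]), (r74, [0, 5, 2, 0, 3, 0, 2, 0]), (r149, [5, 0, 4, 1, 2, 0, 2, 0]),
  (r153, [1, 4, 0, 5, 2, 0, 2, 0]), (r179, [3, 1, 5, 0, 3, 1, 2, 0]), (r185, [2, 1, 5, 0, 2, 0, 2, 0]),
  (r290, [4, 1, 3, 5, 0, 2, 0])]

theorem tab_ok_0 : chk [Cfsg.Agent.J2.SixGens.r0] (cw [] ++ [e1] ++ (cw []).reverse) = true := by
  decide +kernel
theorem tab_ok_1 : chk [Cfsg.Agent.J2.SixGens.r1] (cw [0] ++ [e1] ++ (cw [0]).reverse) = true := by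
  decide +kernel
theorem tab_ok_2 : chk [r5] (cw [1, 5, 4, 0, 2, 0] ++ [e1] ++ (cw [1, 5, 4, 0, 2, 0]).reverse) = true := by
  decide +kernel
theorem tab_ok_3 : chk [r11] (cw [0, 4, 1, 2, 0] ++ [e1] ++ (cw [0, 4, 1, 2, 0]).reverse) = true := by
  decide +kernel
theorem tab_ok_4 : chk [r74] (cw [0, 5, 2, 0, 3, 0, 2, 0] ++ [e1] ++ (cw [0, 5, 2, 0, 3, 0, 2, 0]).reverse) = true := by
  decide +kernel
theorem tab_ok_5 : chk [r149] (cw [5, 0, 4, 1, 2, 0, 2, 0] ++ [e1] ++ (cw [5, 0, 4, 1, 2, 0, 2, 0]).reverse) = true := by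
  decide +kernel
theorem tab_ok_6 : chk [r153] (cw [1, 4, 0, 5, 2, 0, 2, 0] ++ [e1] ++ (cw [1, 4, 0, 5, 2, 0, 2, 0]).reverse) = true := by
  decide +kernel
theorem tab_ok_7 : chk [r179] (cw [3, 1, 5, 0, 3, 1, 2, 0] ++ [e1] ++ (cw [3, 1, 5, 0, 3, 1, 2, 0]).reverse) = true := by
  decide +kernel
theorem tab_ok_8 : chk [r185] (cw [2, 1, 5, 0, 2, 0, 2, 0] ++ [e1] ++ (cw [2, 1, 5, 0, 2, 0, 2, 0]).reverse) = true := by
  decide +kernel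
theorem tab_ok_9 : chk [r290] (cw [4, 1, 3, 5, 0, 2, 0] ++ [e1] ++ (cw [4, 1, 3, 5, 0, 2, 0]).reverse) = true := by
  decide +kernel

theorem tab_ok : tab.all (fun p => chk [p.1] (cw p.2 ++ [e1] ++ (cw p.2).reverse)) = true := by
  simp only [tab, List.all_cons, List.all_nil, Bool.and_true, Bool.and_eq_true]
  exact ⟨tab_ok_0, tab_ok_1, tab_ok_2, tab_ok_3, tab_ok_4, tab_ok_5, tab_ok_6, tab_ok_7, tab_ok_8, tab_ok_9⟩

theorem wd_cw_mem {S : Subgroup W} (hn : nn ∈ S) (hG : gg ∈ S) (hI : Ii ∈ S) (hJ : Jj ∈ S) (L : List ℕ) :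
    wd (cw L) ∈ S := by
  induction L with
  | nil => exact S.one_mem
  | cons k L ih =>
    rw [cw_cons, wd_append]
    refine S.mul_mem ?_ ih
    match k with
    | 0 => exact hn
    | 1 => change wd wN.reverse ∈ S; rw [wd_reverse]; exact S.inv_mem hn
    | 2 => exact hG
    | 3 => change wd wG.reverse ∈ S; rw [wd_reverse]; exact S.inv_mem hG
    | 4 => exact hI
    | (m + 5) => exact hJ

theorem tab_conj {p : Vec × List ℕ} (hp : p ∈ tab) : wd [p.1] = wd (cw p.2) * r1 * (wd (cw p.2))⁻¹ := by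
  have h := List.all_eq_true.1 tab_ok p hp
  rw [wd_eq h, wd_append, wd_append, wd_reverse]
  rfl

/-- the roots of the letters of degree 100 -/
theorem letr_sub (k : ℕ) : ∀ v ∈ letr k, ∃ p ∈ tab, p.1 = v := by
  have key : ∀ k < 5, (letr k).all (fun v => tab.any (fun p => decide (p.1 = v))) = true := by decide +kernel
  have key' : ∀ v ∈ letr k, (tab.any (fun p => decide (p.1 = v))) = true := by
    intro v hv
    rcases lt_or_ge k 5 with h | h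
    · exact List.all_eq_true.1 (key k h) v hv
    · have : letr k = letr 4 := by
        obtain ⟨m, rfl⟩ := Nat.exists_eq_add_of_le h
        rw [Nat.add_comm]
        rfl
      rw [this] at hv
      exact List.all_eq_true.1 (key 4 (by norm_num)) v hv
  intro v hv
  obtain ⟨p, hp, h⟩ := List.any_eq_true.1 (key' v hv)
  exact ⟨p, hp, of_decide_eq_true h⟩

theorem wd_mem_of {S : Subgroup W} {L : List Vec} (h : ∀ v ∈ L, wd [v] ∈ S) : wd L ∈ S := by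
  induction L with
  | nil => exact S.one_mem
  | cons v L ih =>
    have h1 : v :: L = [v] ++ L := rfl
    rw [h1, wd_append]
    exact S.mul_mem (h v List.mem_cons_self) (ih fun u hu => h u (List.mem_cons_of_mem _ hu))

theorem gen_of {S : Subgroup W} (hng : ng ∈ S) (h : ∀ p ∈ tab, wd [p.1] ∈ S) : S = ⊤ := by
  have hl : ∀ k, wd (letr k) ∈ S := fun k => wd_mem_of fun v hv => by
    obtain ⟨p, hp, rfl⟩ := letr_sub k v hv
    exact h p hp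
  have h1 : (S.map pr).comap (psi : Cfsg.Agent.SporadicA.J2Hundred.G →* J2) = ⊤ := by
    apply Cfsg.Agent.H4.JT.Words.gen_eq
    intro k _
    rw [Subgroup.mem_comap]
    refine ⟨wd (letr k), hl k, ?_⟩
    exact (psi_letr k).symm
  rw [eq_top_iff]
  intro w _
  have h2 : psi.symm (pr w) ∈ (S.map pr).comap (psi : Cfsg.Agent.SporadicA.J2Hundred.G →* J2) := by
    rw [h1]; trivial
  rw [Subgroup.mem_comap] at h2
  obtain ⟨s, hs, hs'⟩ := h2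
  have h3 : pr s = pr w := by
    rw [hs']
    exact psi.apply_symm_apply _
  have h4 : s⁻¹ * w ∈ center W := by
    rw [← pr_eq_one, map_mul, map_inv, h3, inv_mul_cancel]
  have h5 : w = s * (s⁻¹ * w) := by group
  rw [h5]
  refine S.mul_mem hs ?_
  rcases mem_center h4 with h | h
  · rw [h]; exact S.one_mem
  · rw [h]; exact hng

/-- **generation** -/
theorem gen {S : Subgroup W} (hng : ng ∈ S) (h1 : r1 ∈ S) (hn : nn ∈ S) (hG : gg ∈ S) (hI : Ii ∈ S)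
    (hJ : Jj ∈ S) : S = ⊤ :=
  gen_of hng fun p hp => by
    rw [tab_conj hp]
    have h := wd_cw_mem hn hG hI hJ p.2
    exact S.mul_mem (S.mul_mem h h1) (S.inv_mem h)

/-- generation by conjugates of `r1` -/
theorem gen_normal {S : Subgroup W} (hS : S.Normal) (hng : ng ∈ S) (h1 : r1 ∈ S) : S = ⊤ :=
  gen_of hng fun p hp => by
    rw [tab_conj hp]
    exact hS.conj_mem _ h1 _

end Cfsg.Agent.H905.JD
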