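import Cfsg.Agent.Mrg.Omega.FOne.Lift.SdIso
import Cfsg.Agent.H905.DCBound

/-!
# Simple modules in the defining characteristic: Levi subgroups (helper905)

`R : RGD cs h p T n X`, `ρ` simple in characteristic `p`, `D = V^U`.

* `cm ρ B N = [N, B]`;
* `Le J ρ = k[L_J] D` : the smallest nonzero `L_J`-invariant subspace of `V^{V_J}`; `Le_eq` : it is `V^{V_J}` (Smith);
* `pair_Le` : it is paired with the same space of the dual.
-/

set_option autoImplicit false
set_option linter.unusedSectionVars false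
set_option linter.style.haveILetI false

namespace Cfsg.Agent.H905.Md

open CoxeterSystem Cfsg.Agent.ChevalleyStructure.CoxeterGeom Cfsg.Agent.Tits.Roots Cfsg.Agent.Tits.Core
  Cfsg.Agent.Tits.Exchange Cfsg.Agent.Nodes.Reps Cfsg.Agent.Nodes.BNOf Cfsg.Agent.Nodes.StabComb
  Cfsg.Agent.Nodes.Bruhat Cfsg.Agent.Nodes.OppDec Cfsg.Agent.Nodes.LeviDec Cfsg.Agent.KFacts.RgdOpp
  Cfsg.Agent.Omega.CR Cfsg.Agent.Omega.FOne.Lift.Sd

section general

variable {Y k V : Type*} [Group Y] [Field k] [AddCommGroup V] [Module k V] (ρ : Y →* Module.End k V)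

/-- `[N, B]` -/
def cm (B : Subgroup Y) (N : Submodule k V) : Submodule k V :=
  Submodule.span k {w | ∃ b ∈ B, ∃ v ∈ N, ρ b v - v = w}

variable {ρ}

theorem mem_cm {B : Subgroup Y} {N : Submodule k V} {b : Y} (hb : b ∈ B) {v : V} (hv : v ∈ N) :
    ρ b v - v ∈ cm ρ B N := Submodule.subset_span ⟨b, hb, v, hv, rfl⟩

theorem cm_le {B : Subgroup Y} {N L : Submodule k V} (h : ∀ b ∈ B, ∀ v ∈ N, ρ b v - v ∈ L) : cm ρ B N ≤ L := by
  unfold cm
  rw [Submodule.span_le]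
  rintro _ ⟨b, hb, v, hv, rfl⟩
  exact h b hb v hv

theorem cm_mono {B B' : Subgroup Y} {N N' : Submodule k V} (hB : B ≤ B') (hN : N ≤ N') : cm ρ B N ≤ cm ρ B' N' :=
  cm_le fun _ hb _ hv => mem_cm (hB hb) (hN hv)

theorem apply_cm {B : Subgroup Y} {N : Submodule k V} {φ : Module.Dual k V} (hφ : φ ∈ fx (dualRep ρ) B) {v : V}
    (hv : v ∈ cm ρ B N) : φ v = 0 := by
  rw [mem_fx_dual] at hφ
  have h1 : cm ρ B N ≤ LinearMap.ker φ := cm_le fun b hb v _ => by
    rw [LinearMap.mem_ker, map_sub, hφ b hb, sub_self]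
  exact h1 hv

theorem map_cm (g : Y) (B : Subgroup Y) (N : Submodule k V) :
    (cm ρ B N).map (ρ g) = cm ρ (cj g B) (N.map (ρ g)) := by
  apply le_antisymm
  · rw [Submodule.map_le_iff_le_comap]
    refine cm_le fun b hb v hv => ?_
    have h1 : ρ g (ρ b v - v) = ρ (g * b * g⁻¹) (ρ g v) - ρ g v := by
      rw [map_sub, ← rho_mul, ← rho_mul]
      congr 3
      group
    rw [Submodule.mem_comap, h1]
    exact mem_cm (conj_mem_cj.2 hb) ⟨v, hv, rfl⟩
  · refine cm_le ?_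
    rintro b hb _ ⟨v, hv, rfl⟩
    rw [mem_cj] at hb
    refine ⟨ρ (g⁻¹ * b * g) v - v, mem_cm hb hv, ?_⟩
    rw [map_sub, ← rho_mul, ← rho_mul]
    congr 3
    group

theorem map_Sp (g : Y) (B : Subgroup Y) (N : Submodule k V) :
    (Sp ρ B N).map (ρ g) = Sp ρ (cj g B) (N.map (ρ g)) := by
  apply le_antisymm
  · rw [Submodule.map_le_iff_le_comap]
    unfold Sp
    rw [Submodule.span_le]
    rintro _ ⟨b, hb, v, hv, rfl⟩
    have h1 : ρ g (ρ b v) = ρ (g * b * g⁻¹) (ρ g v) := by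
      rw [← rho_mul, ← rho_mul]
      congr 2
      group
    rw [SetLike.mem_coe, Submodule.mem_comap, h1]
    exact mem_Sp ρ (conj_mem_cj.2 hb) ⟨v, hv, rfl⟩
  · conv_lhs => unfold Sp
    rw [Submodule.span_le]
    rintro _ ⟨b, hb, _, ⟨v, hv, rfl⟩, rfl⟩
    rw [mem_cj] at hb
    refine ⟨ρ (g⁻¹ * b * g) v, mem_Sp ρ hb hv, ?_⟩
    rw [← rho_mul, ← rho_mul]
    congr 2
    group

theorem map_fx (g : Y) (B : Subgroup Y) : (fx ρ B).map (ρ g) = fx ρ (cj g B) := by
  apply le_antisymm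
  · rintro _ ⟨v, hv, rfl⟩ b hb
    rw [mem_cj] at hb
    have h1 := hv _ hb
    have e : b * g = g * (g⁻¹ * b * g) := by group
    rw [← rho_mul, e, rho_mul, h1]
  · intro v hv
    refine ⟨ρ g⁻¹ v, ?_, rho_rho_inv ρ g v⟩
    intro b hb
    have h1 := hv _ ((conj_mem_cj (g := g)).2 hb)
    have e : b * g⁻¹ = g⁻¹ * (g * b * g⁻¹) := by group
    rw [← rho_mul, e, rho_mul, h1]

theorem Sp_le {B : Subgroup Y} {N L : Submodule k V} (hN : N ≤ L) (hL : Ivt ρ B L) : Sp ρ B N ≤ L := by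
  unfold Sp
  rw [Submodule.span_le]
  rintro _ ⟨b, hb, v, hv, rfl⟩
  exact hL b hb v (hN hv)

theorem Ivt_Sp (B : Subgroup Y) (N : Submodule k V) : Ivt ρ B (Sp ρ B N) := fun _ hb _ hv => rho_mem_Sp ρ hb hv

theorem Sp_mono_right {B : Subgroup Y} {N N' : Submodule k V} (h : N ≤ N') : Sp ρ B N ≤ Sp ρ B N' :=
  Sp_le (h.trans (le_Sp ρ)) (Ivt_Sp B N')

theorem Ivt.le_stS {B : Subgroup Y} {L : Submodule k V} (hB : Ivt ρ B L) : B ≤ stS ρ L :=
  fun g hg => mem_stS ρ (hB g hg) (hB _ (inv_mem hg))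

theorem Ivt.sup {B C : Subgroup Y} {L : Submodule k V} (hB : Ivt ρ B L) (hC : Ivt ρ C L) : Ivt ρ (B ⊔ C) L :=
  Ivt_of_le ρ (sup_le (Ivt.le_stS hB) (Ivt.le_stS hC))

theorem Ivt.mono {B C : Subgroup Y} (hBC : B ≤ C) {L : Submodule k V} (hC : Ivt ρ C L) : Ivt ρ B L :=
  fun b hb => hC b (hBC hb)

theorem Ivt.inf {B : Subgroup Y} {L L' : Submodule k V} (h : Ivt ρ B L) (h' : Ivt ρ B L') : Ivt ρ B (L ⊓ L') :=
  fun b hb v hv => ⟨h b hb v hv.1, h' b hb v hv.2⟩

theorem Ivt_fx {B : Subgroup Y} {L : Submodule k V} (h : L ≤ fx ρ B) : Ivt ρ B L := fun b hb v hv => by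
  rw [h hv b hb]; exact hv

/-- the fixed vectors of a normalised subgroup -/
theorem fx_Ivt {B C : Subgroup Y} (h : C ≤ Subgroup.normalizer (B : Set Y)) : Ivt ρ C (fx ρ B) := by
  intro g hg v hv b hb
  have h1 : g⁻¹ * b * g ∈ B := by
    have := (Subgroup.mem_normalizer_iff.1 (inv_mem (h hg)) b).1 hb
    rwa [inv_inv] at this
  have e : b * g = g * (g⁻¹ * b * g) := by group
  rw [← rho_mul, e, rho_mul, hv _ h1]

theorem fx_sup {B C : Subgroup Y} : fx ρ (B ⊔ C) = fx ρ B ⊓ fx ρ C := by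
  apply le_antisymm
  · exact fun v hv => ⟨fun b hb => hv b ((le_sup_left : B ≤ B ⊔ C) hb), fun b hb => hv b ((le_sup_right : C ≤ B ⊔ C) hb)⟩
  · rintro v ⟨hB, hC⟩
    let K : Subgroup Y :=
      { carrier := {g | ρ g v = v}
        one_mem' := rho_one ρ _
        mul_mem' := by
          intro a b (ha : ρ a _ = _) (hb : ρ b _ = _)
          change ρ (a * b) _ = _
          rw [rho_mul, hb, ha]
        inv_mem' := by
          intro a (ha : ρ a _ = _)
          change ρ a⁻¹ _ = _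
          conv_lhs => rw [← ha]
          exact rho_inv_rho ρ a _ }
    have h1 : B ⊔ C ≤ K := sup_le (fun b hb => hB b hb) (fun b hb => hC b hb)
    exact fun b hb => h1 hb

variable [FiniteDimensional k V]

/-- a pairing nondegenerate on the left -/
theorem finrank_le_of_pair {A : Submodule k V} {B : Submodule k (Module.Dual k V)}
    (h : ∀ v ∈ A, (∀ φ ∈ B, φ v = 0) → v = 0) : Module.finrank k A ≤ Module.finrank k B := by
  let Ψ : A →ₗ[k] Module.Dual k B :=
    { toFun := fun v =>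
        { toFun := fun φ => φ.1 v.1
          map_add' := fun _ _ => rfl
          map_smul' := fun _ _ => rfl }
      map_add' := fun v w => by
        ext φ
        exact map_add φ.1 v.1 w.1
      map_smul' := fun c v => by
        ext φ
        exact map_smul φ.1 c v.1 }
  have hΨ : Function.Injective Ψ := by
    rw [injective_iff_map_eq_zero]
    intro v hv
    apply Subtype.ext
    refine h v.1 v.2 fun φ hφ => ?_
    exact congrArg (fun ψ : Module.Dual k B => ψ ⟨φ, hφ⟩) hv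
  exact (LinearMap.finrank_le_finrank_of_injective hΨ).trans (Subspace.dual_finrank_eq (K := k) (V := B)).le

/-- a pairing nondegenerate on the right -/
theorem finrank_le_of_pair' {A : Submodule k V} {B : Submodule k (Module.Dual k V)}
    (h : ∀ φ ∈ B, (∀ v ∈ A, φ v = 0) → φ = 0) : Module.finrank k B ≤ Module.finrank k A := by
  let Φ : B →ₗ[k] Module.Dual k A :=
    { toFun := fun φ => φ.1.comp A.subtype
      map_add' := fun _ _ => rfl
      map_smul' := fun _ _ => rfl }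
  have hΦ : Function.Injective Φ := by
    rw [injective_iff_map_eq_zero]
    intro φ hφ
    apply Subtype.ext
    refine h φ.1 φ.2 fun v hv => ?_
    exact congrArg (fun ψ : Module.Dual k A => ψ ⟨v, hv⟩) hφ
  exact (LinearMap.finrank_le_finrank_of_injective hΦ).trans (Subspace.dual_finrank_eq (K := k) (V := A)).le

end general

/-! ### Levi subgroups -/

variable {I W Y : Type*} [Fintype I] [DecidableEq I] [Group W] [Group Y] {M : CoxeterMatrix I}
  {cs : CoxeterSystem M W} {A : I → I → ℤ} {h : IsCartan M A} {p : ℕ} {T : Subgroup Y} {n : I → Y}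
  {X : (I → ℤ) → Subgroup Y}

variable {k V : Type*} [Field k] [AddCommGroup V] [Module k V]

theorem LJ_opp (J : Set I) : LJ cs h T (fun x => X (-x)) J = LJ cs h T X J := by
  unfold LJ
  rw [Sup_opp]
  congr 2
  ext x
  exact ⟨fun h1 => by simpa using RootsJ.neg h1, fun h1 => RootsJ.neg h1⟩

theorem VJ_opp (J : Set I) : VJ cs h (fun x => X (-x)) J = VNJ cs h X J := by
  unfold VJ VNJ
  rw [Sup_opp]
  rfl

/-- `V^U` -/
def D (cs : CoxeterSystem M W) (h : IsCartan M A) (X : (I → ℤ) → Subgroup Y) (ρ : Y →* Module.End k V) :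
    Submodule k V := fx ρ (RGD.Sup X (RGD.Pos cs h))

/-- `k[L_J] V^U` -/
def Le (cs : CoxeterSystem M W) (h : IsCartan M A) (T : Subgroup Y) (X : (I → ℤ) → Subgroup Y)
    (ρ : Y →* Module.End k V) (J : Set I) : Submodule k V := Sp ρ (LJ cs h T X J) (D cs h X ρ)

/-- the dual object -/
def Les (cs : CoxeterSystem M W) (h : IsCartan M A) (T : Subgroup Y) (X : (I → ℤ) → Subgroup Y)
    (ρ : Y →* Module.End k V) (J : Set I) : Submodule k (Module.Dual k V) :=
  Sp (dualRep ρ) (LJ cs h T X J) (fx (dualRep ρ) (UN cs h X))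

theorem D_opp (ρ : Y →* Module.End k V) : D cs h (fun x => X (-x)) (dualRep ρ) = fx (dualRep ρ) (UN cs h X) := by
  unfold D
  rw [U_opp]

theorem Le_opp (ρ : Y →* Module.End k V) (J : Set I) :
    Le cs h T (fun x => X (-x)) (dualRep ρ) J = Les cs h T X ρ J := by
  unfold Le Les
  rw [D_opp, LJ_opp]

section

variable (R : RGD cs h p T n X) [Finite Y] [Finite W] [Fact p.Prime] [CharP k p]
  {ρ : Y →* Module.End k V}
include R

theorem Le_le_fx (J : Set I) : Le cs h T X ρ J ≤ fx ρ (VJ cs h X J) :=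
  Sp_le (fun _ hv b hb => hv b (VJ_le_U J hb)) (fx_Ivt (LJ_le_normalizer_VJ R J))

theorem Les_le_fx (J : Set I) : Les cs h T X ρ J ≤ fx (dualRep ρ) (VNJ cs h X J) := by
  rw [← Le_opp, ← VJ_opp]
  exact Le_le_fx (opp R) J

theorem Ivt_Le (J : Set I) : Ivt ρ (LJ cs h T X J) (Le cs h T X ρ J) := Ivt_Sp _ _

theorem Ivt_Les (J : Set I) : Ivt (dualRep ρ) (LJ cs h T X J) (Les cs h T X ρ J) := Ivt_Sp _ _

theorem D_le_Le (J : Set I) : D cs h X ρ ≤ Le cs h T X ρ J := le_Sp ρ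

theorem D_le_Les (J : Set I) : fx (dualRep ρ) (UN cs h X) ≤ Les cs h T X ρ J := le_Sp _

variable [FiniteDimensional k V] (hirr : ∀ L : Submodule k V, Ivt ρ (GG cs h T X) L → L = ⊥ ∨ L = ⊤)
include hirr

theorem D_ivt [Nontrivial V] : Ivt ρ T (D cs h X ρ) := (simp_fx R ρ hirr).inv

theorem hirr_opp (L : Submodule k (Module.Dual k V)) (hL : Ivt (dualRep ρ) (GG cs h T (fun x => X (-x))) L) :
    L = ⊥ ∨ L = ⊤ := dual_irr ρ (by rw [GG_opp]; exact hirr) L hL

/-- the smallest nonzero `L_J`-invariant subspace of `V^{V_J}` -/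
theorem Le_le {J : Set I} {L : Submodule k V} (hL0 : L ≠ ⊥) (hLV : L ≤ fx ρ (VJ cs h X J))
    (hL : Ivt ρ (LJ cs h T X J) L) : Le cs h T X ρ J ≤ L := by
  refine Sp_le (fx_le_of R ρ hirr hL0 ?_ (Ivt.mono T_le_LJ hL)) hL
  intro g hg v hv
  obtain ⟨u, hu, x, hx, rfl⟩ := (mem_U_iff R (J := J)).1 hg
  rw [rho_mul, hLV hv x hx]
  exact hL u (BJ_le_LJ (le_sup_right (a := T) hu)) v hv

theorem Les_le {J : Set I} {L : Submodule k (Module.Dual k V)} (hL0 : L ≠ ⊥)
    (hLV : L ≤ fx (dualRep ρ) (VNJ cs h X J)) (hL : Ivt (dualRep ρ) (LJ cs h T X J) L) : Les cs h T X ρ J ≤ L := by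
  rw [← Le_opp]
  refine Le_le (opp R) (ρ := dualRep ρ) (hirr_opp R hirr) hL0 (by rw [VJ_opp]; exact hLV) (by rw [LJ_opp]; exact hL)

theorem exists_pair_D [Nontrivial V] {v : V} (hv : v ∈ D cs h X ρ) (hv0 : v ≠ 0) :
    ∃ φ ∈ fx (dualRep ρ) (UN cs h X), φ v ≠ 0 := exists_pair R ρ hirr hv hv0

/-- **the pairing of `Le` and `Les`** -/
theorem pair_Le [Nontrivial V] {J : Set I} {v : V} (hv : v ∈ Le cs h T X ρ J) (h0 : ∀ φ ∈ Les cs h T X ρ J, φ v = 0) :
    v = 0 := by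
  by_contra hv0
  have h1 : Ivt ρ (LJ cs h T X J) (Le cs h T X ρ J ⊓ (Les cs h T X ρ J).dualCoannihilator) := by
    refine Ivt.inf (Ivt_Le R J) ?_
    intro g hg w hw
    rw [Submodule.mem_dualCoannihilator] at hw ⊢
    intro φ hφ
    have := hw _ (Ivt_Les R J g⁻¹ (inv_mem hg) φ hφ)
    rwa [dualRep_apply, inv_inv] at this
  have h2 := Le_le R hirr (J := J) (L := Le cs h T X ρ J ⊓ (Les cs h T X ρ J).dualCoannihilator)
    ((Submodule.ne_bot_iff _).2 ⟨v, ⟨hv, (Submodule.mem_dualCoannihilator v).2 h0⟩, hv0⟩)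
    (inf_le_left.trans (Le_le_fx R J)) h1
  obtain ⟨c, hc, hc0⟩ := (Submodule.ne_bot_iff _).1 (simp_fx R ρ hirr).ne
  obtain ⟨φ, hφ, hne⟩ := exists_pair_D R hirr hc hc0
  exact hne ((Submodule.mem_dualCoannihilator c).1 (h2 (D_le_Le R J hc)).2 φ (D_le_Les R J hφ))

theorem gen_opp [Nontrivial V] : Sp (dualRep ρ) (RGD.Sup X (RGD.Pos cs h)) (fx (dualRep ρ) (UN cs h X)) = ⊤ := by
  have h1 := gen_fx (opp R) (dualRep ρ) (hirr_opp R hirr)
  rwa [UN_opp, U_opp] at h1

/-- `V^{V_J}` is paired with `Les` -/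
theorem pair_fx [Nontrivial V] {J : Set I} {v : V} (hv : v ∈ fx ρ (VJ cs h X J))
    (h0 : ∀ φ ∈ Les cs h T X ρ J, φ v = 0) : v = 0 := by
  have key : ∀ φ : Module.Dual k V, φ v = 0 := by
    intro φ
    have hφ : φ ∈ Sp (dualRep ρ) (RGD.Sup X (RGD.Pos cs h)) (fx (dualRep ρ) (UN cs h X)) := by
      rw [gen_opp R hirr]; trivial
    induction hφ using Submodule.span_induction with
    | mem x hx =>
      obtain ⟨b, hb, m, hm, rfl⟩ := hx
      obtain ⟨u, hu, y, hy, rfl⟩ := (mem_U_iff R (J := J)).1 hb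
      have huL : u ∈ LJ cs h T X J := BJ_le_LJ (le_sup_right (a := T) hu)
      have h1 : ρ u⁻¹ v ∈ fx ρ (VJ cs h X J) := fx_Ivt (LJ_le_normalizer_VJ R J) _ (inv_mem huL) v hv
      rw [dualRep_apply, mul_inv_rev, rho_mul, h1 _ (inv_mem hy)]
      exact h0 _ (Ivt_Les R J u huL m (D_le_Les R J hm))
    | zero => rfl
    | add x y _ _ hx hy => rw [LinearMap.add_apply, hx, hy, add_zero]
    | smul c x _ hx => rw [LinearMap.smul_apply, hx, smul_zero]
  exact (Module.forall_dual_apply_eq_zero_iff k v).1 key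

end

end Cfsg.Agent.H905.Md
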