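import Cfsg.Agent.H905.MdA

/-!
# Simple modules in the defining characteristic: Smith's theorem and the type `J` (helper905)

* `Le_eq` : `V^{V_J} = k[L_J] V^U` (Smith); `finrank_Les`;
* `Jx` : the nodes `i` such that `X_{-i}` fixes `V^U`; `Jx_fix` : the root groups of `J` fix `V^U`;
* `le_cm` : `V^U ≤ [n_i V^U, X_i]` for `i ∉ J`;
* **`mem_WJ_of_pair`** : `φ (w v) ≠ 0` for `φ` fixed by `U⁻`, `v` fixed by `U` implies `w ∈ W_J`.
-/

set_option autoImplicit false
set_option linter.unusedSectionVars false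
set_option linter.style.haveILetI false

namespace Cfsg.Agent.H905.Md

open CoxeterSystem Cfsg.Agent.ChevalleyStructure.CoxeterGeom Cfsg.Agent.Tits.Roots Cfsg.Agent.Tits.Core
  Cfsg.Agent.Tits.Exchange Cfsg.Agent.Nodes.Reps Cfsg.Agent.Nodes.BNOf Cfsg.Agent.Nodes.StabComb
  Cfsg.Agent.Nodes.Bruhat Cfsg.Agent.Nodes.OppDec Cfsg.Agent.Nodes.LeviDec Cfsg.Agent.KFacts.RgdOpp
  Cfsg.Agent.Omega.CR Cfsg.Agent.Omega.FOne.Lift.Sd

variable {I W Y : Type*} [Fintype I] [DecidableEq I] [Group W] [Group Y] {M : CoxeterMatrix I}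
  {cs : CoxeterSystem M W} {A : I → I → ℤ} {h : IsCartan M A} {p : ℕ} {T : Subgroup Y} {n : I → Y}
  {X : (I → ℤ) → Subgroup Y}

variable {k V : Type*} [Field k] [AddCommGroup V] [Module k V]

/-- the nodes `i` such that `X_{-i}` fixes `V^U` -/
def Jx (cs : CoxeterSystem M W) (h : IsCartan M A) (X : (I → ℤ) → Subgroup Y) (ρ : Y →* Module.End k V) : Set I :=
  {i | ∀ x ∈ X (-sr i), ∀ v ∈ D cs h X ρ, ρ x v = v}

section

variable (R : RGD cs h p T n X) [Finite Y] [Finite W] [Fact p.Prime] [CharP k p]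
  {ρ : Y →* Module.End k V} [FiniteDimensional k V]
  (hirr : ∀ L : Submodule k V, Ivt ρ (GG cs h T X) L → L = ⊥ ∨ L = ⊤)
include R hirr

omit hirr in
theorem dual_fx_pair {B : Subgroup Y} {φ : Module.Dual k V} (hφ : φ ∈ fx (dualRep ρ) B) {b : Y} (hb : b ∈ B) (v : V) :
    φ (ρ b v) = φ v := (mem_fx_dual ρ).1 hφ b hb v

/-- the dual of `pair_fx` -/
theorem pair_fx' [Nontrivial V] {J : Set I} {φ : Module.Dual k V} (hφ : φ ∈ fx (dualRep ρ) (VNJ cs h X J))
    (h0 : ∀ v ∈ Le cs h T X ρ J, φ v = 0) : φ = 0 := by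
  have hgen := gen_fx R ρ hirr
  ext v
  have hv : v ∈ Sp ρ (UN cs h X) (fx ρ (RGD.Sup X (RGD.Pos cs h))) := by rw [hgen]; trivial
  change φ v = 0
  induction hv using Submodule.span_induction with
  | mem x hx =>
    obtain ⟨b, hb, m, hm, rfl⟩ := hx
    have hb' : b ∈ RGD.Sup (fun x => X (-x)) (RGD.Pos cs h) := by rw [U_opp]; exact hb
    obtain ⟨u, hu, y, hy, rfl⟩ := (mem_U_iff (opp R) (J := J)).1 hb'
    have huL : u ∈ LJ cs h T X J := by
      rw [← LJ_opp]
      exact BJ_le_LJ (le_sup_right (a := T) hu)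
    rw [VJ_opp] at hy
    have hy' : u * y * u⁻¹ ∈ VNJ cs h X J :=
      (Subgroup.mem_normalizer_iff.1 (LJ_le_normalizer_VNJ R J huL) y).1 hy
    have e : u * y = (u * y * u⁻¹) * u := by group
    rw [e, rho_mul, dual_fx_pair R hφ hy']
    exact h0 _ (Ivt_Le R J u huL m (D_le_Le R J hm))
  | zero => exact map_zero φ
  | add x y _ _ hx hy => rw [map_add, hx, hy, add_zero]
  | smul c x _ hx => rw [map_smul, hx, smul_zero]

/-- the four dimensions agree -/
theorem finrank_chain [Nontrivial V] (J : Set I) :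
    Module.finrank k (fx ρ (VJ cs h X J)) = Module.finrank k (Le cs h T X ρ J) ∧
    Module.finrank k (Les cs h T X ρ J) = Module.finrank k (Le cs h T X ρ J) := by
  have e1 := finrank_le_of_pair (A := fx ρ (VJ cs h X J)) (B := Les cs h T X ρ J) fun v hv h0 => pair_fx R hirr hv h0
  have e2 := Submodule.finrank_mono (Les_le_fx R (ρ := ρ) J)
  have e3 := finrank_le_of_pair' (A := Le cs h T X ρ J) (B := fx (dualRep ρ) (VNJ cs h X J))
    fun φ hφ h0 => pair_fx' R hirr hφ h0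
  have e4 := Submodule.finrank_mono (Le_le_fx R (ρ := ρ) J)
  omega

/-- **Smith's theorem.** -/
theorem Le_eq [Nontrivial V] (J : Set I) : Le cs h T X ρ J = fx ρ (VJ cs h X J) :=
  Submodule.eq_of_le_of_finrank_le (Le_le_fx R J) (finrank_chain R hirr J).1.le

theorem finrank_Les [Nontrivial V] (J : Set I) :
    Module.finrank k (Les cs h T X ρ J) = Module.finrank k (Le cs h T X ρ J) := (finrank_chain R hirr J).2

omit hirr in
theorem X_neg_fix {i : I} (hi : i ∈ Jx cs h X ρ) {v : V} (hv : v ∈ D cs h X ρ) {x : Y} (hx : x ∈ X (-sr i)) :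
    ρ x v = v := hi x hx v hv

/-- `n_i` preserves `V^U` for `i ∈ J` -/
theorem n_D [Nontrivial V] {i : I} (hi : i ∈ Jx cs h X ρ) {v : V} (hv : v ∈ D cs h X ρ) : ρ (n i) v ∈ D cs h X ρ := by
  obtain ⟨u, hu, hu1⟩ := (X (-sr i)).bot_or_exists_ne_one.resolve_left (X_ne_bot R (isRoot_sr cs h i).neg)
  obtain ⟨a, ha, t, ht, b, hb, e⟩ := R.rk1 i u hu hu1
  have h1 : n i = t⁻¹ * (a⁻¹ * (u * b⁻¹)) := by rw [e]; group
  have h2 : ρ (n i) v = ρ t⁻¹ v := by
    rw [h1, rho_mul, rho_mul, rho_mul, X_fix R ρ hv i (inv_mem hb), hi u hu v hv, X_fix R ρ hv i (inv_mem ha)]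
  rw [h2]
  exact D_ivt R hirr t⁻¹ (inv_mem ht) v hv

theorem n_inv_D [Nontrivial V] {i : I} (hi : i ∈ Jx cs h X ρ) {v : V} (hv : v ∈ D cs h X ρ) :
    ρ (n i)⁻¹ v ∈ D cs h X ρ := by
  have h1 : (n i)⁻¹ = (n i * n i)⁻¹ * n i := by group
  rw [h1, rho_mul]
  exact D_ivt R hirr _ (inv_mem (R.sq_mem_T i)) _ (n_D R hirr hi hv)

/-- the representatives of `W_J` preserve `V^U` -/
theorem rp_D [Nontrivial V] {w : W} (hw : w ∈ WJ cs (Jx cs h X ρ)) {g : Y} (hg : Rp cs R.nsys w g) {v : V}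
    (hv : v ∈ D cs h X ρ) : ρ g v ∈ D cs h X ρ := by
  obtain ⟨ω, hω, rfl⟩ := exists_word_of_mem_WJ cs hw
  clear hw
  induction ω generalizing g with
  | nil =>
    rw [wordProd_nil] at hg
    exact D_ivt R hirr g hg.mem_of_one v hv
  | cons i ω ih =>
    have hω' : ∀ j ∈ ω, j ∈ Jx cs h X ρ := fun j hj => hω j (by simp [hj])
    rw [wordProd_cons] at hg
    have h1 : Rp cs R.nsys (cs.wordProd ω) ((n i)⁻¹ * g) := by
      have := (rp_simple cs R.nsys i).inv.mul hg
      rwa [inv_mul_cancel_left] at this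
    have h2 := ih hω' h1
    have h3 : g = n i * ((n i)⁻¹ * g) := by group
    rw [h3, rho_mul]
    exact n_D R hirr (hω i (by simp)) h2

/-- the root groups of `J` fix `V^U` -/
theorem X_fix_J [Nontrivial V] {x : I → ℤ} (hx : x ∈ RootsJ cs h (Jx cs h X ρ)) {u : Y} (hu : u ∈ X x) {v : V}
    (hv : v ∈ D cs h X ρ) : ρ u v = v := by
  obtain ⟨w, hw, j, hj, rfl⟩ := exists_of_mem_RootsJ hx
  obtain ⟨g, hg⟩ := exists_rp cs R.nsys w
  have h1 := R.conj_mem' hg ((isRoot_sr cs h j).act w) hu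
  rw [rep_inv_apply] at h1
  have h2 : ρ g⁻¹ v ∈ D cs h X ρ := rp_D R hirr (inv_mem hw) hg.inv hv
  have e : u = g * (g⁻¹ * u * g) * g⁻¹ := by group
  rw [e, rho_mul, rho_mul, X_fix R ρ h2 j h1, rho_rho_inv]

/-- `L_J` preserves `V^U` -/
theorem LJ_D [Nontrivial V] : Ivt ρ (LJ cs h T X (Jx cs h X ρ)) (D cs h X ρ) := by
  unfold LJ
  refine Ivt.sup (D_ivt R hirr) ?_
  refine Ivt_of_le ρ (RGD.Sup_le fun x hx => Ivt.le_stS fun u hu v hv => ?_)
  rw [X_fix_J R hirr hx hu hv]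
  exact hv

/-- **`V^U ≤ [n_i V^U, X_i]` for `i ∉ J`** -/
theorem le_cm [Nontrivial V] {i : I} (hi : i ∉ Jx cs h X ρ) :
    D cs h X ρ ≤ cm ρ (X (sr i)) ((D cs h X ρ).map (ρ (n i))) := by
  have hfixV : ∀ g ∈ RGD.Sup X (RGD.PosNe cs h i), ∀ v ∈ D cs h X ρ, ρ g (ρ (n i) v) = ρ (n i) v := by
    intro g hg v hv
    have h2 : (n i)⁻¹ * g * n i ∈ RGD.Sup X (RGD.PosNe cs h i) := by
      have := R.cj_n_V i
      rw [← this, mem_cj] at hg
      exact hg
    have h3 : (n i)⁻¹ * g * n i ∈ RGD.Sup X (RGD.Pos cs h) :=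
      RGD.Sup_mono (S := RGD.PosNe cs h i) (S' := RGD.Pos cs h) (fun z hz => ⟨hz.1, hz.2.1⟩) h2
    have e : g * n i = n i * ((n i)⁻¹ * g * n i) := by group
    rw [← rho_mul, e, rho_mul, hv _ h3]
  refine fx_le_of R ρ hirr ?_ ?_ ?_
  · intro h0
    apply hi
    intro x hx v hv
    have hx' : n i * x * (n i)⁻¹ ∈ X (sr i) := by
      have := R.conj_mem (rp_simple cs R.nsys i) (isRoot_sr cs h i).neg hx
      rwa [map_neg, rep_simple_sr, neg_neg] at this
    have h1 := mem_cm (ρ := ρ) hx' (N := (D cs h X ρ).map (ρ (n i))) ⟨v, hv, rfl⟩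
    rw [h0, Submodule.mem_bot, sub_eq_zero, ← rho_mul] at h1
    have e : n i * x * (n i)⁻¹ * n i = n i * x := by group
    rw [e, rho_mul] at h1
    have h2 := congrArg (ρ (n i)⁻¹) h1
    rwa [rho_inv_rho, rho_inv_rho] at h2
  · rw [R.Upos_eq i]
    refine Ivt.sup ?_ ?_
    · intro y hy w hw
      unfold cm at hw
      induction hw using Submodule.span_induction with
      | mem x hx =>
        obtain ⟨b, hb, v, hv, rfl⟩ := hx
        have e : ρ y (ρ b v - v) = (ρ (y * b) v - v) - (ρ y v - v) := by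
          rw [map_sub, rho_mul]; abel
        rw [e]
        exact Submodule.sub_mem _ (mem_cm (mul_mem hy hb) hv) (mem_cm hy hv)
      | zero => rw [map_zero]; exact zero_mem _
      | add x y _ _ hx hy => rw [map_add]; exact add_mem hx hy
      | smul a x _ hx => rw [map_smul]; exact Submodule.smul_mem _ _ hx
    · intro y hy w hw
      unfold cm at hw
      induction hw using Submodule.span_induction with
      | mem x hx =>
        obtain ⟨b, hb, _, ⟨v, hv, rfl⟩, rfl⟩ := hx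
        have h1 : b⁻¹ * y * b ∈ RGD.Sup X (RGD.PosNe cs h i) := by
          have h2 := (Subgroup.mem_normalizer_iff.1 (inv_mem (R.X_le_normalizer_V i hb)) y).1 hy
          rwa [inv_inv] at h2
        have e : y * b = b * (b⁻¹ * y * b) := by group
        have e2 : ρ y (ρ b (ρ (n i) v) - ρ (n i) v) = ρ b (ρ (n i) v) - ρ (n i) v := by
          rw [map_sub, ← rho_mul, e, rho_mul, hfixV _ h1 v hv, hfixV _ hy v hv]
        rw [e2]
        exact mem_cm hb ⟨v, hv, rfl⟩
      | zero => rw [map_zero]; exact zero_mem _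
      | add x y _ _ hx hy => rw [map_add]; exact add_mem hx hy
      | smul a x _ hx => rw [map_smul]; exact Submodule.smul_mem _ _ hx
  · intro t ht w hw
    unfold cm at hw
    induction hw using Submodule.span_induction with
    | mem x hx =>
      obtain ⟨b, hb, _, ⟨v, hv, rfl⟩, rfl⟩ := hx
      have h1 : t * b * t⁻¹ ∈ X (sr i) := by
        rw [← R.tor _ (isRoot_sr cs h i) t ht]
        exact conj_mem_cj.2 hb
      have e2 : ρ t (ρ b (ρ (n i) v) - ρ (n i) v) =
          ρ (t * b * t⁻¹) (ρ (n i) (ρ ((n i)⁻¹ * t * n i) v)) - ρ (n i) (ρ ((n i)⁻¹ * t * n i) v) := by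
        rw [map_sub]
        simp only [← rho_mul]
        congr 3 <;> group
      rw [e2]
      refine mem_cm h1 ⟨_, D_ivt R hirr _ ?_ v hv, rfl⟩
      have h3 := inv_mem (R.nsys.norm i)
      have h4 := (Subgroup.mem_normalizer_iff.1 h3 t).1 ht
      rwa [inv_inv] at h4
    | zero => rw [map_zero]; exact zero_mem _
    | add x y _ _ hx hy => rw [map_add]; exact add_mem hx hy
    | smul a x _ hx => rw [map_smul]; exact Submodule.smul_mem _ _ hx

/-- **`φ (w v) ≠ 0` implies `w ∈ W_J`** -/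
theorem mem_WJ_of_pair [Nontrivial V] {φ : Module.Dual k V} (hφ : φ ∈ fx (dualRep ρ) (UN cs h X)) {w : W} {g : Y}
    (hg : Rp cs R.nsys w g) {v : V} (hv : v ∈ D cs h X ρ) (hne : φ (ρ g v) ≠ 0) : w ∈ WJ cs (Jx cs h X ρ) := by
  have key : ∀ m : ℕ, ∀ w g v, cs.length w = m → Rp cs R.nsys w g → v ∈ D cs h X ρ → φ (ρ g v) ≠ 0 →
      w ∈ WJ cs (Jx cs h X ρ) := by
    intro m
    induction m with
    | zero =>
      intro w g v hm _ _ _
      rw [cs.length_eq_zero_iff.1 hm]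
      exact one_mem _
    | succ m ih =>
      intro w g v hm hg hv hne
      have hw1 : w ≠ 1 := by
        intro h1
        rw [h1, cs.length_one] at hm
        omega
      obtain ⟨i, hi⟩ := cs.exists_rightDescent_of_ne_one hw1
      rw [cs.isRightDescent_iff] at hi
      have hneg : rep cs h w (sr i) ≤ 0 := nonpos_of_lt cs h w i (by omega)
      have hiJ : i ∈ Jx cs h X ρ := by
        by_contra hiJ
        apply hne
        have h1 : ρ g v ∈ cm ρ (UN cs h X) ⊤ := by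
          have h2 : ρ g v ∈ (cm ρ (X (sr i)) ((D cs h X ρ).map (ρ (n i)))).map (ρ g) := ⟨v, le_cm R hirr hiJ hv, rfl⟩
          rw [map_cm, R.conj_rp hg (isRoot_sr cs h i)] at h2
          exact cm_mono (X_le_UN ((isRoot_sr cs h i).act w) hneg) le_top h2
        exact apply_cm hφ h1
      have hg' : Rp cs R.nsys (w * cs.simple i) (g * (n i)⁻¹) := by
        have := hg.mul (rp_simple cs R.nsys i).inv
        rwa [cs.inv_simple] at this
      have h1 := ih (w * cs.simple i) (g * (n i)⁻¹) (ρ (n i) v) (by omega) hg' (n_D R hirr hiJ hv) (by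
        rw [rho_mul, rho_inv_rho]; exact hne)
      have h2 : w = w * cs.simple i * cs.simple i := by rw [cs.simple_mul_simple_cancel_right]
      rw [h2]
      exact mul_mem h1 (Subgroup.subset_closure ⟨i, hiJ, rfl⟩)
  exact key _ w g v rfl hg hv hne

end

end Cfsg.Agent.H905.Md
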