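import Cfsg.Agent.H905.MdD
import Cfsg.Agent.Nodes.RootsA

/-!
# Simple modules in the defining characteristic, type `A` (helper905)

`m = l + 1`, `W = S_m`.

* `exists_perm`, `exists_rep_perm` : the elements of `W` and the permutations of `Fin (l + 1)`;
* `not_mem_WJ`, `mem_WJ_of_perm`;
* `sum_ge_A` : the lower bound `C(m, i + 1) δ + C(m, 2) (d_i - 2 δ) ≤ dim V` for `i ∉ J`;
* `dim_le_A` : the upper bound `dim V ≤ C(m, i + 1) δ` if `J = {i}ᶜ`, `d_i ≤ 2 δ`.
-/

set_option autoImplicit false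
set_option linter.unusedSectionVars false
set_option linter.style.haveILetI false

namespace Cfsg.Agent.H905.Md

open CoxeterSystem Cfsg.Agent.ChevalleyStructure.CoxeterGeom Cfsg.Agent.Tits.Roots Cfsg.Agent.Tits.Core
  Cfsg.Agent.Tits.Exchange Cfsg.Agent.Nodes.Reps Cfsg.Agent.Nodes.BNOf Cfsg.Agent.Nodes.StabComb
  Cfsg.Agent.Nodes.Bruhat Cfsg.Agent.Nodes.OppDec Cfsg.Agent.Nodes.LeviDec Cfsg.Agent.KFacts.RgdOpp
  Cfsg.Agent.Omega.CR Cfsg.Agent.Omega.FOne.Lift.Sd Cfsg.Agent.Nodes.RootsA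
open Cfsg.Agent.LieRecognition.BNCox (cA cA_apply)

/-- the same type -/
theorem sameEdge_type {I W : Type*} [Fintype I] [DecidableEq I] [Group W] {M : CoxeterMatrix I}
    {cs : CoxeterSystem M W} {A : I → I → ℤ} {h : IsCartan M A} {J : Set I} {w w' : W} {i i' : I} 
    (hi' : i' ∉ J) (he : SameEdge cs h J w i w' i') : i = i' := by
  by_contra hne
  rcases he with ⟨h1, h2⟩ | ⟨h1, h2⟩
  · have h3 : rep cs h (w⁻¹ * w') (sr i') = sr i := by rw [rep_mul_apply, ← h1, rep_inv_apply]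
    have h4 := coord_of_mem_WJ (h := h) h2 (sr i') hi'
    rw [h3, sr_self, sr_ne (Ne.symm hne)] at h4
    omega
  · have h3 : rep cs h (w⁻¹ * (w' * cs.simple i')) (sr i') = sr i := by
      rw [rep_mul_apply, rep_mul_apply, rep_simple_sr, map_neg, ← h1, rep_inv_apply]
    have h4 := coord_of_mem_WJ (h := h) h2 (sr i') hi'
    rw [h3, sr_self, sr_ne (Ne.symm hne)] at h4
    omega

section perm

variable {l : ℕ} {W : Type*} [Group W] (cs : CoxeterSystem (cA l) W) {A : Fin l → Fin l → ℤ}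
  (h : IsCartan (cA l) A)

/-- `w` acts as the permutation `σ` -/
def IsPm (w : W) (σ : Equiv.Perm (Fin (l + 1))) : Prop := ∀ a b, rep cs h w (rtA a b) = rtA (σ a) (σ b)

variable {cs h}

theorem IsPm.mul {w w' : W} {σ σ' : Equiv.Perm (Fin (l + 1))} (hw : IsPm cs h w σ) (hw' : IsPm cs h w' σ') :
    IsPm cs h (w * w') (σ * σ') := fun a b => by
  rw [rep_mul_apply, hw', hw]; rfl

theorem IsPm.one : IsPm cs h 1 1 := fun a b => by
  rw [map_one, Module.End.one_apply]; rfl

theorem IsPm.inv {w : W} {σ : Equiv.Perm (Fin (l + 1))} (hw : IsPm cs h w σ) : IsPm cs h w⁻¹ σ⁻¹ := fun a b => by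
  have h1 := hw (σ⁻¹ a) (σ⁻¹ b)
  rw [show σ (σ⁻¹ a) = a from σ.apply_symm_apply a, show σ (σ⁻¹ b) = b from σ.apply_symm_apply b] at h1
  rw [← h1, rep_inv_apply]

theorem IsPm.simple (i : Fin l) : IsPm cs h (cs.simple i) (Equiv.swap i.castSucc i.succ) :=
  fun a b => rep_simple_rtA cs h i a b

theorem exists_perm (w : W) : ∃ σ, IsPm cs h w σ := by
  obtain ⟨ω, rfl⟩ := cs.wordProd_surjective w
  induction ω with
  | nil => exact ⟨1, by rw [wordProd_nil]; exact IsPm.one⟩
  | cons j ω ih =>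
    obtain ⟨σ, hσ⟩ := ih
    exact ⟨_, by rw [wordProd_cons]; exact (IsPm.simple j).mul hσ⟩

theorem exists_rep_perm (σ : Equiv.Perm (Fin (l + 1))) : ∃ w : W, IsPm cs h w σ := by
  have h1 : σ ∈ Submonoid.closure (Set.range fun i : Fin l => Equiv.swap i.castSucc i.succ) := by
    rw [Equiv.Perm.mclosure_swap_castSucc_succ]; trivial
  induction h1 using Submonoid.closure_induction with
  | mem x hx =>
    obtain ⟨i, rfl⟩ := hx
    exact ⟨_, IsPm.simple i⟩
  | one => exact ⟨1, IsPm.one⟩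
  | mul x y _ _ hx hy =>
    obtain ⟨w, hw⟩ := hx
    obtain ⟨w', hw'⟩ := hy
    exact ⟨_, hw.mul hw'⟩

theorem rtA_coord (a b : Fin (l + 1)) (k : Fin l) :
    rtA a b k = (if a.val ≤ k.val then 1 else 0) - (if b.val ≤ k.val then 1 else 0) := rtA_apply a b k

theorem not_mem_WJ {J : Set (Fin l)} {w w' : W} {σ σ' : Equiv.Perm (Fin (l + 1))} (hw : IsPm cs h w σ)
    (hw' : IsPm cs h w' σ') {i : Fin l} (hi : i ∉ J) {a : Fin (l + 1)} (ha : (σ⁻¹ a).val ≤ i.val)
    (ha' : ¬ (σ'⁻¹ a).val ≤ i.val) : w⁻¹ * w' ∉ WJ cs J := by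
  intro hmem
  have h1 := coord_of_mem_WJ (h := h) hmem (rtA 0 (σ'⁻¹ a)) hi
  rw [(hw.inv.mul hw') 0 (σ'⁻¹ a), rtA_coord, rtA_coord] at h1
  have e : (σ⁻¹ * σ') (σ'⁻¹ a) = σ⁻¹ a := by simp
  rw [e, if_pos ha, if_neg ha', Fin.val_zero, if_pos (Nat.zero_le _)] at h1
  split_ifs at h1 <;> omega

theorem mem_WJ_of_perm {i : Fin l} {w : W} {σ : Equiv.Perm (Fin (l + 1))} (hw : IsPm cs h w σ)
    (hσ : ∀ c, (σ c).val ≤ i.val ↔ c.val ≤ i.val) {J : Set (Fin l)} (hJ : ∀ j, j ∉ J → j = i) : w ∈ WJ cs J := by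
  rw [mem_WJ_iff (h := h)]
  intro x j hj
  rw [hJ j hj]
  have h1 : (LinearMap.proj i : (Fin l → ℤ) →ₗ[ℤ] ℤ).comp (rep cs h w) = LinearMap.proj i := by
    refine LinearMap.pi_ext' fun j => LinearMap.ext_ring ?_
    change rep cs h w (Pi.single j 1) i = (Pi.single j (1 : ℤ) : Fin l → ℤ) i
    have h2 : (Pi.single j (1 : ℤ) : Fin l → ℤ) = rtA j.castSucc j.succ := (rtA_sr j).symm
    rw [h2, hw, rtA_coord, rtA_coord]
    simp only [hσ]
  exact congrArg (fun f : (Fin l → ℤ) →ₗ[ℤ] ℤ => f x) h1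

/-- a permutation mapping `{≤ i}` onto a set of `i + 1` elements -/
theorem exists_perm_set (i : Fin l) (S : Finset (Fin (l + 1))) (hS : S.card = i.val + 1) :
    ∃ σ : Equiv.Perm (Fin (l + 1)), ∀ a, (σ⁻¹ a).val ≤ i.val ↔ a ∈ S := by
  classical
  have h1 : Fintype.card {x : Fin (l + 1) // x.val ≤ i.val} = Fintype.card {x // x ∈ S} := by
    rw [Fintype.card_coe, hS, Fintype.card_subtype]
    have h2 : (Finset.univ.filter fun x : Fin (l + 1) => x.val ≤ i.val) = Finset.Iic i.castSucc := by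
      ext x
      simp [Fin.le_def]
    rw [h2, Fin.card_Iic]
    rfl
  obtain ⟨e⟩ := Fintype.card_eq.1 h1
  refine ⟨e.extendSubtype, fun a => ?_⟩
  constructor
  · intro ha
    have h3 := e.extendSubtype_mem _ ha
    rwa [show e.extendSubtype ((e.extendSubtype)⁻¹ a) = a from (e.extendSubtype).apply_symm_apply a] at h3
  · intro ha
    by_contra h3
    have h4 := e.extendSubtype_not_mem _ h3
    rw [show e.extendSubtype ((e.extendSubtype)⁻¹ a) = a from (e.extendSubtype).apply_symm_apply a] at h4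
    exact h4 ha

end perm

theorem card_pairs (m : ℕ) : Fintype.card {q : Fin m × Fin m // q.1 < q.2} = m.choose 2 := by
  classical
  rw [← Fintype.card_fin m, ← Fintype.card_finset_len, Fintype.card_fin]
  refine Fintype.card_congr (Equiv.ofBijective (fun q => ⟨{q.1.1, q.1.2}, Finset.card_pair q.2.ne⟩) ⟨?_, ?_⟩)
  · rintro ⟨⟨a, b⟩, hab⟩ ⟨⟨a', b'⟩, hab'⟩ h
    have h1 : ({a, b} : Finset (Fin m)) = {a', b'} := congrArg Subtype.val h
    simp only at hab hab'
    have ha : a ∈ ({a', b'} : Finset (Fin m)) := by rw [← h1]; simp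
    have hb : b ∈ ({a', b'} : Finset (Fin m)) := by rw [← h1]; simp
    have ha' : a' ∈ ({a, b} : Finset (Fin m)) := by rw [h1]; simp
    simp only [Finset.mem_insert, Finset.mem_singleton] at ha hb ha'
    have h3 : a = a' ∧ b = b' := by
      rcases ha with ha | ha <;> rcases hb with hb | hb <;> rcases ha' with ha' | ha' <;>
        first
        | exact ⟨ha, hb⟩
        | (exfalso; omega)
    apply Subtype.ext
    exact Prod.ext h3.1 h3.2
  · rintro ⟨S, hS⟩
    obtain ⟨a, b, hab, rfl⟩ := Finset.card_eq_two.1 hS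
    rcases lt_or_gt_of_ne hab with h | h
    · exact ⟨⟨(a, b), h⟩, rfl⟩
    · exact ⟨⟨(b, a), h⟩, Subtype.ext (Finset.pair_comm b a)⟩

section

variable {l : ℕ} {W Y : Type*} [Group W] [Group Y] {cs : CoxeterSystem (cA l) W} {A : Fin l → Fin l → ℤ}
  {h : IsCartan (cA l) A} {p : ℕ} {T : Subgroup Y} {n : Fin l → Y} {X : (Fin l → ℤ) → Subgroup Y}
  {k V : Type*} [Field k] [AddCommGroup V] [Module k V]
  (R : RGD cs h p T n X) [Finite Y] [Finite W] [Fact p.Prime] [CharP k p]
  {ρ : Y →* Module.End k V} [FiniteDimensional k V]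
  (hirr : ∀ L : Submodule k V, Ivt ρ (GG cs h T X) L → L = ⊥ ∨ L = ⊤)
include R hirr

/-- **lower bound, permutations** -/
theorem dim_ge_perm [Nontrivial V] {α β : Type*} [Fintype α] [Fintype β] (σ : α → Equiv.Perm (Fin (l + 1)))
    (hσ : ∀ a a', a ≠ a' → ∃ i, i ∉ Jx cs h X ρ ∧ ∃ c, ((σ a)⁻¹ c).val ≤ i.val ∧ ¬ ((σ a')⁻¹ c).val ≤ i.val)
    (ab : β → Fin (l + 1) × Fin (l + 1)) (hab : ∀ b, (ab b).1 < (ab b).2) (i : β → Fin l)
    (hi : ∀ b, i b ∉ Jx cs h X ρ) (hinj : ∀ b b', i b = i b' → ab b = ab b' → b = b') :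
    Fintype.card α * Module.finrank k (D cs h X ρ) + ∑ b, Module.finrank k (Io cs h T X ρ (i b)) ≤
      Module.finrank k V := by
  choose w hw using fun a => exists_rep_perm (cs := cs) (h := h) (σ a)
  have h2 : ∀ b, ∃ u : W, rep cs h u (sr (i b)) = rtA (ab b).1 (ab b).2 := by
    intro b
    have hne : (i b).castSucc ≠ (i b).succ := (Fin.castSucc_lt_succ).ne
    obtain ⟨τ, h3, h4⟩ : ∃ τ : Equiv.Perm (Fin (l + 1)), τ (i b).castSucc = (ab b).1 ∧ τ (i b).succ = (ab b).2 := by
      refine ⟨Equiv.swap (Equiv.swap (i b).castSucc (ab b).1 (i b).succ) (ab b).2 *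
        Equiv.swap (i b).castSucc (ab b).1, ?_, ?_⟩
      · rw [Equiv.Perm.mul_apply, Equiv.swap_apply_left]
        apply Equiv.swap_apply_of_ne_of_ne
        · intro e
          have h5 := Equiv.swap_apply_left (i b).castSucc (ab b).1
          exact hne ((Equiv.swap (i b).castSucc (ab b).1).injective (h5.trans e))
        · exact (hab b).ne
      · rw [Equiv.Perm.mul_apply, Equiv.swap_apply_left]
    obtain ⟨u, hu⟩ := exists_rep_perm (cs := cs) (h := h) τ
    exact ⟨u, by rw [← rtA_sr, hu, h3, h4]⟩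
  choose u hu using h2
  refine dim_ge R hirr w (fun a a' haa => ?_) u i fun b b' hbb he => ?_
  · obtain ⟨i, hi, c, h3, h4⟩ := hσ a a' haa
    exact not_mem_WJ (hw a) (hw a') hi h3 h4
  · have h3 := sameEdge_type (hi b') he
    rcases he with ⟨h4, -⟩ | ⟨h4, -⟩
    · rw [hu, hu] at h4
      obtain ⟨e1, e2⟩ := rtA_inj (hab b).ne h4
      exact hbb (hinj b b' h3 (Prod.ext e1 e2))
    · rw [hu, hu, rtA_neg] at h4
      obtain ⟨e1, e2⟩ := rtA_inj (hab b).ne h4
      have h5 := hab b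
      have h6 := hab b'
      rw [e1, e2] at h5
      exact absurd h5 (not_lt.2 h6.le)

/-- **lower bound** -/
theorem dim_ge_A [Nontrivial V] {i : Fin l} (hi : i ∉ Jx cs h X ρ) :
    (l + 1).choose (i.val + 1) * Module.finrank k (D cs h X ρ) +
      (l + 1).choose 2 * Module.finrank k (Io cs h T X ρ i) ≤ Module.finrank k V := by
  classical
  choose σ hσ using fun S : {S : Finset (Fin (l + 1)) // S.card = i.val + 1} => exists_perm_set i S.1 S.2
  have h1 := dim_ge_perm R hirr (α := {S : Finset (Fin (l + 1)) // S.card = i.val + 1})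
    (β := {q : Fin (l + 1) × Fin (l + 1) // q.1 < q.2}) σ (by
      intro S S' hSS
      by_contra hcon
      push Not at hcon
      have h2 : S.1 ⊆ S'.1 := by
        intro c hc
        have := hcon i hi c ((hσ S c).2 hc)
        exact (hσ S' c).1 this
      exact hSS (Subtype.ext (Finset.eq_of_subset_of_card_le h2 (by rw [S.2, S'.2]))))
    (fun q => q.1) (fun q => q.2) (fun _ => i) (fun _ => hi) (fun b b' _ hbb => Subtype.ext hbb)
  rw [Finset.sum_const, Finset.card_univ, smul_eq_mul, card_pairs] at h1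
  have h2 : Fintype.card {S : Finset (Fin (l + 1)) // S.card = i.val + 1} = (l + 1).choose (i.val + 1) := by
    rw [Fintype.card_finset_len, Fintype.card_fin]
  rw [h2] at h1
  exact h1

/-- **upper bound** -/
theorem dim_le_A [Nontrivial V] {i : Fin l} (hi : i ∉ Jx cs h X ρ) (hJ : ∀ j, j ∉ Jx cs h X ρ → j = i)
    (hd : Module.finrank k (Le cs h T X ρ {i}) ≤ 2 * Module.finrank k (D cs h X ρ)) :
    Module.finrank k V ≤ (l + 1).choose (i.val + 1) * Module.finrank k (D cs h X ρ) := by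
  classical
  choose σ hσ using fun S : {S : Finset (Fin (l + 1)) // S.card = i.val + 1} => exists_perm_set i S.1 S.2
  choose v hv using fun S => exists_rep_perm (cs := cs) (h := h) (σ S)
  have h1 := dim_le R hirr (fun j hj => by rw [hJ j hj]; exact hd) (by
    rintro x ⟨hx, hx0, j, hj, hxj⟩
    rw [hJ j hj] at hxj
    obtain ⟨a, b, hab, rfl⟩ := exists_of_isRoot cs h hx
    rw [rtA_coord] at hxj
    have hai : a.val ≤ i.val := by
      by_contra h2
      rw [if_neg h2] at hxj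
      split_ifs at hxj <;> omega
    have hbi : ¬ b.val ≤ i.val := by
      intro h2
      rw [if_pos hai, if_pos h2] at hxj
      omega
    obtain ⟨w, hw⟩ := exists_rep_perm (cs := cs) (h := h) (Equiv.swap i.castSucc a * Equiv.swap i.succ b)
    refine ⟨w, mem_WJ_of_perm hw (i := i) ?_ hJ, i, hi, ?_⟩
    · intro c
      rw [Equiv.Perm.mul_apply]
      have h3 : ∀ (x y c : Fin (l + 1)), (x.val ≤ i.val ↔ y.val ≤ i.val) →
          ((Equiv.swap x y c).val ≤ i.val ↔ c.val ≤ i.val) := by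
        intro x y c hxy
        rw [Equiv.swap_apply_def]
        split_ifs with h4 h5
        · rw [h4, hxy]
        · rw [h5, hxy]
        · rfl
      rw [h3 _ _ _ ?_, h3 _ _ _ ?_]
      · simp only [Fin.val_succ]
        constructor
        · intro h4; omega
        · intro h4; exact absurd h4 hbi
      · simp only [Fin.val_castSucc]
        constructor
        · intro _; exact hai
        · intro _; exact le_rfl
    · rw [← rtA_sr, hw, Equiv.Perm.mul_apply, Equiv.Perm.mul_apply, Equiv.swap_apply_left,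
        Equiv.swap_apply_of_ne_of_ne (a := i.succ) (b := b) (x := i.castSucc), Equiv.swap_apply_left,
        Equiv.swap_apply_of_ne_of_ne]
      · intro e
        apply hbi
        rw [e]
        exact le_rfl
      · exact hab.symm
      · exact (Fin.castSucc_lt_succ).ne
      · intro e
        apply hbi
        rw [← e]
        exact le_rfl) v (fun w => by
    obtain ⟨τ, hτ⟩ := exists_perm (cs := cs) (h := h) w
    have hc : (Finset.univ.filter fun a => (τ⁻¹ a).val ≤ i.val).card = i.val + 1 := by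
      have h2 : (Finset.univ.filter fun a : Fin (l + 1) => (τ⁻¹ a).val ≤ i.val) = (Finset.Iic i.castSucc).map τ.toEmbedding := by
        ext x
        simp only [Finset.mem_filter, Finset.mem_univ, true_and, Finset.mem_map_equiv, Finset.mem_Iic, Fin.le_def,
          Fin.val_castSucc]
        rfl
      rw [h2, Finset.card_map, Fin.card_Iic]
      rfl
    refine ⟨⟨_, hc⟩, mem_WJ_of_perm ((hv _).inv.mul hτ) (i := i) ?_ hJ⟩
    intro c
    rw [Equiv.Perm.mul_apply, hσ, Finset.mem_filter, show τ⁻¹ (τ c) = c from τ.symm_apply_apply c]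
    simp)
  have h2 : Fintype.card {S : Finset (Fin (l + 1)) // S.card = i.val + 1} = (l + 1).choose (i.val + 1) := by
    rw [Fintype.card_finset_len, Fintype.card_fin]
  rwa [h2] at h1

end

end Cfsg.Agent.H905.Md
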