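import Cfsg.Agent.H905.ReeNI
import Cfsg.Agent.ChevalleyStructure.Ree.Normal

/-!
# The alternating 3-form on the 7-dimensional module of the Ree groups (helper905)

`B g` (`ChevalleyStructure.Ree.Normal.B`) the action of `g ∈ ²G₂(K)` on the short root ideal, `τ : K → k` a homomorphism of
fields.

* `tf7 k` : an alternating trilinear form on `k ^ 7`, `tf7_isAlt`, `tf7_ne_zero`;
* **`tf7_B`** : `tf7 (τ(B g) x, τ(B g) y, τ(B g) z) = tf7 (x, y, z)`.
-/

set_option autoImplicit false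
set_option linter.unusedSectionVars false
set_option linter.unusedVariables false

namespace Cfsg.Agent.H905.Ree

open Cfsg.Lie Cfsg.Agent.ChevalleyStructure Cfsg.Agent.ChevalleyStructure.WordCheck
  Cfsg.Agent.ChevalleyStructure.ReeVec Cfsg.Agent.ChevalleyStructure.Ree.Bracket
  Cfsg.Agent.ChevalleyStructure.Ree.Normal Cfsg.Agent.H179.G2
open scoped Matrix

variable {k : Type*} [Field k]

/-- the coordinates on the short root ideal -/
def emb (x : Fin 7 → k) : chevG2.Idx → k := vec (x 3) 0 0 0 (x 0) (x 1) (x 2) 0 0 (x 4) (x 5) (x 6) 0 0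

theorem emb_mem (x : Fin 7 → k) : emb x ∈ NI k := vec_mem _ _ _ _ _ _ _

theorem emb_eq {v : chevG2.Idx → k} (hv : v ∈ NI k) : v = emb fun i => v (S i) := NI_eq hv

theorem emb_S (x : Fin 7 → k) (i : Fin 7) : emb x (S i) = x i := by
  fin_cases i <;> rfl

theorem mulVec_emb (M : Matrix chevG2.Idx chevG2.Idx k) (x : Fin 7 → k) (i : chevG2.Idx) :
    (M *ᵥ emb x) i = ∑ j : Fin 7, M i (S j) * x j := by
  rw [Matrix.mulVec, dotProduct, sum_idx, Fin.sum_univ_succ, Fin.sum_univ_six]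
  simp only [emb, vec_H0, vec_H1, vec_E0, vec_E1, vec_E2, vec_E3, vec_E4, vec_E5, vec_E6, vec_E7, vec_E8, vec_E9,
    vec_E10, vec_E11]
  change _ = M i (E 2) * x 0 + (M i (E 3) * x 1 + M i (E 4) * x 2 + M i (H 0) * x 3 + M i (E 7) * x 4 +
    M i (E 8) * x 5 + M i (E 9) * x 6)
  ring

/-- the block on the ideal -/
theorem mulVec_emb_of_mem {M : Matrix chevG2.Idx chevG2.Idx k} (hM : ∀ v ∈ NI k, M *ᵥ v ∈ NI k) (x : Fin 7 → k) :
    M *ᵥ emb x = emb (Mb M *ᵥ x) := by
  rw [emb_eq (hM _ (emb_mem x))]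
  congr 1
  funext i
  rw [mulVec_emb]
  rfl

/-- the alternating 3-form -/
def tf7 (k : Type*) [Field k] : (Fin 7 → k) →ₗ[k] (Fin 7 → k) →ₗ[k] (Fin 7 → k) →ₗ[k] k :=
  H856.Tri.mk3 (fun x y z => tf (emb x) (emb y) (emb z))
    (fun x x' y z => by
      simp only [tf, d3, emb, vec_H0, vec_E2, vec_E3, vec_E4, vec_E7, vec_E8, vec_E9, Pi.add_apply]
      ring)
    (fun c x y z => by
      simp only [tf, d3, emb, vec_H0, vec_E2, vec_E3, vec_E4, vec_E7, vec_E8, vec_E9, Pi.smul_apply, smul_eq_mul]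
      ring)
    (fun x y y' z => by
      simp only [tf, d3, emb, vec_H0, vec_E2, vec_E3, vec_E4, vec_E7, vec_E8, vec_E9, Pi.add_apply]
      ring)
    (fun c x y z => by
      simp only [tf, d3, emb, vec_H0, vec_E2, vec_E3, vec_E4, vec_E7, vec_E8, vec_E9, Pi.smul_apply, smul_eq_mul]
      ring)
    (fun x y z z' => by
      simp only [tf, d3, emb, vec_H0, vec_E2, vec_E3, vec_E4, vec_E7, vec_E8, vec_E9, Pi.add_apply]
      ring)
    (fun c x y z => by
      simp only [tf, d3, emb, vec_H0, vec_E2, vec_E3, vec_E4, vec_E7, vec_E8, vec_E9, Pi.smul_apply, smul_eq_mul]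
      ring)

theorem tf7_apply (x y z : Fin 7 → k) : tf7 k x y z = tf (emb x) (emb y) (emb z) := rfl

theorem tf7_isAlt (k : Type*) [Field k] : IsAltForm (tf7 k) where
  self x y := by
    rw [tf7_apply]
    simp only [tf, d3]
    ring
  z23 x y := by
    rw [tf7_apply]
    simp only [tf, d3]
    ring

theorem tf7_ne_zero (k : Type*) [Field k] : tf7 k ≠ 0 := by
  intro h
  have h1 := congrArg (fun f => f (Pi.single 0 1) (Pi.single 4 1) (Pi.single 5 1)) h
  change tf (emb (Pi.single 0 1)) (emb (Pi.single 4 1)) (emb (Pi.single 5 1)) = 0 at h1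
  simp [tf, d3, emb, vec_H0, vec_E2, vec_E3, vec_E4, vec_E7, vec_E8, vec_E9] at h1

/-! ### the group -/

/-- the invertible matrices which preserve the ideal and the form -/
def SG (k : Type*) [Field k] : Subgroup (GL chevG2.Idx k) where
  carrier := {g | (∀ v ∈ NI k, (g : Matrix chevG2.Idx chevG2.Idx k) *ᵥ v ∈ NI k) ∧
    (∀ v ∈ NI k, ((g⁻¹ : GL chevG2.Idx k) : Matrix chevG2.Idx chevG2.Idx k) *ᵥ v ∈ NI k) ∧
    ∀ u ∈ NI k, ∀ v ∈ NI k, ∀ w ∈ NI k, tf ((g : Matrix chevG2.Idx chevG2.Idx k) *ᵥ u)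
      ((g : Matrix chevG2.Idx chevG2.Idx k) *ᵥ v) ((g : Matrix chevG2.Idx chevG2.Idx k) *ᵥ w) = tf u v w}
  one_mem' := by
    refine ⟨fun v hv => ?_, fun v hv => ?_, fun u hu v hv w hw => ?_⟩
    · rw [Units.val_one, Matrix.one_mulVec]; exact hv
    · rw [inv_one, Units.val_one, Matrix.one_mulVec]; exact hv
    · rw [Units.val_one, Matrix.one_mulVec, Matrix.one_mulVec, Matrix.one_mulVec]
  mul_mem' := by
    rintro a b ⟨a1, a2, a3⟩ ⟨b1, b2, b3⟩
    refine ⟨fun v hv => ?_, fun v hv => ?_, fun u hu v hv w hw => ?_⟩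
    · rw [Units.val_mul, ← Matrix.mulVec_mulVec]; exact a1 _ (b1 _ hv)
    · rw [mul_inv_rev, Units.val_mul, ← Matrix.mulVec_mulVec]; exact b2 _ (a2 _ hv)
    · rw [Units.val_mul, ← Matrix.mulVec_mulVec, ← Matrix.mulVec_mulVec, ← Matrix.mulVec_mulVec,
        a3 _ (b1 _ hu) _ (b1 _ hv) _ (b1 _ hw), b3 _ hu _ hv _ hw]
  inv_mem' := by
    rintro a ⟨a1, a2, a3⟩
    refine ⟨a2, fun v hv => by rw [inv_inv]; exact a1 v hv, fun u hu v hv w hw => ?_⟩
    have h := a3 _ (a2 u hu) _ (a2 v hv) _ (a2 w hw)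
    have e : ∀ x : chevG2.Idx → k, (a : Matrix chevG2.Idx chevG2.Idx k) *ᵥ
        (((a⁻¹ : GL chevG2.Idx k) : Matrix chevG2.Idx chevG2.Idx k) *ᵥ x) = x := by
      intro x
      rw [Matrix.mulVec_mulVec, ← Units.val_mul, mul_inv_cancel, Units.val_one, Matrix.one_mulVec]
    rw [e, e, e] at h
    exact h.symm

theorem word_mem (h3 : (3 : k) = 0) (w : List (ℕ × k)) {v : chevG2.Idx → k} (hv : v ∈ NI k) :
    chevG2.wordMat k w *ᵥ v ∈ NI k := by
  induction w with
  | nil => rw [ReeGroup.wordMat_nil, Matrix.one_mulVec]; exact hv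
  | cons p w ih => rw [ReeGroup.wordMat_cons_mulVec]; exact x_mem h3 _ _ ih

theorem tf_word (h3 : (3 : k) = 0) (w : List (ℕ × k)) {u v z : chevG2.Idx → k} (hu : u ∈ NI k) (hv : v ∈ NI k)
    (hz : z ∈ NI k) : tf (chevG2.wordMat k w *ᵥ u) (chevG2.wordMat k w *ᵥ v) (chevG2.wordMat k w *ᵥ z) = tf u v z := by
  induction w with
  | nil => rw [ReeGroup.wordMat_nil, Matrix.one_mulVec, Matrix.one_mulVec, Matrix.one_mulVec]
  | cons p w ih =>
    rw [ReeGroup.wordMat_cons_mulVec, ReeGroup.wordMat_cons_mulVec, ReeGroup.wordMat_cons_mulVec,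
      tf_x h3 _ _ (word_mem h3 w hu) (word_mem h3 w hv) (word_mem h3 w hz), ih]

theorem mem_SG_of_word (h3 : (3 : k) = 0) {g : GL chevG2.Idx k} {w : List (ℕ × k)}
    (hg : (g : Matrix chevG2.Idx chevG2.Idx k) = chevG2.wordMat k w) : g ∈ SG k := by
  have h1 : ∀ v ∈ NI k, (g : Matrix chevG2.Idx chevG2.Idx k) *ᵥ v ∈ NI k := by
    intro v hv
    rw [hg]; exact word_mem h3 w hv
  refine ⟨h1, ?_, fun u hu v hv z hz => by rw [hg]; exact tf_word h3 w hu hv hz⟩
  -- the inverse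
  let f : NI k →ₗ[k] NI k := ((g : Matrix chevG2.Idx chevG2.Idx k).mulVecLin).restrict fun v hv => h1 v hv
  have hf : Function.Injective f := by
    rw [injective_iff_map_eq_zero]
    rintro ⟨v, hv⟩ h
    have h2 : (g : Matrix chevG2.Idx chevG2.Idx k) *ᵥ v = 0 := congrArg Subtype.val h
    apply Subtype.ext
    have h4 := congrArg (fun x => ((g⁻¹ : GL chevG2.Idx k) : Matrix chevG2.Idx chevG2.Idx k) *ᵥ x) h2
    simp only [Matrix.mulVec_mulVec, Matrix.mulVec_zero] at h4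
    rwa [← Units.val_mul, inv_mul_cancel, Units.val_one, Matrix.one_mulVec] at h4
  have hs : Function.Surjective f := LinearMap.surjective_of_injective hf
  intro v hv
  obtain ⟨⟨u, hu⟩, h⟩ := hs ⟨v, hv⟩
  have h2 : (g : Matrix chevG2.Idx chevG2.Idx k) *ᵥ u = v := congrArg Subtype.val h
  rw [← h2, Matrix.mulVec_mulVec, ← Units.val_mul, inv_mul_cancel, Units.val_one, Matrix.one_mulVec]
  exact hu

variable {K : Type*} [Field K] (τ : K →+* k)

theorem wordMat_map (w : List (ℕ × K)) :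
    (chevG2.wordMat K w).map τ = chevG2.wordMat k (w.map fun p => (p.1, τ p.2)) := by
  induction w with
  | nil =>
    rw [ReeGroup.wordMat_nil, List.map_nil, ReeGroup.wordMat_nil]
    exact Matrix.map_one τ (map_zero τ) (map_one τ)
  | cons p w ih =>
    rw [ReeGroup.wordMat_cons, List.map_cons, ReeGroup.wordMat_cons, Matrix.map_mul, ih,
      Cfsg.Agent.ChevStructure.FieldMap.x_map]

/-- the elements of the group generated by words preserve the form over every field -/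
theorem map_mem_SG (h3 : (3 : K) = 0) {X : Set (List (ℕ × K))} {g : GL chevG2.Idx K}
    (hg : g ∈ chevG2.genSubgroup K X) : Matrix.GeneralLinearGroup.map τ g ∈ SG k := by
  have h3' : (3 : k) = 0 := by
    have h := congrArg τ h3
    rwa [map_ofNat, map_zero] at h
  have h1 : chevG2.genSubgroup K X ≤ (SG k).comap (Matrix.GeneralLinearGroup.map τ) := by
    unfold ChevalleyDatum.genSubgroup
    rw [Subgroup.closure_le]
    rintro g ⟨w, -, hw⟩
    refine mem_SG_of_word h3' (w := w.map fun p => (p.1, τ p.2)) ?_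
    rw [← wordMat_map, ← hw]
    rfl
  exact h1 hg

/-- **The 3-form is invariant under the Ree group.** -/
theorem tf7_B (h3 : (3 : K) = 0) {e : ℕ} {g : GL chevG2.Idx K} (hg : g ∈ twistedG2 K e) (x y z : Fin 7 → k) :
    tf7 k ((B g).map τ *ᵥ x) ((B g).map τ *ᵥ y) ((B g).map τ *ᵥ z) = tf7 k x y z := by
  have h1 : Matrix.GeneralLinearGroup.map τ g ∈ SG k := map_mem_SG τ h3 hg
  obtain ⟨h2, -, h4⟩ := h1
  have h5 : ∀ x : Fin 7 → k, emb ((B g).map τ *ᵥ x) =
      (Matrix.GeneralLinearGroup.map τ g : Matrix chevG2.Idx chevG2.Idx k) *ᵥ emb x := by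
    intro x
    rw [mulVec_emb_of_mem h2]
    rfl
  rw [tf7_apply, tf7_apply, h5, h5, h5, h4 _ (emb_mem x) _ (emb_mem y) _ (emb_mem z)]

end Cfsg.Agent.H905.Ree
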