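import Cfsg.Agent.ChevalleyStructure.ReeVec
import Cfsg.Agent.ChevalleyStructure.ReeGroup
import Cfsg.Agent.ChevStructure.FieldMap
import Cfsg.Agent.H856.Tri

/-!
# The 7-dimensional module of `G₂` in characteristic three and its alternating 3-form (helper905)

* `NI k` : the submodule of the short roots in the 14-dimensional module;
* `x_mem` : it is invariant under the root elements;
* `tf` : the alternating 3-form; **`tf_x`** : it is invariant.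

Certificates generated by a script.
-/

set_option autoImplicit false
set_option linter.unusedSectionVars false
set_option linter.unusedVariables false

namespace Cfsg.Agent.H905.Ree

open Cfsg.Lie Cfsg.Agent.ChevalleyStructure Cfsg.Agent.ChevalleyStructure.WordCheck
  Cfsg.Agent.ChevalleyStructure.ReeVec
open scoped Matrix

variable {k : Type*} [Field k]

/-- the submodule of the short roots -/
def NI (k : Type*) [Field k] : Submodule k (chevG2.Idx → k) where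
  carrier := {v | v (H 1) = 0 ∧ v (E 0) = 0 ∧ v (E 1) = 0 ∧ v (E 5) = 0 ∧ v (E 6) = 0 ∧ v (E 10) = 0 ∧ v (E 11) = 0}
  zero_mem' := ⟨rfl, rfl, rfl, rfl, rfl, rfl, rfl⟩
  add_mem' := by
    rintro u v ⟨a1, a2, a3, a4, a5, a6, a7⟩ ⟨b1, b2, b3, b4, b5, b6, b7⟩
    refine ⟨?_, ?_, ?_, ?_, ?_, ?_, ?_⟩ <;> simp only [Pi.add_apply] <;> simp [*]
  smul_mem' := by
    rintro c u ⟨a1, a2, a3, a4, a5, a6, a7⟩
    refine ⟨?_, ?_, ?_, ?_, ?_, ?_, ?_⟩ <;> simp only [Pi.smul_apply] <;> simp [*]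

theorem NI_eq {v : chevG2.Idx → k} (hv : v ∈ NI k) :
    v = vec (v (H 0)) 0 0 0 (v (E 2)) (v (E 3)) (v (E 4)) 0 0 (v (E 7)) (v (E 8)) (v (E 9)) 0 0 := by
  obtain ⟨a1, a2, a3, a4, a5, a6, a7⟩ := hv
  conv_lhs => rw [vec_eta v, a1, a2, a3, a4, a5, a6, a7]

theorem vec_mem (a x2 x3 x4 x7 x8 x9 : k) : vec a 0 0 0 x2 x3 x4 0 0 x7 x8 x9 0 0 ∈ NI k :=
  ⟨rfl, rfl, rfl, rfl, rfl, rfl, rfl⟩

/-- the determinant of three coordinates -/
def d3 (p q r : chevG2.Idx) (u v w : chevG2.Idx → k) : k :=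
  u p * (v q * w r - v r * w q) - u q * (v p * w r - v r * w p) + u r * (v p * w q - v q * w p)

/-- the alternating 3-form -/
def tf (u v w : chevG2.Idx → k) : k :=
  -d3 (E 2) (H 0) (E 9) u v w - d3 (E 2) (E 7) (E 8) u v w - d3 (E 3) (E 4) (E 9) u v w + d3 (E 3) (H 0) (E 8) u v w +
    d3 (E 4) (H 0) (E 7) u v w

theorem x0_NI (h3 : (3 : k) = 0) (t a x2 x3 x4 x7 x8 x9 : k) :
    chevG2.x k 0 t *ᵥ vec a 0 0 0 x2 x3 x4 0 0 x7 x8 x9 0 0 =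
      vec (a) 0 0 0 (x2 + t * x8) (x3 - t * x9) (x4) 0 0 (x7) (x8) (x9) 0 0 := by
  rw [x0_vec]
  apply vec_congr
  · ring
  · ring
  · ring
  · ring
  · ring
  · ring
  · ring
  · ring
  · ring
  · ring
  · ring
  · ring
  · ring
  · ring

theorem x1_NI (h3 : (3 : k) = 0) (t a x2 x3 x4 x7 x8 x9 : k) :
    chevG2.x k 1 t *ᵥ vec a 0 0 0 x2 x3 x4 0 0 x7 x8 x9 0 0 =
      vec (a) 0 0 0 (x2 + t * x7) (x3) (x4 - t * x9) 0 0 (x7) (x8) (x9) 0 0 := by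
  rw [x1_vec]
  apply vec_congr
  · ring
  · ring
  · ring
  · linear_combination ((1) * a * t) * h3
  · ring
  · ring
  · ring
  · ring
  · ring
  · ring
  · ring
  · ring
  · ring
  · ring

theorem x2_NI (h3 : (3 : k) = 0) (t a x2 x3 x4 x7 x8 x9 : k) :
    chevG2.x k 2 t *ᵥ vec a 0 0 0 x2 x3 x4 0 0 x7 x8 x9 0 0 =
      vec (a - 2 * t * x9) 0 0 0 (x2 + t * a - t ^ 2 * x9) (x3 - 2 * t * x7) (x4 + 2 * t * x8) 0 0 (x7) (x8) (x9) 0 0 := by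
  rw [x2_vec]
  apply vec_congr
  · ring
  · linear_combination ((-1) * t * x9) * h3
  · linear_combination ((-1) * t * t * x7 + (1) * t * x3) * h3
  · linear_combination ((1) * t * t * x8 + (1) * t * x4) * h3
  · ring
  · ring
  · ring
  · ring
  · ring
  · ring
  · ring
  · ring
  · ring
  · ring

theorem x3_NI (h3 : (3 : k) = 0) (t a x2 x3 x4 x7 x8 x9 : k) :
    chevG2.x k 3 t *ᵥ vec a 0 0 0 x2 x3 x4 0 0 x7 x8 x9 0 0 =
      vec (a - t * x8) 0 0 0 (x2 - 2 * t * x4) (x3 - t * a - t ^ 2 * x8) (x4) 0 0 (x7 + 2 * t * x9) (x8) (x9) 0 0 := by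
  rw [x3_vec]
  apply vec_congr
  · ring
  · linear_combination ((-1) * t * x8) * h3
  · linear_combination ((1) * t * t * x4 + (-1) * t * x2) * h3
  · ring
  · ring
  · ring
  · ring
  · linear_combination ((-1) * t * t * x9 + (-1) * t * x7) * h3
  · ring
  · ring
  · ring
  · ring
  · ring
  · ring

theorem x4_NI (h3 : (3 : k) = 0) (t a x2 x3 x4 x7 x8 x9 : k) :
    chevG2.x k 4 t *ᵥ vec a 0 0 0 x2 x3 x4 0 0 x7 x8 x9 0 0 =
      vec (a - t * x7) 0 0 0 (x2 + 2 * t * x3) (x3) (x4 + 2 * t * a - t ^ 2 * x7) 0 0 (x7) (x8 - 2 * t * x9) (x9) 0 0 := by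
  rw [x4_vec]
  apply vec_congr
  · ring
  · ring
  · ring
  · linear_combination ((-1) * t * t * x3 + (-1) * t * x2) * h3
  · ring
  · ring
  · ring
  · ring
  · linear_combination ((1) * t * t * x9 + (-1) * t * x8) * h3
  · ring
  · ring
  · ring
  · ring
  · ring

theorem x5_NI (h3 : (3 : k) = 0) (t a x2 x3 x4 x7 x8 x9 : k) :
    chevG2.x k 5 t *ᵥ vec a 0 0 0 x2 x3 x4 0 0 x7 x8 x9 0 0 =
      vec (a) 0 0 0 (x2) (x3 - t * x4) (x4) 0 0 (x7 + t * x8) (x8) (x9) 0 0 := by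
  rw [x5_vec]
  apply vec_congr
  · ring
  · ring
  · ring
  · ring
  · ring
  · ring
  · ring
  · linear_combination ((-1) * a * t) * h3
  · ring
  · ring
  · ring
  · ring
  · ring
  · ring

theorem x6_NI (h3 : (3 : k) = 0) (t a x2 x3 x4 x7 x8 x9 : k) :
    chevG2.x k 6 t *ᵥ vec a 0 0 0 x2 x3 x4 0 0 x7 x8 x9 0 0 =
      vec (a) 0 0 0 (x2) (x3) (x4 - t * x3) 0 0 (x7) (x8 + t * x7) (x9) 0 0 := by
  rw [x6_vec]
  apply vec_congr
  · ring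
  · ring
  · ring
  · ring
  · ring
  · ring
  · ring
  · ring
  · linear_combination ((1) * a * t) * h3
  · ring
  · ring
  · ring
  · ring
  · ring

theorem x7_NI (h3 : (3 : k) = 0) (t a x2 x3 x4 x7 x8 x9 : k) :
    chevG2.x k 7 t *ᵥ vec a 0 0 0 x2 x3 x4 0 0 x7 x8 x9 0 0 =
      vec (a + t * x4) 0 0 0 (x2) (x3 + 2 * t * x2) (x4) 0 0 (x7 - 2 * t * a - t ^ 2 * x4) (x8) (x9 - 2 * t * x8) 0 0 := by
  rw [x7_vec]
  apply vec_congr
  · ring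
  · ring
  · ring
  · ring
  · ring
  · ring
  · ring
  · linear_combination ((1) * t * t * x2 + (1) * t * x3) * h3
  · ring
  · ring
  · ring
  · ring
  · linear_combination ((-1) * t * t * x8 + (1) * t * x9) * h3
  · ring

theorem x8_NI (h3 : (3 : k) = 0) (t a x2 x3 x4 x7 x8 x9 : k) :
    chevG2.x k 8 t *ᵥ vec a 0 0 0 x2 x3 x4 0 0 x7 x8 x9 0 0 =
      vec (a + t * x3) 0 0 0 (x2) (x3) (x4 - 2 * t * x2) 0 0 (x7) (x8 + t * a - t ^ 2 * x3) (x9 + 2 * t * x7) 0 0 := by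
  rw [x8_vec]
  apply vec_congr
  · ring
  · linear_combination ((1) * t * x3) * h3
  · ring
  · ring
  · ring
  · ring
  · ring
  · ring
  · linear_combination ((-1) * t * t * x2 + (1) * t * x4) * h3
  · ring
  · ring
  · ring
  · ring
  · linear_combination ((1) * t * t * x7 + (1) * t * x9) * h3

theorem x9_NI (h3 : (3 : k) = 0) (t a x2 x3 x4 x7 x8 x9 : k) :
    chevG2.x k 9 t *ᵥ vec a 0 0 0 x2 x3 x4 0 0 x7 x8 x9 0 0 =
      vec (a + 2 * t * x2) 0 0 0 (x2) (x3) (x4) 0 0 (x7 - 2 * t * x3) (x8 + 2 * t * x4) (x9 - t * a - t ^ 2 * x2) 0 0 := by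
  rw [x9_vec]
  apply vec_congr
  · ring
  · linear_combination ((1) * t * x2) * h3
  · ring
  · ring
  · ring
  · ring
  · ring
  · ring
  · ring
  · ring
  · ring
  · ring
  · linear_combination ((1) * t * t * x3 + (-1) * t * x7) * h3
  · linear_combination ((-1) * t * t * x4 + (-1) * t * x8) * h3

theorem x10_NI (h3 : (3 : k) = 0) (t a x2 x3 x4 x7 x8 x9 : k) :
    chevG2.x k 10 t *ᵥ vec a 0 0 0 x2 x3 x4 0 0 x7 x8 x9 0 0 =
      vec (a) 0 0 0 (x2) (x3) (x4) 0 0 (x7 + t * x2) (x8) (x9 - t * x4) 0 0 := by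
  rw [x10_vec]
  apply vec_congr
  · ring
  · ring
  · ring
  · ring
  · ring
  · ring
  · ring
  · ring
  · ring
  · ring
  · ring
  · ring
  · linear_combination ((-1) * a * t) * h3
  · ring

theorem x11_NI (h3 : (3 : k) = 0) (t a x2 x3 x4 x7 x8 x9 : k) :
    chevG2.x k 11 t *ᵥ vec a 0 0 0 x2 x3 x4 0 0 x7 x8 x9 0 0 =
      vec (a) 0 0 0 (x2) (x3) (x4) 0 0 (x7) (x8 + t * x2) (x9 - t * x3) 0 0 := by
  rw [x11_vec]
  apply vec_congr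
  · ring
  · ring
  · ring
  · ring
  · ring
  · ring
  · ring
  · ring
  · ring
  · ring
  · ring
  · ring
  · ring
  · ring

set_option maxHeartbeats 1000000 in
theorem tf_x0 (h3 : (3 : k) = 0) (t : k) {u v w : chevG2.Idx → k} (hu : u ∈ NI k) (hv : v ∈ NI k) (hw : w ∈ NI k) :
    tf (chevG2.x k 0 t *ᵥ u) (chevG2.x k 0 t *ᵥ v) (chevG2.x k 0 t *ᵥ w) = tf u v w := by
  have e1 := x0_NI h3 t (u (H 0)) (u (E 2)) (u (E 3)) (u (E 4)) (u (E 7)) (u (E 8)) (u (E 9))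
  have e2 := x0_NI h3 t (v (H 0)) (v (E 2)) (v (E 3)) (v (E 4)) (v (E 7)) (v (E 8)) (v (E 9))
  have e3 := x0_NI h3 t (w (H 0)) (w (E 2)) (w (E 3)) (w (E 4)) (w (E 7)) (w (E 8)) (w (E 9))
  rw [← NI_eq hu] at e1
  rw [← NI_eq hv] at e2
  rw [← NI_eq hw] at e3
  rw [e1, e2, e3]
  simp only [tf, d3, vec_H0, vec_E2, vec_E3, vec_E4, vec_E7, vec_E8, vec_E9]
  ring

set_option maxHeartbeats 1000000 in
theorem tf_x1 (h3 : (3 : k) = 0) (t : k) {u v w : chevG2.Idx → k} (hu : u ∈ NI k) (hv : v ∈ NI k) (hw : w ∈ NI k) :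
    tf (chevG2.x k 1 t *ᵥ u) (chevG2.x k 1 t *ᵥ v) (chevG2.x k 1 t *ᵥ w) = tf u v w := by
  have e1 := x1_NI h3 t (u (H 0)) (u (E 2)) (u (E 3)) (u (E 4)) (u (E 7)) (u (E 8)) (u (E 9))
  have e2 := x1_NI h3 t (v (H 0)) (v (E 2)) (v (E 3)) (v (E 4)) (v (E 7)) (v (E 8)) (v (E 9))
  have e3 := x1_NI h3 t (w (H 0)) (w (E 2)) (w (E 3)) (w (E 4)) (w (E 7)) (w (E 8)) (w (E 9))
  rw [← NI_eq hu] at e1
  rw [← NI_eq hv] at e2
  rw [← NI_eq hw] at e3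
  rw [e1, e2, e3]
  simp only [tf, d3, vec_H0, vec_E2, vec_E3, vec_E4, vec_E7, vec_E8, vec_E9]
  ring

set_option maxHeartbeats 1000000 in
theorem tf_x2 (h3 : (3 : k) = 0) (t : k) {u v w : chevG2.Idx → k} (hu : u ∈ NI k) (hv : v ∈ NI k) (hw : w ∈ NI k) :
    tf (chevG2.x k 2 t *ᵥ u) (chevG2.x k 2 t *ᵥ v) (chevG2.x k 2 t *ᵥ w) = tf u v w := by
  have e1 := x2_NI h3 t (u (H 0)) (u (E 2)) (u (E 3)) (u (E 4)) (u (E 7)) (u (E 8)) (u (E 9))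
  have e2 := x2_NI h3 t (v (H 0)) (v (E 2)) (v (E 3)) (v (E 4)) (v (E 7)) (v (E 8)) (v (E 9))
  have e3 := x2_NI h3 t (w (H 0)) (w (E 2)) (w (E 3)) (w (E 4)) (w (E 7)) (w (E 8)) (w (E 9))
  rw [← NI_eq hu] at e1
  rw [← NI_eq hv] at e2
  rw [← NI_eq hw] at e3
  rw [e1, e2, e3]
  simp only [tf, d3, vec_H0, vec_E2, vec_E3, vec_E4, vec_E7, vec_E8, vec_E9]
  linear_combination ((-1) * t * t * u (E 7) * v (E 8) * w (E 9) + (1) * t * t * u (E 7) * v (E 9) * w (E 8) + (1) * t * t * u (E 8) * v (E 7) * w (E 9) + (-1) * t * t * u (E 8) * v (E 9) * w (E 7) + (-1) * t * t * u (E 9) * v (E 7) * w (E 8) + (1) * t * t * u (E 9) * v (E 8) * w (E 7) + (1) * t * u (H 0) * v (E 7) * w (E 8) + (-1) * t * u (H 0) * v (E 8) * w (E 7) + (-1) * t * u (E 7) * v (H 0) * w (E 8) + (1) * t * u (E 7) * v (E 8) * w (H 0) + (1) * t * u (E 8) * v (H 0) * w (E 7) + (-1) * t * u (E 8) *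 v (E 7) * w (H 0)) * h3

set_option maxHeartbeats 1000000 in
theorem tf_x3 (h3 : (3 : k) = 0) (t : k) {u v w : chevG2.Idx → k} (hu : u ∈ NI k) (hv : v ∈ NI k) (hw : w ∈ NI k) :
    tf (chevG2.x k 3 t *ᵥ u) (chevG2.x k 3 t *ᵥ v) (chevG2.x k 3 t *ᵥ w) = tf u v w := by
  have e1 := x3_NI h3 t (u (H 0)) (u (E 2)) (u (E 3)) (u (E 4)) (u (E 7)) (u (E 8)) (u (E 9))
  have e2 := x3_NI h3 t (v (H 0)) (v (E 2)) (v (E 3)) (v (E 4)) (v (E 7)) (v (E 8)) (v (E 9))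
  have e3 := x3_NI h3 t (w (H 0)) (w (E 2)) (w (E 3)) (w (E 4)) (w (E 7)) (w (E 8)) (w (E 9))
  rw [← NI_eq hu] at e1
  rw [← NI_eq hv] at e2
  rw [← NI_eq hw] at e3
  rw [e1, e2, e3]
  simp only [tf, d3, vec_H0, vec_E2, vec_E3, vec_E4, vec_E7, vec_E8, vec_E9]
  linear_combination ((-3) * t * t * u (E 4) * v (E 8) * w (E 9) + (3) * t * t * u (E 4) * v (E 9) * w (E 8) + (3) * t * t * u (E 8) * v (E 4) * w (E 9) + (-3) * t * t * u (E 8) * v (E 9) * w (E 4) + (-3) * t * t * u (E 9) * v (E 4) * w (E 8) + (3) * t * t * u (E 9) * v (E 8) * w (E 4) + (-1) * t * u (H 0) * v (E 4) * w (E 9) + (1) * t * u (H 0) * v (E 9) * w (E 4) + (1) * t * u (E 2) * v (E 8) * w (E 9) + (-1) * t * u (E 2) * v (E 9) * w (E 8) + (1) * t * u (E 4) * v (H 0) * w (E 9) + (1) * t * u (E 4) * v (E 7) * w (E 8) + (-1) * t * u (E 4) * v (E 8) * w (E 7) + (-1) * t * u (E 4) * v (E 9) * w (H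 0) + (-1) * t * u (E 7) * v (E 4) * w (E 8) + (1) * t * u (E 7) * v (E 8) * w (E 4) + (-1) * t * u (E 8) * v (E 2) * w (E 9) + (1) * t * u (E 8) * v (E 4) * w (E 7) + (-1) * t * u (E 8) * v (E 7) * w (E 4) + (1) * t * u (E 8) * v (E 9) * w (E 2) + (-1) * t * u (E 9) * v (H 0) * w (E 4) + (1) * t * u (E 9) * v (E 2) * w (E 8) + (1) * t * u (E 9) * v (E 4) * w (H 0) + (-1) * t * u (E 9) * v (E 8) * w (E 2)) * h3

set_option maxHeartbeats 1000000 in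
theorem tf_x4 (h3 : (3 : k) = 0) (t : k) {u v w : chevG2.Idx → k} (hu : u ∈ NI k) (hv : v ∈ NI k) (hw : w ∈ NI k) :
    tf (chevG2.x k 4 t *ᵥ u) (chevG2.x k 4 t *ᵥ v) (chevG2.x k 4 t *ᵥ w) = tf u v w := by
  have e1 := x4_NI h3 t (u (H 0)) (u (E 2)) (u (E 3)) (u (E 4)) (u (E 7)) (u (E 8)) (u (E 9))
  have e2 := x4_NI h3 t (v (H 0)) (v (E 2)) (v (E 3)) (v (E 4)) (v (E 7)) (v (E 8)) (v (E 9))
  have e3 := x4_NI h3 t (w (H 0)) (w (E 2)) (w (E 3)) (w (E 4)) (w (E 7)) (w (E 8)) (w (E 9))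
  rw [← NI_eq hu] at e1
  rw [← NI_eq hv] at e2
  rw [← NI_eq hw] at e3
  rw [e1, e2, e3]
  simp only [tf, d3, vec_H0, vec_E2, vec_E3, vec_E4, vec_E7, vec_E8, vec_E9]
  linear_combination ((3) * t * t * u (E 3) * v (E 7) * w (E 9) + (-3) * t * t * u (E 3) * v (E 9) * w (E 7) + (-3) * t * t * u (E 7) * v (E 3) * w (E 9) + (3) * t * t * u (E 7) * v (E 9) * w (E 3) + (3) * t * t * u (E 9) * v (E 3) * w (E 7) + (-3) * t * t * u (E 9) * v (E 7) * w (E 3) + (2) * t * u (H 0) * v (E 3) * w (E 9) + (-2) * t * u (H 0) * v (E 9) * w (E 3) + (1) * t * u (E 2) * v (E 7) * w (E 9) + (-1) * t * u (E 2) * v (E 9) * w (E 7) + (-2) * t * u (E 3) * v (H 0) * w (E 9) + (-1) * t * u (E 3) * v (E 7) * w (E 8) + (1) * t * u (E 3) * v (E 8) * w (E 7) + (2) * t * u (E 3) * v (E 9) * w (H 0) + (-1) * t * u (E 7) * v (E 2) * w (E 9) + (1) * t * u (E 7) * v (E 3) * w (E 8) + (-1) *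 t * u (E 7) * v (E 8) * w (E 3) + (1) * t * u (E 7) * v (E 9) * w (E 2) + (-1) * t * u (E 8) * v (E 3) * w (E 7) + (1) * t * u (E 8) * v (E 7) * w (E 3) + (2) * t * u (E 9) * v (H 0) * w (E 3) + (1) * t * u (E 9) * v (E 2) * w (E 7) + (-2) * t * u (E 9) * v (E 3) * w (H 0) + (-1) * t * u (E 9) * v (E 7) * w (E 2)) * h3

set_option maxHeartbeats 1000000 in
theorem tf_x5 (h3 : (3 : k) = 0) (t : k) {u v w : chevG2.Idx → k} (hu : u ∈ NI k) (hv : v ∈ NI k) (hw : w ∈ NI k) :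
    tf (chevG2.x k 5 t *ᵥ u) (chevG2.x k 5 t *ᵥ v) (chevG2.x k 5 t *ᵥ w) = tf u v w := by
  have e1 := x5_NI h3 t (u (H 0)) (u (E 2)) (u (E 3)) (u (E 4)) (u (E 7)) (u (E 8)) (u (E 9))
  have e2 := x5_NI h3 t (v (H 0)) (v (E 2)) (v (E 3)) (v (E 4)) (v (E 7)) (v (E 8)) (v (E 9))
  have e3 := x5_NI h3 t (w (H 0)) (w (E 2)) (w (E 3)) (w (E 4)) (w (E 7)) (w (E 8)) (w (E 9))
  rw [← NI_eq hu] at e1
  rw [← NI_eq hv] at e2
  rw [← NI_eq hw] at e3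
  rw [e1, e2, e3]
  simp only [tf, d3, vec_H0, vec_E2, vec_E3, vec_E4, vec_E7, vec_E8, vec_E9]
  ring

set_option maxHeartbeats 1000000 in
theorem tf_x6 (h3 : (3 : k) = 0) (t : k) {u v w : chevG2.Idx → k} (hu : u ∈ NI k) (hv : v ∈ NI k) (hw : w ∈ NI k) :
    tf (chevG2.x k 6 t *ᵥ u) (chevG2.x k 6 t *ᵥ v) (chevG2.x k 6 t *ᵥ w) = tf u v w := by
  have e1 := x6_NI h3 t (u (H 0)) (u (E 2)) (u (E 3)) (u (E 4)) (u (E 7)) (u (E 8)) (u (E 9))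
  have e2 := x6_NI h3 t (v (H 0)) (v (E 2)) (v (E 3)) (v (E 4)) (v (E 7)) (v (E 8)) (v (E 9))
  have e3 := x6_NI h3 t (w (H 0)) (w (E 2)) (w (E 3)) (w (E 4)) (w (E 7)) (w (E 8)) (w (E 9))
  rw [← NI_eq hu] at e1
  rw [← NI_eq hv] at e2
  rw [← NI_eq hw] at e3
  rw [e1, e2, e3]
  simp only [tf, d3, vec_H0, vec_E2, vec_E3, vec_E4, vec_E7, vec_E8, vec_E9]
  ring

set_option maxHeartbeats 1000000 in
theorem tf_x7 (h3 : (3 : k) = 0) (t : k) {u v w : chevG2.Idx → k} (hu : u ∈ NI k) (hv : v ∈ NI k) (hw : w ∈ NI k) :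
    tf (chevG2.x k 7 t *ᵥ u) (chevG2.x k 7 t *ᵥ v) (chevG2.x k 7 t *ᵥ w) = tf u v w := by
  have e1 := x7_NI h3 t (u (H 0)) (u (E 2)) (u (E 3)) (u (E 4)) (u (E 7)) (u (E 8)) (u (E 9))
  have e2 := x7_NI h3 t (v (H 0)) (v (E 2)) (v (E 3)) (v (E 4)) (v (E 7)) (v (E 8)) (v (E 9))
  have e3 := x7_NI h3 t (w (H 0)) (w (E 2)) (w (E 3)) (w (E 4)) (w (E 7)) (w (E 8)) (w (E 9))
  rw [← NI_eq hu] at e1
  rw [← NI_eq hv] at e2
  rw [← NI_eq hw] at e3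
  rw [e1, e2, e3]
  simp only [tf, d3, vec_H0, vec_E2, vec_E3, vec_E4, vec_E7, vec_E8, vec_E9]
  linear_combination ((3) * t * t * u (E 2) * v (E 4) * w (E 8) + (-3) * t * t * u (E 2) * v (E 8) * w (E 4) + (-3) * t * t * u (E 4) * v (E 2) * w (E 8) + (3) * t * t * u (E 4) * v (E 8) * w (E 2) + (3) * t * t * u (E 8) * v (E 2) * w (E 4) + (-3) * t * t * u (E 8) * v (E 4) * w (E 2) + (-2) * t * u (H 0) * v (E 2) * w (E 8) + (2) * t * u (H 0) * v (E 8) * w (E 2) + (2) * t * u (E 2) * v (H 0) * w (E 8) + (-1) * t * u (E 2) * v (E 4) * w (E 9) + (-2) * t * u (E 2) * v (E 8) * w (H 0) + (1) * t * u (E 2) * v (E 9) * w (E 4) + (1) * t * u (E 3) * v (E 4) * w (E 8) + (-1) * t * u (E 3) * v (E 8) * w (E 4) + (1) * t * u (E 4) * v (E 2) * w (E 9) + (-1) * t * u (E 4) * v (E 3) * w (E 8) + (1) * t * u (E 4) * v (E 8) * w (E 3) + (-1) * t * u (E 4) * v (E 9) * w (E 2)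 + (-2) * t * u (E 8) * v (H 0) * w (E 2) + (2) * t * u (E 8) * v (E 2) * w (H 0) + (1) * t * u (E 8) * v (E 3) * w (E 4) + (-1) * t * u (E 8) * v (E 4) * w (E 3) + (-1) * t * u (E 9) * v (E 2) * w (E 4) + (1) * t * u (E 9) * v (E 4) * w (E 2)) * h3

set_option maxHeartbeats 1000000 in
theorem tf_x8 (h3 : (3 : k) = 0) (t : k) {u v w : chevG2.Idx → k} (hu : u ∈ NI k) (hv : v ∈ NI k) (hw : w ∈ NI k) :
    tf (chevG2.x k 8 t *ᵥ u) (chevG2.x k 8 t *ᵥ v) (chevG2.x k 8 t *ᵥ w) = tf u v w := by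
  have e1 := x8_NI h3 t (u (H 0)) (u (E 2)) (u (E 3)) (u (E 4)) (u (E 7)) (u (E 8)) (u (E 9))
  have e2 := x8_NI h3 t (v (H 0)) (v (E 2)) (v (E 3)) (v (E 4)) (v (E 7)) (v (E 8)) (v (E 9))
  have e3 := x8_NI h3 t (w (H 0)) (w (E 2)) (w (E 3)) (w (E 4)) (w (E 7)) (w (E 8)) (w (E 9))
  rw [← NI_eq hu] at e1
  rw [← NI_eq hv] at e2
  rw [← NI_eq hw] at e3
  rw [e1, e2, e3]
  simp only [tf, d3, vec_H0, vec_E2, vec_E3, vec_E4, vec_E7, vec_E8, vec_E9]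
  linear_combination ((-3) * t * t * u (E 2) * v (E 3) * w (E 7) + (3) * t * t * u (E 2) * v (E 7) * w (E 3) + (3) * t * t * u (E 3) * v (E 2) * w (E 7) + (-3) * t * t * u (E 3) * v (E 7) * w (E 2) + (-3) * t * t * u (E 7) * v (E 2) * w (E 3) + (3) * t * t * u (E 7) * v (E 3) * w (E 2) + (1) * t * u (H 0) * v (E 2) * w (E 7) + (-1) * t * u (H 0) * v (E 7) * w (E 2) + (-1) * t * u (E 2) * v (H 0) * w (E 7) + (-1) * t * u (E 2) * v (E 3) * w (E 9) + (1) * t * u (E 2) * v (E 7) * w (H 0) + (1) * t * u (E 2) * v (E 9) * w (E 3) + (1) * t * u (E 3) * v (E 2) * w (E 9) + (-1) * t * u (E 3) * v (E 4) * w (E 7) + (1) * t * u (E 3) * v (E 7) * w (E 4) + (-1) * t * u (E 3) * v (E 9) * w (E 2) + (1) * t * u (E 4) * v (E 3) * w (E 7) + (-1) * t * u (E 4) * v (E 7) * w (E 3) + (1) * t * u (E 7) * v (H 0) * w (E 2) + (-1) * t * u (E 7) * v (E 2) * w (H 0) + (-1) * t *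 u (E 7) * v (E 3) * w (E 4) + (1) * t * u (E 7) * v (E 4) * w (E 3) + (-1) * t * u (E 9) * v (E 2) * w (E 3) + (1) * t * u (E 9) * v (E 3) * w (E 2)) * h3

set_option maxHeartbeats 1000000 in
theorem tf_x9 (h3 : (3 : k) = 0) (t : k) {u v w : chevG2.Idx → k} (hu : u ∈ NI k) (hv : v ∈ NI k) (hw : w ∈ NI k) :
    tf (chevG2.x k 9 t *ᵥ u) (chevG2.x k 9 t *ᵥ v) (chevG2.x k 9 t *ᵥ w) = tf u v w := by
  have e1 := x9_NI h3 t (u (H 0)) (u (E 2)) (u (E 3)) (u (E 4)) (u (E 7)) (u (E 8)) (u (E 9))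
  have e2 := x9_NI h3 t (v (H 0)) (v (E 2)) (v (E 3)) (v (E 4)) (v (E 7)) (v (E 8)) (v (E 9))
  have e3 := x9_NI h3 t (w (H 0)) (w (E 2)) (w (E 3)) (w (E 4)) (w (E 7)) (w (E 8)) (w (E 9))
  rw [← NI_eq hu] at e1
  rw [← NI_eq hv] at e2
  rw [← NI_eq hw] at e3
  rw [e1, e2, e3]
  simp only [tf, d3, vec_H0, vec_E2, vec_E3, vec_E4, vec_E7, vec_E8, vec_E9]
  linear_combination ((-1) * t * t * u (E 2) * v (E 3) * w (E 4) + (1) * t * t * u (E 2) * v (E 4) * w (E 3) + (1) * t * t * u (E 3) * v (E 2) * w (E 4) + (-1) * t * t * u (E 3) * v (E 4) * w (E 2) + (-1) * t * t * u (E 4) * v (E 2) * w (E 3) + (1) * t * t * u (E 4) * v (E 3) * w (E 2) + (-1) * t * u (H 0) * v (E 3) * w (E 4) + (1) * t * u (H 0) * v (E 4) * w (E 3) + (1) * t * u (E 3) * v (H 0) * w (E 4) + (-1) * t * u (E 3) * v (E 4) * w (H 0) + (-1) * t * u (E 4) * v (H 0) * w (E 3) + (1) * t * u (E 4) *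 v (E 3) * w (H 0)) * h3

set_option maxHeartbeats 1000000 in
theorem tf_x10 (h3 : (3 : k) = 0) (t : k) {u v w : chevG2.Idx → k} (hu : u ∈ NI k) (hv : v ∈ NI k) (hw : w ∈ NI k) :
    tf (chevG2.x k 10 t *ᵥ u) (chevG2.x k 10 t *ᵥ v) (chevG2.x k 10 t *ᵥ w) = tf u v w := by
  have e1 := x10_NI h3 t (u (H 0)) (u (E 2)) (u (E 3)) (u (E 4)) (u (E 7)) (u (E 8)) (u (E 9))
  have e2 := x10_NI h3 t (v (H 0)) (v (E 2)) (v (E 3)) (v (E 4)) (v (E 7)) (v (E 8)) (v (E 9))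
  have e3 := x10_NI h3 t (w (H 0)) (w (E 2)) (w (E 3)) (w (E 4)) (w (E 7)) (w (E 8)) (w (E 9))
  rw [← NI_eq hu] at e1
  rw [← NI_eq hv] at e2
  rw [← NI_eq hw] at e3
  rw [e1, e2, e3]
  simp only [tf, d3, vec_H0, vec_E2, vec_E3, vec_E4, vec_E7, vec_E8, vec_E9]
  ring

set_option maxHeartbeats 1000000 in
theorem tf_x11 (h3 : (3 : k) = 0) (t : k) {u v w : chevG2.Idx → k} (hu : u ∈ NI k) (hv : v ∈ NI k) (hw : w ∈ NI k) :
    tf (chevG2.x k 11 t *ᵥ u) (chevG2.x k 11 t *ᵥ v) (chevG2.x k 11 t *ᵥ w) = tf u v w := by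
  have e1 := x11_NI h3 t (u (H 0)) (u (E 2)) (u (E 3)) (u (E 4)) (u (E 7)) (u (E 8)) (u (E 9))
  have e2 := x11_NI h3 t (v (H 0)) (v (E 2)) (v (E 3)) (v (E 4)) (v (E 7)) (v (E 8)) (v (E 9))
  have e3 := x11_NI h3 t (w (H 0)) (w (E 2)) (w (E 3)) (w (E 4)) (w (E 7)) (w (E 8)) (w (E 9))
  rw [← NI_eq hu] at e1
  rw [← NI_eq hv] at e2
  rw [← NI_eq hw] at e3
  rw [e1, e2, e3]
  simp only [tf, d3, vec_H0, vec_E2, vec_E3, vec_E4, vec_E7, vec_E8, vec_E9]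
  ring

theorem x_mem (h3 : (3 : k) = 0) (r : ℕ) (t : k) {v : chevG2.Idx → k} (hv : v ∈ NI k) : chevG2.x k r t *ᵥ v ∈ NI k := by
  by_cases hr : r < 12
  · rw [NI_eq hv]
    interval_cases r
    · rw [x0_NI h3]; exact vec_mem _ _ _ _ _ _ _
    · rw [x1_NI h3]; exact vec_mem _ _ _ _ _ _ _
    · rw [x2_NI h3]; exact vec_mem _ _ _ _ _ _ _
    · rw [x3_NI h3]; exact vec_mem _ _ _ _ _ _ _
    · rw [x4_NI h3]; exact vec_mem _ _ _ _ _ _ _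
    · rw [x5_NI h3]; exact vec_mem _ _ _ _ _ _ _
    · rw [x6_NI h3]; exact vec_mem _ _ _ _ _ _ _
    · rw [x7_NI h3]; exact vec_mem _ _ _ _ _ _ _
    · rw [x8_NI h3]; exact vec_mem _ _ _ _ _ _ _
    · rw [x9_NI h3]; exact vec_mem _ _ _ _ _ _ _
    · rw [x10_NI h3]; exact vec_mem _ _ _ _ _ _ _
    · rw [x11_NI h3]; exact vec_mem _ _ _ _ _ _ _
  · rw [ReeGroup.x_of_le hr, Matrix.one_mulVec]; exact hv

theorem tf_x (h3 : (3 : k) = 0) (r : ℕ) (t : k) {u v w : chevG2.Idx → k} (hu : u ∈ NI k) (hv : v ∈ NI k)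
    (hw : w ∈ NI k) : tf (chevG2.x k r t *ᵥ u) (chevG2.x k r t *ᵥ v) (chevG2.x k r t *ᵥ w) = tf u v w := by
  by_cases hr : r < 12
  · interval_cases r
    exacts [tf_x0 h3 t hu hv hw, tf_x1 h3 t hu hv hw, tf_x2 h3 t hu hv hw, tf_x3 h3 t hu hv hw, tf_x4 h3 t hu hv hw, tf_x5 h3 t hu hv hw, tf_x6 h3 t hu hv hw, tf_x7 h3 t hu hv hw, tf_x8 h3 t hu hv hw, tf_x9 h3 t hu hv hw, tf_x10 h3 t hu hv hw, tf_x11 h3 t hu hv hw]
  · rw [ReeGroup.x_of_le hr, Matrix.one_mulVec, Matrix.one_mulVec, Matrix.one_mulVec]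

end Cfsg.Agent.H905.Ree
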