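import Cfsg.Agent.H905.Sp4Pair
import Cfsg.Agent.H909.Sp4Ker

/-!
# The simple modules of `Sp_4(K)` in defining characteristic of dimension at most 12 (helper905)

* `Good` : the list of the pairs (highest weight, dimension);
* **`good_of_coef`** : the list is complete.
-/

set_option autoImplicit false
set_option linter.unusedSectionVars false
set_option linter.style.haveILetI false

namespace Cfsg.Agent.H905.Sp4

open CoxeterSystem Cfsg.Agent.ChevalleyStructure.CoxeterGeom Cfsg.Agent.Tits.Roots Cfsg.Agent.Nodes.TypeC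
open Cfsg.Agent.Nodes.Comb Cfsg.Agent.Nodes.Reps Cfsg.Agent.Nodes.WittRoot Cfsg.Agent.Nodes.BNOf
open Cfsg.Agent.Nodes.WittRGD Cfsg.Agent.Nodes.RGDLib Cfsg.Agent.Nodes.OppDec Cfsg.Agent.Nodes.WittAll
open Cfsg.Agent.Nodes.Bruhat Cfsg.Agent.Omega.CR Cfsg.Agent.Omega.FOne.Lift.Sd Cfsg.Agent.Nodes.StabComb
open Cfsg.Agent.Tits.Core Cfsg.Agent.Tits.Exchange Cfsg.Agent.H905.Md Cfsg.Agent.KFacts.RgdOpp
open Cfsg.Agent.TitsThree Cfsg.Agent.TitsThree.Siegel Cfsg.Agent.TitsThree.WittFrame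
  Cfsg.Agent.TitsThree.FrameCN Cfsg.Agent.TitsThree.SpIdent Cfsg.Agent.TitsThree.SpGen
open Cfsg.Agent.H62.SpCross Cfsg.Agent.H62.FrameSL
open scoped MatrixGroups

universe u

/-- the highest weights and dimensions `≤ 12` -/
def Good (p c₁ c₂ d : ℕ) : Prop :=
  (∃ i, c₁ = p ^ i ∧ c₂ = 0 ∧ d = 4) ∨ (p = 2 ∧ ∃ i, c₁ = 0 ∧ c₂ = 2 ^ i ∧ d = 4) ∨
  (p ≠ 2 ∧ ∃ i, c₁ = 0 ∧ c₂ = p ^ i ∧ d = 5) ∨ (p ≠ 2 ∧ ∃ i, c₁ = 2 * p ^ i ∧ c₂ = 0 ∧ d = 10) ∨
  (p = 5 ∧ ∃ i, c₁ = 5 ^ i ∧ c₂ = 5 ^ i ∧ d = 12)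

section Upper

variable {K : Type u} [Field K]

theorem F1_sum (g h : V4 K ≃ₗ[K] V4 K) : F1 (g * h) =
    ∑ x : Fin 2 ⊕ Fin 2, g (Pi.single x 1) (.inr 0) * h (Pi.single (.inr 0) 1) x := by
  unfold F1
  change g (h _) _ = _
  conv_lhs => rw [← Finset.univ_sum_single (h (Pi.single (Sum.inr 0) 1))]
  rw [map_sum, Finset.sum_apply]
  refine Finset.sum_congr rfl fun x _ => ?_
  have h1 : (Pi.single x (h (Pi.single (Sum.inr 0) 1) x) : V4 K) =
      h (Pi.single (Sum.inr 0) 1) x • Pi.single x 1 := by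
    rw [← Pi.single_smul, smul_eq_mul, mul_one]
  rw [h1, map_smul, Pi.smul_apply, smul_eq_mul, mul_comm]

theorem row_sum (g : V4 K ≃ₗ[K] V4 K) (v : V4 K) (i : Fin 2 ⊕ Fin 2) :
    g v i = ∑ x : Fin 2 ⊕ Fin 2, g (Pi.single x 1) i * v x := by
  conv_lhs => rw [← Finset.univ_sum_single v]
  rw [map_sum, Finset.sum_apply]
  refine Finset.sum_congr rfl fun x _ => ?_
  have h1 : (Pi.single x (v x) : V4 K) = v x • Pi.single x 1 := by
    rw [← Pi.single_smul, smul_eq_mul, mul_one]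
  rw [h1, map_smul, Pi.smul_apply, smul_eq_mul, mul_comm]

/-- the minors of the first two columns -/
def mc (h : V4 K ≃ₗ[K] V4 K) (x y : Fin 2 ⊕ Fin 2) : K :=
  h (Pi.single (.inr 0) 1) x * h (Pi.single (.inr 1) 1) y - h (Pi.single (.inr 0) 1) y * h (Pi.single (.inr 1) 1) x

/-- the minors of the first two rows -/
def mr (g : V4 K ≃ₗ[K] V4 K) (x y : Fin 2 ⊕ Fin 2) : K :=
  g (Pi.single x 1) (.inr 0) * g (Pi.single y 1) (.inr 1) - g (Pi.single x 1) (.inr 1) * g (Pi.single y 1) (.inr 0)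

theorem F2_plucker (g h : V4 K ≃ₗ[K] V4 K) : F2 (g * h) =
    mr g (.inr 0) (.inr 1) * mc h (.inr 0) (.inr 1) + mr g (.inr 0) (.inl 1) * mc h (.inr 0) (.inl 1) +
    mr g (.inr 0) (.inl 0) * mc h (.inr 0) (.inl 0) + mr g (.inr 1) (.inl 1) * mc h (.inr 1) (.inl 1) +
    mr g (.inr 1) (.inl 0) * mc h (.inr 1) (.inl 0) + mr g (.inl 1) (.inl 0) * mc h (.inl 1) (.inl 0) := by
  unfold F2
  change g (h _) _ * g (h _) _ - g (h _) _ * g (h _) _ = _
  rw [row_sum g (h (Pi.single (.inr 0) 1)) (.inr 0), row_sum g (h (Pi.single (.inr 1) 1)) (.inr 1),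
    row_sum g (h (Pi.single (.inr 0) 1)) (.inr 1), row_sum g (h (Pi.single (.inr 1) 1)) (.inr 0)]
  simp only [Fintype.sum_sum_type, Fin.sum_univ_two, mr, mc]
  ring

theorem mc_rel {h : V4 K ≃ₗ[K] V4 K} (hh : h ∈ isos (form 2 K)) : mc h (.inr 0) (.inl 0) + mc h (.inr 1) (.inl 1) = 0 := by
  have h1 := hh (Pi.single (.inr 0) 1) (Pi.single (.inr 1) 1)
  rw [h_eq, h_eq] at h1
  unfold mc
  simp at h1
  linear_combination h1

theorem mr_rel {g : V4 K ≃ₗ[K] V4 K} (hg : g ∈ isos (form 2 K)) : mr g (.inr 0) (.inl 0) + mr g (.inr 1) (.inl 1) = 0 := by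
  have h1 := HForm.IsIso.inv _ hg (Pi.single (.inl 0) 1) (Pi.single (.inl 1) 1)
  have key : ∀ v w, (form 2 K).h v (g⁻¹ w) = (form 2 K).h (g v) w := by
    intro v w
    rw [← hg v (g⁻¹ w)]
    congr 1
    exact g.apply_symm_apply w
  have h2 : ∀ (v : V4 K) (i : Fin 2), g v (.inr i) = (form 2 K).h v (g⁻¹ (Pi.single (.inl i) 1)) := by
    intro v i
    rw [key, ← coord_inr]
  have h3 : ∀ i : Fin 2, (g⁻¹ (Pi.single (.inl i) 1) : V4 K) = fun x => match x with
      | .inl m => g (Pi.single (.inr m) 1) (.inr i)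
      | .inr m => -g (Pi.single (.inl m) 1) (.inr i) := by
    intro i
    funext x
    rcases x with m | m
    · change _ = g (Pi.single (.inr m) 1) (.inr i)
      rw [h2, h_eq]
      fin_cases m <;> simp
    · change _ = -g (Pi.single (.inl m) 1) (.inr i)
      rw [h2, h_eq]
      fin_cases m <;> simp
  rw [h3, h3, h_eq, h_eq] at h1
  unfold mr
  simp at h1
  linear_combination h1

end Upper


section Lower

variable {K : Type u} [Field K]

/-- coordinate pairs -/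
def ip (K : Type u) [Field K] (x y : Fin 4) (hxy : x ≠ y) (h : om (Pi.single x 1 : Fin 4 → K) (Pi.single y 1) = 0) :
    IsoPair K where
  a := Pi.single x 1
  b := Pi.single y 1
  iso := h
  ind := by
    rw [LinearIndependent.pair_iff]
    intro s t e
    have e0 := congrFun e x
    have e1 := congrFun e y
    simp [hxy, hxy.symm] at e0 e1
    exact ⟨e0, e1⟩

/-- four isotropic planes -/
def pl (K : Type u) [Field K] (i : Fin 4) : IsoPair K := match i with
  | 0 => ip K 0 1 (by decide) (by simp [om])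
  | 1 => ip K 0 2 (by decide) (by simp [om])
  | 2 => ip K 1 3 (by decide) (by simp [om])
  | 3 => ip K 2 3 (by decide) (by simp [om])

theorem D2_pl (i l : Fin 4) : D2 (pl K i) (pl K l) = if i = l then 1 else 0 := by
  unfold D2
  fin_cases i <;> fin_cases l <;> simp [pl, ip]

/-- four isotropic pairs -/
def pr (K : Type u) [Field K] (i : Fin 4) : IsoPair K := match i with
  | 0 => ip K 0 1 (by decide) (by simp [om])
  | 1 => ip K 1 0 (by decide) (by simp [om])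
  | 2 => ip K 2 3 (by decide) (by simp [om])
  | 3 => ip K 3 2 (by decide) (by simp [om])

theorem D1_pr (i l : Fin 4) : D1 (pr K i) (pr K l) = if i = l then 1 else 0 := by
  unfold D1
  fin_cases i <;> fin_cases l <;> simp [pr, ip]

end Lower

section Main

variable {K : Type u} [Field K] [Fintype K] {k V : Type*} [Field k] [AddCommGroup V] [Module k V]
  [FiniteDimensional k V] {ρ : isos (form 2 K) →* Module.End k V}

/-- **The modules of dimension at most 12.** -/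
theorem good_of_coef (p : ℕ) [hp : Fact p.Prime] [CharP K p] [CharP k p]
    (hirr : ∀ L : Submodule k V, Ivt ρ ⊤ L → L = ⊥ ∨ L = ⊤) {j : K →+* k} {c₁ c₂ : ℕ} {c : V} (hc0 : c ≠ 0)
    {ψ : Module.Dual k V} (hψ0 : ψ ≠ 0) (hK : p = 2 → 4 ≤ Fintype.card K) (h₁ : c₁ ≤ Fintype.card K - 1)
    (h₂ : c₂ ≤ Fintype.card K - 1) (h0 : ¬ (c₁ = 0 ∧ c₂ = 0))
    (hcoef : ∀ y : isos (form 2 K), ψ (ρ y c) = j (F1 y.1) ^ c₁ * j (F2 y.1) ^ c₂)
    (hV : Module.finrank k V ≤ 12) : Good p c₁ c₂ (Module.finrank k V) := by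
  have hker : ∀ r s : IsoPair K, (ψ.comp (ρ (gr r)) : Module.Dual k V) (ρ (gc s) c) =
      j (D1 r s) ^ c₁ * j (D2 r s) ^ c₂ := by
    intro r s
    change ψ (ρ (gr r) (ρ (gc s) c)) = _
    rw [← rho_mul, hcoef, F1_pair, F2_pair]
  -- the twisted embedding
  have htw : ∀ i : ℕ, ∃ j' : K →+* k, ∀ x, j' x = j x ^ p ^ i := by
    intro i
    have : ExpChar k p := ExpChar.prime hp.out
    exact ⟨(iterateFrobenius k p i).comp j, fun x => iterateFrobenius_def _ _ _⟩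
  rcases H909.Sp4Ker.kernel_bound j h₁ h₂ h0 hK (fun r => ψ.comp (ρ (gr r))) (fun s => ρ (gc s) c) hker hV with
    ⟨i, rfl, rfl⟩ | ⟨hp2, i, rfl, rfl, h10⟩ | ⟨i, rfl, rfl, h5⟩ | ⟨rfl, i, rfl, rfl, h12⟩
  · left
    refine ⟨i, rfl, rfl, le_antisymm ?_ ?_⟩
    · obtain ⟨j', hj'⟩ := htw i
      have h1 := finrank_le_of_kernel (G := ⊤) hirr hc0 hψ0 (α := Fin 2 ⊕ Fin 2)
        (fun g x => j' (g.1 (Pi.single x 1) (.inr 0))) (fun h x => j' (h.1 (Pi.single (.inr 0) 1) x)) (fun g _ h _ => by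
          rw [hcoef, pow_zero, mul_one, ← hj']
          change j' (F1 (g.1 * h.1)) = _
          rw [F1_sum, map_sum]
          exact Finset.sum_congr rfl fun x _ => map_mul _ _ _)
      simpa using h1
    · have h1 := H909.Sp4Ker.le_of_biorth (d := (1 : k)) (fun i : Fin 4 => (ψ.comp (ρ (gr (pr K i))) : Module.Dual k V))
        (fun l => ρ (gc (pr K l)) c) one_ne_zero (fun a b => by
          rw [hker, D1_pr, pow_zero, mul_one]
          by_cases hab : a = b
          · rw [if_pos hab, if_pos hab, map_one, one_pow]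
          · rw [if_neg hab, if_neg hab, map_zero, zero_pow (pow_ne_zero _ hp.out.ne_zero)])
      simpa using h1
  · refine Or.inr (Or.inr (Or.inr (Or.inl ⟨hp2, i, rfl, rfl, le_antisymm ?_ h10⟩)))
    obtain ⟨j', hj'⟩ := htw i
    have h1 := finrank_le_of_kernel (G := ⊤) hirr hc0 hψ0 (α := Fin 10)
      (fun g => let a := fun x => j' (g.1 (Pi.single x 1) (.inr 0))
        ![a (.inl 0) ^ 2, a (.inl 1) ^ 2, a (.inr 0) ^ 2, a (.inr 1) ^ 2, 2 * a (.inl 0) * a (.inl 1),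
          2 * a (.inl 0) * a (.inr 0), 2 * a (.inl 0) * a (.inr 1), 2 * a (.inl 1) * a (.inr 0),
          2 * a (.inl 1) * a (.inr 1), 2 * a (.inr 0) * a (.inr 1)])
      (fun h => let b := fun x => j' (h.1 (Pi.single (.inr 0) 1) x)
        ![b (.inl 0) ^ 2, b (.inl 1) ^ 2, b (.inr 0) ^ 2, b (.inr 1) ^ 2, b (.inl 0) * b (.inl 1),
          b (.inl 0) * b (.inr 0), b (.inl 0) * b (.inr 1), b (.inl 1) * b (.inr 0),
          b (.inl 1) * b (.inr 1), b (.inr 0) * b (.inr 1)]) (fun g _ h _ => by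
        rw [hcoef, pow_zero, mul_one, mul_comm 2, pow_mul, ← hj']
        change j' (F1 (g.1 * h.1)) ^ 2 = _
        rw [F1_sum, Fintype.sum_sum_type, Fin.sum_univ_two, Fin.sum_univ_two]
        simp [Fin.sum_univ_succ]
        ring)
    simpa using h1
  · obtain ⟨j', hj'⟩ := htw i
    by_cases hp2 : p = 2
    · subst hp2
      refine Or.inr (Or.inl ⟨rfl, i, rfl, rfl, le_antisymm ?_ ?_⟩)
      · have h1 := finrank_le_of_kernel (G := ⊤) hirr hc0 hψ0 (α := Fin 4)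
          (fun g => ![j' (mr g.1 (.inr 0) (.inr 1)), j' (mr g.1 (.inr 0) (.inl 1)), j' (mr g.1 (.inr 1) (.inl 0)),
            j' (mr g.1 (.inl 1) (.inl 0))])
          (fun h => ![j' (mc h.1 (.inr 0) (.inr 1)), j' (mc h.1 (.inr 0) (.inl 1)), j' (mc h.1 (.inr 1) (.inl 0)),
            j' (mc h.1 (.inl 1) (.inl 0))]) (fun g _ h _ => by
          rw [hcoef, pow_zero, one_mul, ← hj']
          change j' (F2 (g.1 * h.1)) = _
          have h2 := mc_rel h.2
          have h3 := mr_rel g.2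
          have h4 : (2 : K) = 0 := by
            have := CharP.cast_eq_zero K 2
            exact_mod_cast this
          rw [F2_plucker]
          have h5 : mr g.1 (.inr 0) (.inl 0) * mc h.1 (.inr 0) (.inl 0) +
              mr g.1 (.inr 1) (.inl 1) * mc h.1 (.inr 1) (.inl 1) = 0 := by
            linear_combination (mr g.1 (.inr 1) (.inl 1)) * h2 + mc h.1 (.inr 0) (.inl 0) * h3 -
              (mr g.1 (.inr 1) (.inl 1) * mc h.1 (.inr 0) (.inl 0)) * h4
          have h6 : mr g.1 (.inr 0) (.inr 1) * mc h.1 (.inr 0) (.inr 1) + mr g.1 (.inr 0) (.inl 1) * mc h.1 (.inr 0) (.inl 1) +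
            mr g.1 (.inr 0) (.inl 0) * mc h.1 (.inr 0) (.inl 0) + mr g.1 (.inr 1) (.inl 1) * mc h.1 (.inr 1) (.inl 1) +
            mr g.1 (.inr 1) (.inl 0) * mc h.1 (.inr 1) (.inl 0) + mr g.1 (.inl 1) (.inl 0) * mc h.1 (.inl 1) (.inl 0) =
            mr g.1 (.inr 0) (.inr 1) * mc h.1 (.inr 0) (.inr 1) + mr g.1 (.inr 0) (.inl 1) * mc h.1 (.inr 0) (.inl 1) +
            mr g.1 (.inr 1) (.inl 0) * mc h.1 (.inr 1) (.inl 0) + mr g.1 (.inl 1) (.inl 0) * mc h.1 (.inl 1) (.inl 0) := by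
            linear_combination h5
          rw [h6]
          simp [Fin.sum_univ_succ]
          ring)
        simpa using h1
      · have h1 := H909.Sp4Ker.le_of_biorth (d := (1 : k))
          (fun i : Fin 4 => (ψ.comp (ρ (gr (pl K i))) : Module.Dual k V))
          (fun l => ρ (gc (pl K l)) c) one_ne_zero (fun a b => by
            rw [hker, D2_pl, pow_zero, one_mul]
            by_cases hab : a = b
            · rw [if_pos hab, if_pos hab, map_one, one_pow]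
            · rw [if_neg hab, if_neg hab, map_zero, zero_pow (pow_ne_zero _ hp.out.ne_zero)])
        simpa using h1
    · refine Or.inr (Or.inr (Or.inl ⟨hp2, i, rfl, rfl, le_antisymm ?_ (h5 hp2)⟩))
      have h1 := finrank_le_of_kernel (G := ⊤) hirr hc0 hψ0 (α := Fin 5)
        (fun g => ![j' (mr g.1 (.inr 0) (.inr 1)), j' (mr g.1 (.inr 0) (.inl 1)), j' (mr g.1 (.inr 1) (.inl 0)),
          j' (mr g.1 (.inl 1) (.inl 0)), j' (mr g.1 (.inr 0) (.inl 0) - mr g.1 (.inr 1) (.inl 1))])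
        (fun h => ![j' (mc h.1 (.inr 0) (.inr 1)), j' (mc h.1 (.inr 0) (.inl 1)), j' (mc h.1 (.inr 1) (.inl 0)),
          j' (mc h.1 (.inl 1) (.inl 0)), j' (mc h.1 (.inr 0) (.inl 0))]) (fun g _ h _ => by
        rw [hcoef, pow_zero, one_mul, ← hj']
        change j' (F2 (g.1 * h.1)) = _
        have h2 := mc_rel h.2
        rw [F2_plucker]
        have h6 : mr g.1 (.inr 0) (.inr 1) * mc h.1 (.inr 0) (.inr 1) + mr g.1 (.inr 0) (.inl 1) * mc h.1 (.inr 0) (.inl 1) +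
          mr g.1 (.inr 0) (.inl 0) * mc h.1 (.inr 0) (.inl 0) + mr g.1 (.inr 1) (.inl 1) * mc h.1 (.inr 1) (.inl 1) +
          mr g.1 (.inr 1) (.inl 0) * mc h.1 (.inr 1) (.inl 0) + mr g.1 (.inl 1) (.inl 0) * mc h.1 (.inl 1) (.inl 0) =
          mr g.1 (.inr 0) (.inr 1) * mc h.1 (.inr 0) (.inr 1) + mr g.1 (.inr 0) (.inl 1) * mc h.1 (.inr 0) (.inl 1) +
          mr g.1 (.inr 1) (.inl 0) * mc h.1 (.inr 1) (.inl 0) + mr g.1 (.inl 1) (.inl 0) * mc h.1 (.inl 1) (.inl 0) +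
          (mr g.1 (.inr 0) (.inl 0) - mr g.1 (.inr 1) (.inl 1)) * mc h.1 (.inr 0) (.inl 0) := by
          linear_combination (mr g.1 (.inr 1) (.inl 1)) * h2
        rw [h6]
        simp [Fin.sum_univ_succ]
        ring)
      simpa using h1
  · exact Or.inr (Or.inr (Or.inr (Or.inr ⟨rfl, i, rfl, rfl, h12⟩)))

end Main

end Cfsg.Agent.H905.Sp4
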