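import Cfsg.Agent.H905.Sp4Mono
import Cfsg.Agent.H905.MdQ

/-!
# The matrix coefficient of the simple modules of `Sp_4(K)` in defining characteristic (helper905)

* `exists_exp` : a character of `Kˣ` is a power of an embedding;
* **`master`** : `φ (g c) = φ(c) j(F1 g)^c₁ j(F2 g)^c₂`.
-/

set_option autoImplicit false
set_option linter.unusedSectionVars false
set_option linter.style.haveILetI false

namespace Cfsg.Agent.H905.Sp4

open CoxeterSystem Cfsg.Agent.ChevalleyStructure.CoxeterGeom Cfsg.Agent.Tits.Roots Cfsg.Agent.Nodes.TypeC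
open Cfsg.Agent.Nodes.Comb Cfsg.Agent.Nodes.Reps Cfsg.Agent.Nodes.WittRoot Cfsg.Agent.Nodes.BNOf
open Cfsg.Agent.Nodes.WittRGD Cfsg.Agent.Nodes.RGDLib Cfsg.Agent.Nodes.OppDec Cfsg.Agent.Nodes.WittAll
open Cfsg.Agent.Nodes.Bruhat Cfsg.Agent.Omega.CR Cfsg.Agent.Omega.FOne.Lift.Sd Cfsg.Agent.Nodes.StabComb
open Cfsg.Agent.Tits.Core Cfsg.Agent.Tits.Exchange Cfsg.Agent.H905.Md Cfsg.Agent.KFacts.RgdOpp
open Cfsg.Agent.TitsThree Cfsg.Agent.TitsThree.Siegel Cfsg.Agent.TitsThree.WittFrame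
  Cfsg.Agent.TitsThree.FrameCN Cfsg.Agent.TitsThree.SpIdent Cfsg.Agent.TitsThree.SpGen
open Cfsg.Agent.H62.SpCross Cfsg.Agent.H62.FrameSL
open scoped MatrixGroups

universe u

/-! ### characters of `Kˣ` -/

/-- the characters of `Kˣ` are the powers of an embedding -/
theorem exists_exp {K k : Type*} [Field K] [Fintype K] [Field k] (j : K →+* k) (a : Kˣ →* kˣ) :
    ∃ e, e < Fintype.card K - 1 ∧ ∀ s : Kˣ, (a s : k) = j s ^ e := by
  classical
  obtain ⟨ζ, hζ⟩ := IsCyclic.exists_generator (α := Kˣ)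
  have hord : orderOf ζ = Fintype.card K - 1 := by
    rw [orderOf_eq_card_of_forall_mem_zpowers hζ, Nat.card_eq_fintype_card, Fintype.card_units]
  have hpos : 0 < Fintype.card K - 1 := by
    rw [← hord]; exact orderOf_pos ζ
  have hprim : IsPrimitiveRoot (j (ζ : K)) (Fintype.card K - 1) := by
    rw [← hord, ← orderOf_units]
    exact (IsPrimitiveRoot.orderOf (ζ : K)).map_of_injective j.injective
  have h1 : (a ζ : k) ^ (Fintype.card K - 1) = 1 := by
    rw [← hord, ← Units.val_pow_eq_pow_val, ← map_pow, pow_orderOf_eq_one, map_one, Units.val_one]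
  have : NeZero (Fintype.card K - 1) := ⟨hpos.ne'⟩
  obtain ⟨e, he, h2⟩ := hprim.eq_pow_of_pow_eq_one h1
  refine ⟨e, he, fun s => ?_⟩
  obtain ⟨m, hm⟩ := (mem_powers_iff_mem_zpowers.2 (hζ s) : s ∈ Submonoid.powers ζ)
  have hm' : ζ ^ m = s := hm
  rw [← hm', map_pow, Units.val_pow_eq_pow_val, Units.val_pow_eq_pow_val, map_pow, ← h2, ← pow_mul, ← pow_mul, mul_comm]

/-- the same with an exponent in `[1, q - 1]` -/
theorem exists_exp' {K k : Type*} [Field K] [Fintype K] [Field k] (j : K →+* k) (a : Kˣ →* kˣ) :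
    ∃ e, 1 ≤ e ∧ e ≤ Fintype.card K - 1 ∧ ∀ s : Kˣ, (a s : k) = j s ^ e := by
  obtain ⟨e, h1, h2⟩ := exists_exp j a
  rcases Nat.eq_zero_or_pos e with rfl | h3
  · refine ⟨Fintype.card K - 1, by omega, le_rfl, fun s => ?_⟩
    rw [h2, pow_zero, ← map_pow, FiniteField.pow_card_sub_one_eq_one _ (Units.ne_zero s), map_one]
  · exact ⟨e, h3, by omega, h2⟩

/-! ### the torus -/

section Torus

variable {K : Type u} [Field K]

theorem dg_e (l : Fin 2 → Kˣ) (i : Fin 2) :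
    dg l (Pi.single (.inr i) 1 : V4 K) = (l i : K) • (Pi.single (.inr i) 1 : V4 K) := by
  funext x
  rcases x with x | x
  · change (((l x)⁻¹ : Kˣ) : K) * _ = _
    simp
  · change (l x : K) * _ = _
    by_cases h : x = i
    · subst h; simp
    · simp [Pi.single_apply, h]

theorem dg_f (l : Fin 2 → Kˣ) (i : Fin 2) :
    dg l (Pi.single (.inl i) 1 : V4 K) = ((l i)⁻¹ : Kˣ) • (Pi.single (.inl i) 1 : V4 K) := by
  funext x
  rcases x with x | x
  · change (((l x)⁻¹ : Kˣ) : K) * _ = _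
    by_cases h : x = i
    · subst h; simp [Units.smul_def]
    · simp [Pi.single_apply, h, Units.smul_def]
  · change (l x : K) * _ = _
    simp [Units.smul_def]

theorem ext4 {g k : V4 K ≃ₗ[K] V4 K} (h1 : ∀ i : Fin 2, g (Pi.single (.inr i) 1) = k (Pi.single (.inr i) 1))
    (h2 : ∀ i : Fin 2, g (Pi.single (.inl i) 1) = k (Pi.single (.inl i) 1)) : g = k := by
  apply LinearEquiv.toLinearMap_injective
  apply LinearMap.pi_ext'
  rintro (i | i)
  · ext
    simpa using congrFun (h2 i) _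
  · ext
    simpa using congrFun (h1 i) _

/-- the elements of the torus -/
def dgY (l : Fin 2 → Kˣ) : isos (form 2 K) := ⟨dg l, dg_mem l⟩

theorem dgY_mul (l m : Fin 2 → Kˣ) : dgY (l * m) = (dgY l : isos (form 2 K)) * dgY m := by
  apply Subtype.ext
  refine ext4 (fun i => ?_) (fun i => ?_)
  · change dg (l * m) _ = dg l (dg m _)
    rw [dg_e, dg_e, map_smul, dg_e, smul_smul, Pi.mul_apply, Units.val_mul, mul_comm]
  · change dg (l * m) _ = dg l (dg m _)
    rw [dg_f, dg_f]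
    rw [Units.smul_def, Units.smul_def, map_smul, dg_f, Units.smul_def, smul_smul, Pi.mul_apply, mul_inv,
      Units.val_mul, mul_comm]

theorem dgY_mem (l : Fin 2 → Kˣ) : dgY l ∈ Cfsg.Agent.Nodes.WittModel.T (model 2 K) := mem_T.2 (dg_mono l)

theorem F1_dg (l : Fin 2 → Kˣ) : F1 (dgY l : isos (form 2 K)).1 = l 0 := by
  unfold F1
  change dg l _ _ = _
  rw [dg_e]
  simp

theorem F2_dg (l : Fin 2 → Kˣ) : F2 (dgY l : isos (form 2 K)).1 = l 0 * l 1 := by
  unfold F2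
  change dg l _ _ * dg l _ _ - dg l _ _ * dg l _ _ = _
  rw [dg_e, dg_e]
  simp

theorem exists_dg {t : isos (form 2 K)} (ht : t ∈ Cfsg.Agent.Nodes.WittModel.T (model 2 K)) : ∃ l, t = dgY l := by
  have hm := mem_T.1 ht
  have h1 : ∀ i : Fin 2, ∃ l : Kˣ, t.1 (Pi.single (.inr i) 1) = (l : K) • Pi.single (.inr i) 1 := by
    intro i
    obtain ⟨l, hl, e⟩ := hm (i, true)
    exact ⟨Units.mk0 l hl, e⟩
  choose l hl using h1
  refine ⟨l, Subtype.ext (ext4 (fun i => ?_) (fun i => ?_))⟩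
  · rw [hl]
    exact (dg_e l i).symm
  · obtain ⟨m, hm0, e⟩ := hm (i, false)
    have e' : t.1 (Pi.single (.inl i) 1) = m • Pi.single (.inl i) 1 := e
    have h2 : (form 2 K).h (t.1 (Pi.single (.inr i) 1)) (t.1 (Pi.single (.inl i) 1)) =
        (form 2 K).h (Pi.single (.inr i) 1) (Pi.single (.inl i) 1) := t.2 _ _
    rw [hl, e', (form 2 K).smul_left, (form 2 K).smul_right] at h2
    have h3 : (form 2 K).h (Pi.single (.inr i) 1) (Pi.single (.inl i) 1) = 1 := by
      rw [h_eq]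
      fin_cases i <;> simp
    rw [h3, form_σ, mul_one] at h2
    rw [e']
    have h4 : m = ((l i)⁻¹ : Kˣ) := by
      rw [Units.val_inv_eq_inv_val]
      exact eq_inv_of_mul_eq_one_right h2
    rw [h4, ← Units.smul_def]
    exact (dg_f l i).symm

/-- diagonal matrices -/
def sdiag (s : Kˣ) : SL(2, K) := ⟨!![(s : K), 0; 0, ((s⁻¹ : Kˣ) : K)], by simp⟩

theorem sd00 (s : Kˣ) : (sdiag s).1 0 0 = (s : K) := rfl
theorem sd01 (s : Kˣ) : (sdiag s).1 0 1 = (0 : K) := rfl
theorem sd10 (s : Kˣ) : (sdiag s).1 1 0 = (0 : K) := rfl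
theorem sd11 (s : Kˣ) : (sdiag s).1 1 1 = ((s⁻¹ : Kˣ) : K) := rfl

/-- the rank one torus for the long root -/
theorem dg_long (s : Kˣ) : dg ![1, s] ∈ rg (frame 2 K) (sr 1) ⊔ rg (frame 2 K) (-sr 1) := by
  have h1 : (dg ![1, s] : V4 K ≃ₗ[K] V4 K) = phiL (frame 2 K) 1 (sdiag s) := by
    refine ext4 (fun i => ?_) (fun i => ?_)
    · rw [dg_e, phiL_apply, linL_apply, sd00, sd01, sd10, sd11]
      simp only [h_eq]
      fin_cases i
      · simp [SpIdent.e, SpIdent.f]
      · simp [SpIdent.e, SpIdent.f]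
        module
    · rw [dg_f, phiL_apply, linL_apply, sd00, sd01, sd10, sd11]
      simp only [h_eq]
      fin_cases i
      · simp [SpIdent.e, SpIdent.f, Units.smul_def]
      · simp [SpIdent.e, SpIdent.f, Units.smul_def]
        module
  rw [h1, rg_sr, rg_neg_sr]
  have h2 : (phiL (frame 2 K) 1).range = _ := phiL_range (F := K) (m := 2) 1
  have h3 : phiL (frame 2 K) 1 (sdiag s) ∈ (phiL (frame 2 K) 1).range := ⟨_, rfl⟩
  rw [h2] at h3
  have h4 : (nx (1 : Fin 2)) = (1, true) := rfl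
  rw [h4, PG_self, PG_self]
  exact h3

/-- the rank one torus for the short root -/
theorem dg_short (s : Kˣ) : dg ![s, s⁻¹] ∈ rg (frame 2 K) (sr 0) ⊔ rg (frame 2 K) (-sr 0) := by
  have h01 : (0 : Fin 2) ≠ 1 := by decide
  have h1 : (dg ![s, s⁻¹] : V4 K ≃ₗ[K] V4 K) =
      phiS (frame 2 K) h01 (sdiag s) := by
    refine ext4 (fun i => ?_) (fun i => ?_)
    · rw [dg_e, phiS_apply, linS_apply, sd00, sd01, sd10, sd11]
      simp only [h_eq]
      fin_cases i
      · simp [SpIdent.e, SpIdent.f]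
        module
      · simp [SpIdent.e, SpIdent.f]
        module
    · rw [dg_f, phiS_apply, linS_apply, sd00, sd01, sd10, sd11]
      simp only [h_eq]
      fin_cases i
      · simp [SpIdent.e, SpIdent.f, Units.smul_def]
        module
      · simp [SpIdent.e, SpIdent.f, Units.smul_def]
        module
  rw [h1, rg_sr, rg_neg_sr]
  have h2 := phiS_range (frame 2 K) h01
  have h3 : phiS (frame 2 K) h01 (sdiag s) ∈ (phiS (frame 2 K) h01).range := ⟨_, rfl⟩
  rw [h2] at h3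
  have h4 : (nx (0 : Fin 2)) = (1, false) := rfl
  have h5 : ((0, true) : Fin 2 × Bool).1 ≠ ((1, false) : Fin 2 × Bool).1 := h01
  rw [h4, PG_ne _ h5, PG_ne _ (a := ng (0, true)) (b := ng (1, false)) h5,
    XG_swap _ (a := ng (0, true)) (b := ng (1, false)) h5]
  exact h3

end Torus

/-! ### the coefficient -/

theorem F2_mul_det {K : Type u} [Field K] (g : V4 K ≃ₗ[K] V4 K) (h01 : (0 : Fin 2) ≠ 1) (x : SL(2, K)) :
    F2 (g * phiS (frame 2 K) h01 x) = F2 g := by
  unfold F2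
  change g (phiS (frame 2 K) h01 x ((frame 2 K).b (0, true))) _ * g (phiS (frame 2 K) h01 x ((frame 2 K).b (1, true))) _ -
    g (phiS (frame 2 K) h01 x ((frame 2 K).b (0, true))) _ * g (phiS (frame 2 K) h01 x ((frame 2 K).b (1, true))) _ = _
  rw [phiS_e, phiS_e', map_add, map_add, map_smul, map_smul, map_smul, map_smul]
  have hd : x.1 0 0 * x.1 1 1 - x.1 0 1 * x.1 1 0 = 1 := by
    rw [← Matrix.det_fin_two]; exact x.2
  simp only [Pi.add_apply, Pi.smul_apply, smul_eq_mul]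
  change _ = g ((frame 2 K).b (0, true)) _ * g ((frame 2 K).b (1, true)) _ -
    g ((frame 2 K).b (0, true)) _ * g ((frame 2 K).b (1, true)) _
  linear_combination (g ((frame 2 K).b (0, true)) (Sum.inr 0) * g ((frame 2 K).b (1, true)) (Sum.inr 1) -
    g ((frame 2 K).b (0, true)) (Sum.inr 1) * g ((frame 2 K).b (1, true)) (Sum.inr 0)) * hd

theorem F1_mul_long {K : Type u} [Field K] (g : V4 K ≃ₗ[K] V4 K) (x : SL(2, K)) :
    F1 (g * phiL (frame 2 K) 1 x) = F1 g := by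
  unfold F1
  change g (phiL (frame 2 K) 1 x (Pi.single (.inr 0) 1)) _ = _
  congr 2
  rw [phiL_apply, linL_apply]
  simp only [h_eq]
  simp [SpIdent.e, SpIdent.f]

theorem nn_zero {K : Type u} [Field K] (h01 : (0 : Fin 2) ≠ 1) (p0 : (frame 2 K).Adm) :
    ∃ x, nn (frame 2 K) p0 0 = phiS (frame 2 K) h01 x := by
  have h1 := nn_mem_sup (Fr := frame 2 K) p0 0
  rw [rg_sr, rg_neg_sr] at h1
  have h4 : (nx (0 : Fin 2)) = (1, false) := rfl
  have h5 : ((0, true) : Fin 2 × Bool).1 ≠ ((1, false) : Fin 2 × Bool).1 := h01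
  rw [h4, PG_ne _ h5, PG_ne _ (a := ng (0, true)) (b := ng (1, false)) h5,
    XG_swap _ (a := ng (0, true)) (b := ng (1, false)) h5] at h1
  have h2 := phiS_range (frame 2 K) h01
  have h3 : nn (frame 2 K) p0 0 ∈ (phiS (frame 2 K) h01).range := by
    rw [h2]; exact h1
  obtain ⟨x, hx⟩ := h3
  exact ⟨x, hx.symm⟩

theorem nn_one {K : Type u} [Field K] (p0 : (frame 2 K).Adm) : ∃ x, nn (frame 2 K) p0 1 = phiL (frame 2 K) 1 x := by
  have h1 := nn_mem_sup (Fr := frame 2 K) p0 1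
  rw [rg_sr, rg_neg_sr] at h1
  have h4 : (nx (1 : Fin 2)) = (1, true) := rfl
  rw [h4, PG_self, PG_self] at h1
  have h2 : (phiL (frame 2 K) 1).range = _ := phiL_range (F := K) (m := 2) 1
  have h3 : nn (frame 2 K) p0 1 ∈ (phiL (frame 2 K) 1).range := by
    rw [h2]; exact h1
  obtain ⟨x, hx⟩ := h3
  exact ⟨x, hx.symm⟩

section WJ

variable {I W : Type*} [Group W] {M : CoxeterMatrix I} (cs : CoxeterSystem M W)

theorem mem_WJ_sub {J : Set I} {i : I} (hJ : J ⊆ {i}) {w : W} (hw : w ∈ WJ cs J) :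
    w = 1 ∨ (i ∈ J ∧ w = cs.simple i) := by
  unfold WJ at hw
  induction hw using Subgroup.closure_induction with
  | mem x hx =>
    obtain ⟨j, hj, rfl⟩ := hx
    have h1 : j = i := hJ hj
    subst h1
    exact Or.inr ⟨hj, rfl⟩
  | one => exact Or.inl rfl
  | mul x y _ _ hx hy =>
    rcases hx with rfl | ⟨h1, rfl⟩
    · rw [one_mul]; exact hy
    · rcases hy with rfl | ⟨h2, rfl⟩
      · rw [mul_one]; exact Or.inr ⟨h1, rfl⟩
      · rw [cs.simple_mul_simple_self]; exact Or.inl rfl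
  | inv x _ hx =>
    rcases hx with rfl | ⟨h1, rfl⟩
    · exact Or.inl inv_one
    · rw [cs.inv_simple]; exact Or.inr ⟨h1, rfl⟩

end WJ

section Rep

variable {K : Type u} [Field K] [Finite K] {W : Type*} [Group W] (cs : CoxeterSystem (CoxeterMatrix.B 2) W) {p : ℕ}
  [hp : Fact p.Prime] [CharP K p]

theorem ambT (K : Type u) [Field K] (p : ℕ) [Fact p.Prime] [CharP K p] : AmbT (frame 2 K) p (model 2 K).I :=
  AmbT.of_amb (Cfsg.Agent.KFacts.Mult.SpTwo.amb 2 K) p

/-- the representatives of the simple reflections -/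
noncomputable def n4 (K : Type u) [Field K] (p : ℕ) [Fact p.Prime] [CharP K p] (i : Fin 2) : isos (form 2 K) :=
  (model 2 K).φ ⟨nn (frame 2 K) (adm 1) i, Cfsg.Agent.Nodes.WittAll.nn_mem (ambT K p) (adm 1) i⟩

/-- the torus -/
noncomputable abbrev T4 (K : Type u) [Field K] : Subgroup (isos (form 2 K)) := Cfsg.Agent.Nodes.WittModel.T (model 2 K)

/-- the root groups -/
noncomputable abbrev X4 (K : Type u) [Field K] : (Fin 2 → ℤ) → Subgroup (isos (form 2 K)) :=
  Cfsg.Agent.Nodes.WittModel.X (model 2 K)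

/-- the root group datum of `Sp_4(K)` -/
theorem R4 : RGD cs (isCartan 2) p (T4 K) (n4 K p) (X4 K) :=
  rgdC_model (model 2 K) (ambT K p) (p0 := adm 1) (show (1 : K) ≠ 0 from one_ne_zero) cs

theorem GG4 : GG cs (isCartan 2) (T4 K) (X4 K) = ⊤ :=
  Md.gg_top (Cfsg.Agent.Nodes.WittModel.G1_eq_top (model 2 K) (by norm_num) cs)


variable {k V : Type*} [Field k] [CharP k p] [AddCommGroup V] [Module k V] [FiniteDimensional k V]
  [Nontrivial V] {ρ : isos (form 2 K) →* Module.End k V}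
  (hirr : ∀ L : Submodule k V, Ivt ρ (GG cs (isCartan 2) (T4 K) (X4 K)) L → L = ⊥ ∨ L = ⊤)
  {c : V} (hc : c ∈ D cs (isCartan 2) (X4 K) ρ) (hc0 : c ≠ 0) {χ : isos (form 2 K) → k}
  (hχ : ∀ t ∈ T4 K, ρ t c = χ t • c)

include hc in
/-- the rank one group fixes `c` if `i ∈ J` -/
theorem fix_of_mem {i : Fin 2} (hi : i ∈ Jx cs (isCartan 2) (X4 K) ρ) {y : isos (form 2 K)}
    (hy : y.1 ∈ rg (frame 2 K) (sr i) ⊔ rg (frame 2 K) (-sr i)) : ρ y c = c := by
  have h1 : y ∈ X4 K (sr i) ⊔ X4 K (-sr i) := by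
    have hX : ∀ x, X4 K x = (rg (frame 2 K) x).subgroupOf (isos (form 2 K)) := fun x => X_eq x
    rw [hX, hX, ← Subgroup.subgroupOf_sup (rg_le _) (rg_le _), Subgroup.mem_subgroupOf]
    exact hy
  have h2 : c ∈ fx ρ (X4 K (sr i) ⊔ X4 K (-sr i)) := by
    rw [fx_sup]
    refine ⟨fun b hb => ?_, fun b hb => hi b hb c hc⟩
    exact hc b (RGD.le_Sup (S := RGD.Pos cs (isCartan 2)) ⟨isRoot_sr cs _ i, sr_nonneg i⟩ hb)
  exact h2 y h1

include hc0 hχ in
theorem chi_mul' {t t' : isos (form 2 K)} (ht : t ∈ T4 K) (ht' : t' ∈ T4 K) : χ (t * t') = χ t * χ t' := by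
  have h1 := hχ _ (mul_mem ht ht')
  rw [rho_mul, hχ t' ht', map_smul, hχ t ht, smul_smul, mul_comm] at h1
  exact (smul_left_injective k hc0 h1).symm

include hc0 hχ in
theorem chi_one' : χ 1 = 1 := by
  have h1 := hχ 1 (one_mem _)
  rw [map_one] at h1
  have h2 : (1 : k) • c = χ 1 • c := by rw [one_smul]; exact h1
  exact (smul_left_injective k hc0 h2).symm

/-- the characters of the rank one tori -/
noncomputable def chU (hc0 : c ≠ 0) (hχ : ∀ t ∈ T4 K, ρ t c = χ t • c) (f : Kˣ →* (Fin 2 → Kˣ)) : Kˣ →* kˣ where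
  toFun s := ⟨χ (dgY (f s)), χ (dgY (f s⁻¹)), by
      rw [← chi_mul' hc0 hχ (dgY_mem _) (dgY_mem _), ← dgY_mul, ← map_mul, mul_inv_cancel, map_one]
      have h1 : (dgY 1 : isos (form 2 K)) = 1 := by
        have := dgY_mul (1 : Fin 2 → Kˣ) 1
        rw [one_mul] at this
        exact (mul_eq_left.1 this.symm)
      rw [h1, chi_one' hc0 hχ], by
      rw [← chi_mul' hc0 hχ (dgY_mem _) (dgY_mem _), ← dgY_mul, ← map_mul, inv_mul_cancel, map_one]
      have h1 : (dgY 1 : isos (form 2 K)) = 1 := by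
        have := dgY_mul (1 : Fin 2 → Kˣ) 1
        rw [one_mul] at this
        exact (mul_eq_left.1 this.symm)
      rw [h1, chi_one' hc0 hχ]⟩
  map_one' := by
    apply Units.ext
    change χ (dgY (f 1)) = 1
    rw [map_one]
    have h1 : (dgY 1 : isos (form 2 K)) = 1 := by
      have := dgY_mul (1 : Fin 2 → Kˣ) 1
      rw [one_mul] at this
      exact (mul_eq_left.1 this.symm)
    rw [h1, chi_one' hc0 hχ]
  map_mul' s t := by
    apply Units.ext
    change χ (dgY (f (s * t))) = χ (dgY (f s)) * χ (dgY (f t))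
    rw [map_mul, dgY_mul, chi_mul' hc0 hχ (dgY_mem _) (dgY_mem _)]


/-- `s ↦ (1, s)` -/
def mLong (K : Type u) [Field K] : Kˣ →* (Fin 2 → Kˣ) where
  toFun s := ![1, s]
  map_one' := by funext i; fin_cases i <;> rfl
  map_mul' s t := by funext i; fin_cases i <;> simp

/-- `s ↦ (s, s⁻¹)` -/
def mShort (K : Type u) [Field K] : Kˣ →* (Fin 2 → Kˣ) where
  toFun s := ![s, s⁻¹]
  map_one' := by funext i; fin_cases i <;> simp
  map_mul' s t := by
    funext i
    fin_cases i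
    · simp
    · simp [mul_comm]

include hc hc0 hχ in
/-- **the highest weight** -/
theorem exists_weight (j : K →+* k) : ∃ c₁ c₂ : ℕ, c₁ ≤ Nat.card K - 1 ∧ c₂ ≤ Nat.card K - 1 ∧
    (c₁ = 0 ↔ (0 : Fin 2) ∈ Jx cs (isCartan 2) (X4 K) ρ) ∧ (c₂ = 0 ↔ (1 : Fin 2) ∈ Jx cs (isCartan 2) (X4 K) ρ) ∧
    ∀ t ∈ T4 K, χ t = j (F1 t.1) ^ c₁ * j (F2 t.1) ^ c₂ := by
  classical
  letI := Fintype.ofFinite K
  rw [Nat.card_eq_fintype_card]
  have key : ∀ (i : Fin 2) (f : Kˣ →* (Fin 2 → Kˣ)), (∀ s, dg (f s) ∈ rg (frame 2 K) (sr i) ⊔ rg (frame 2 K) (-sr i)) →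
      ∃ e, e ≤ Fintype.card K - 1 ∧ (e = 0 ↔ i ∈ Jx cs (isCartan 2) (X4 K) ρ) ∧ ∀ s, χ (dgY (f s)) = j (s : K) ^ e := by
    intro i f hf
    by_cases hi : i ∈ Jx cs (isCartan 2) (X4 K) ρ
    · refine ⟨0, Nat.zero_le _, ⟨fun _ => hi, fun _ => rfl⟩, fun s => ?_⟩
      have h1 := fix_of_mem cs hc hi (y := dgY (f s)) (hf s)
      rw [hχ _ (dgY_mem _)] at h1
      rw [pow_zero]
      have h2 : χ (dgY (f s)) • c = (1 : k) • c := by rw [one_smul]; exact h1
      exact smul_left_injective k hc0 h2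
    · obtain ⟨e, h1, h2, h3⟩ := exists_exp' j (chU hc0 hχ f)
      exact ⟨e, h2, ⟨fun h => absurd h (by omega), fun h => absurd h hi⟩, h3⟩
  obtain ⟨c₁, h1, h2, h3⟩ := key 0 (mShort K) dg_short
  obtain ⟨c₂, h4, h5, h6⟩ := key 1 (mLong K) dg_long
  refine ⟨c₁, c₂, h1, h4, h2, h5, fun t ht => ?_⟩
  obtain ⟨l, rfl⟩ := exists_dg ht
  have h7 : l = mShort K (l 0) * mLong K (l 0 * l 1) := by
    funext i
    fin_cases i
    · simp [mShort, mLong]
    · simp [mShort, mLong]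
  rw [F1_dg, F2_dg]
  conv_lhs => rw [h7]
  rw [dgY_mul, chi_mul' hc0 hχ (dgY_mem _) (dgY_mem _), h3, h6, Units.val_mul]

include hirr hc hc0 hχ in
/-- the monomial elements -/
theorem coeff_rp {j : K →+* k} {c₁ c₂ : ℕ} (h₁ : c₁ = 0 ↔ (0 : Fin 2) ∈ Jx cs (isCartan 2) (X4 K) ρ)
    (h₂ : c₂ = 0 ↔ (1 : Fin 2) ∈ Jx cs (isCartan 2) (X4 K) ρ)
    (hT : ∀ t ∈ T4 K, χ t = j (F1 t.1) ^ c₁ * j (F2 t.1) ^ c₂) {φ : Module.Dual k V}
    (hφ : φ ∈ fx (dualRep ρ) (UN cs (isCartan 2) (X4 K))) {w : W} {y : isos (form 2 K)}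
    (hy : Rp cs (R4 (p := p) cs).nsys w y) : φ (ρ y c) = φ c * (j (F1 y.1) ^ c₁ * j (F2 y.1) ^ c₂) := by
  haveI := finite_isos (m := 2) (F := K)
  haveI : Finite W := finite_W cs
  have h01 : (0 : Fin 2) ≠ 1 := by decide
  by_cases hw : w ∈ WJ cs (Jx cs (isCartan 2) (X4 K) ρ)
  · have hmain : ρ y c = (j (F1 y.1) ^ c₁ * j (F2 y.1) ^ c₂) • c := by
      by_cases hu : (0 : Fin 2) ∈ Jx cs (isCartan 2) (X4 K) ρ ∧ (1 : Fin 2) ∈ Jx cs (isCartan 2) (X4 K) ρ
      · rw [h₁.2 hu.1, h₂.2 hu.2, pow_zero, pow_zero, one_mul, one_smul]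
        let S : Subgroup (isos (form 2 K)) :=
          { carrier := {z | ρ z c = c}
            one_mem' := rho_one ρ _
            mul_mem' := fun {a b} ha hb => by
              change ρ (a * b) c = c
              rw [rho_mul, show ρ b c = c from hb, show ρ a c = c from ha]
            inv_mem' := fun {a} ha => by
              change ρ a⁻¹ c = c
              conv_lhs => rw [← show ρ a c = c from ha]
              rw [← rho_mul, inv_mul_cancel, rho_one] }
        have hall : ∀ i : Fin 2, i ∈ Jx cs (isCartan 2) (X4 K) ρ := by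
          intro i
          fin_cases i
          · exact hu.1
          · exact hu.2
        have h3 : (⊤ : Subgroup (isos (form 2 K))) ≤ S := by
          rw [← Cfsg.Agent.Nodes.WittModel.iSup_eq_top (model 2 K) (by norm_num)]
          refine iSup_le fun i => sup_le (fun z hz => ?_) (fun z hz => hall i z hz c hc)
          exact hc z (RGD.le_Sup (S := RGD.Pos cs (isCartan 2)) ⟨isRoot_sr cs _ i, sr_nonneg i⟩ hz)
        exact h3 trivial
      · have hex : ∃ i, Jx cs (isCartan 2) (X4 K) ρ ⊆ {i} := by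
          by_cases h0 : (0 : Fin 2) ∈ Jx cs (isCartan 2) (X4 K) ρ
          · refine ⟨0, fun x hx => ?_⟩
            fin_cases x
            · rfl
            · exact absurd ⟨h0, hx⟩ hu
          · refine ⟨1, fun x hx => ?_⟩
            fin_cases x
            · exact absurd hx h0
            · rfl
        obtain ⟨i, hi⟩ := hex
        rcases mem_WJ_sub cs hi hw with rfl | ⟨hiJ, rfl⟩
        · have ht := hy.mem_of_one
          rw [hχ y ht, hT y ht]
        · have ht := (hy.mul (rp_simple cs (R4 (p := p) cs).nsys i).inv)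
          rw [mul_inv_cancel] at ht
          have ht' := ht.mem_of_one
          have e : y = (y * (n4 K p i)⁻¹) * n4 K p i := by group
          have hn : ρ (n4 K p i) c = c := fix_of_mem cs hc hiJ (nn_mem_sup (Fr := frame 2 K) (adm 1) i)
          have h3 : F1 y.1 ^ c₁ = F1 (y * (n4 K p i)⁻¹).1 ^ c₁ ∧ F2 y.1 ^ c₂ = F2 (y * (n4 K p i)⁻¹).1 ^ c₂ := by
            have e' : y.1 = (y * (n4 K p i)⁻¹).1 * (n4 K p i).1 := congrArg Subtype.val e
            fin_cases i
            · have h5 : c₁ = 0 := h₁.2 hiJ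
              obtain ⟨x, hx⟩ := nn_zero h01 (adm (1 : K))
              have hx' : (n4 K p 0).1 = phiS (frame 2 K) h01 x := hx
              refine ⟨by rw [h5, pow_zero, pow_zero], ?_⟩
              conv_lhs => rw [e']
              change F2 (_ * (n4 K p 0).1) ^ c₂ = _
              rw [hx', F2_mul_det]
            · have h5 : c₂ = 0 := h₂.2 hiJ
              obtain ⟨x, hx⟩ := nn_one (adm (1 : K))
              have hx' : (n4 K p 1).1 = phiL (frame 2 K) 1 x := hx
              refine ⟨?_, by rw [h5, pow_zero, pow_zero]⟩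
              conv_lhs => rw [e']
              change F1 (_ * (n4 K p 1).1) ^ c₁ = _
              rw [hx', F1_mul_long]
          conv_lhs => rw [e, rho_mul, hn, hχ _ ht', hT _ ht']
          rw [← map_pow, ← map_pow, ← map_pow, ← map_pow, h3.1, h3.2]
    rw [hmain, map_smul, smul_eq_mul, mul_comm]
  · have h3 : φ (ρ y c) = 0 := by
      by_contra hne
      exact hw (mem_WJ_of_pair (R4 (p := p) cs) hirr hφ hy hc hne)
    rw [h3]
    symm
    by_contra hne
    apply hw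
    rw [mem_WJ_iff]
    have h4 : j (F1 y.1) ^ c₁ * j (F2 y.1) ^ c₂ ≠ 0 := fun h => hne (by rw [h, mul_zero])
    intro x i hi
    fin_cases i
    · have h5 : c₁ ≠ 0 := fun h => hi (h₁.1 h)
      have h6 : F1 y.1 ≠ 0 := by
        intro h
        apply h4
        rw [h, map_zero, zero_pow h5, zero_mul]
      exact of_F1 (hA := ambT K p) (p0 := adm 1) one_ne_zero hy h6 x
    · have h5 : c₂ ≠ 0 := fun h => hi (h₂.1 h)
      have h6 : F2 y.1 ≠ 0 := by
        intro h
        apply h4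
        rw [h, map_zero, zero_pow h5, mul_zero]
      exact of_F2 (hA := ambT K p) (p0 := adm 1) one_ne_zero hy h6 x


omit [CharP k p] hp [CharP K p] in
include hirr hc hc0 hχ in
/-- **The matrix coefficient.** -/
theorem master (p : ℕ) [Fact p.Prime] [CharP K p] [CharP k p] {j : K →+* k} {c₁ c₂ : ℕ} (h₁ : c₁ = 0 ↔ (0 : Fin 2) ∈ Jx cs (isCartan 2) (X4 K) ρ)
    (h₂ : c₂ = 0 ↔ (1 : Fin 2) ∈ Jx cs (isCartan 2) (X4 K) ρ)
    (hT : ∀ t ∈ T4 K, χ t = j (F1 t.1) ^ c₁ * j (F2 t.1) ^ c₂) {φ : Module.Dual k V}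
    (hφ : φ ∈ fx (dualRep ρ) (UN cs (isCartan 2) (X4 K))) (y : isos (form 2 K)) :
    φ (ρ y c) = φ c * (j (F1 y.1) ^ c₁ * j (F2 y.1) ^ c₂) := by
  haveI := finite_isos (m := 2) (F := K)
  haveI : Finite W := finite_W cs
  obtain ⟨v, hv, -⟩ := exists_neg (model 2 K) (ambT K p) (p0 := adm 1) one_ne_zero (cs := cs) (R4 (p := p) cs).nsys
  refine coeff_eq (R4 (p := p) cs) hv hφ hc (F := fun y => φ c * (j (F1 y.1) ^ c₁ * j (F2 y.1) ^ c₂))
    (fun a ha g => ?_) (fun u hu g => ?_)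
    (fun w z hz => coeff_rp cs hirr hc hc0 hχ h₁ h₂ hT hφ hz) (g := y) (by rw [GG4]; trivial)
  · change φ c * (j (F1 (a.1 * g.1)) ^ c₁ * j (F2 (a.1 * g.1)) ^ c₂) = _
    rw [F1_lo_mul (UN_le ha), F2_lo_mul (UN_le ha)]
  · change φ c * (j (F1 (g.1 * u.1)) ^ c₁ * j (F2 (g.1 * u.1)) ^ c₂) = _
    rw [F1_mul_up (U_le hu), F2_mul_up (U_le hu)]

end Rep

end Cfsg.Agent.H905.Sp4
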