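import Cfsg.Agent.H905.Sp4Act

/-!
# The coordinate functions of `Sp_4(K)` on the monomial elements (helper905)

* `exists_pi` : the representatives of `w ∈ W` are monomial with the permutation given by `w`;
* `of_F1` : `F1 k ≠ 0` implies that `w` preserves the `0`-coordinate;
* `of_F2` : `F2 k ≠ 0` implies that `w` preserves the `1`-coordinate.
-/

set_option autoImplicit false
set_option linter.unusedSectionVars false
set_option linter.style.haveILetI false

namespace Cfsg.Agent.H905.Sp4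

open CoxeterSystem Cfsg.Agent.ChevalleyStructure.CoxeterGeom Cfsg.Agent.Tits.Roots Cfsg.Agent.Nodes.TypeC
open Cfsg.Agent.Nodes.Comb Cfsg.Agent.Nodes.Reps Cfsg.Agent.Nodes.WittRoot Cfsg.Agent.Nodes.BNOf
open Cfsg.Agent.Nodes.WittRGD Cfsg.Agent.Nodes.RGDLib Cfsg.Agent.Nodes.OppDec Cfsg.Agent.Nodes.WittAll
open Cfsg.Agent.TitsThree Cfsg.Agent.TitsThree.Siegel Cfsg.Agent.TitsThree.WittFrame
  Cfsg.Agent.TitsThree.FrameCN Cfsg.Agent.TitsThree.SpIdent Cfsg.Agent.TitsThree.SpGen
open Cfsg.Agent.H62.SpCross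

universe u

variable {K : Type u} [Field K] {W : Type*} [Group W] {cs : CoxeterSystem (CoxeterMatrix.B 2) W} {p : ℕ}
  {hA : AmbT (frame 2 K) p (model 2 K).I} {p0 : (frame 2 K).Adm} (hp0 : p0.c ≠ 0)
  {hN : NSys (CoxeterMatrix.B 2) (Cfsg.Agent.Nodes.WittModel.T (model 2 K))
    (fun i => (model 2 K).φ ⟨nn (frame 2 K) p0 i, Cfsg.Agent.Nodes.WittAll.nn_mem hA p0 i⟩)}

include hp0 in
theorem exists_pi (w : W) : ∃ π : Fin 2 × Bool → Fin 2 × Bool, Md.Act cs w π ∧ (∀ x, π (ng x) = ng (π x)) ∧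
    Function.Injective π ∧ ∀ k : isos (form 2 K), Rp cs hN w k → Mono (frame 2 K) k.1 π := by
  have hmain := cs.simple_induction_left (p := fun w => ∃ π : Fin 2 × Bool → Fin 2 × Bool, Md.Act cs w π ∧
    (∀ x, π (ng x) = ng (π x)) ∧ Function.Injective π ∧
    ∀ k : isos (form 2 K), Rp cs hN w k → Mono (frame 2 K) k.1 π) w
  refine hmain ?_ fun w i ih => ?_
  · refine ⟨id, Md.Act.one, fun _ => rfl, Function.injective_id, fun k hk => ?_⟩
    exact mem_T.1 hk.mem_of_one
  · obtain ⟨π, h1, h2, h3, h4⟩ := ih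
    refine ⟨fun x => sg i (π x), (Md.act_simple i).mul h1, fun x => ?_, fun x y hxy => ?_, fun k hk => ?_⟩
    · change sg i (π (ng x)) = _
      rw [h2, sg_ng]
    · apply h3
      have h5 : sg i (sg i (π x)) = sg i (sg i (π y)) := congrArg (sg i) hxy
      rwa [sg_sg, sg_sg] at h5
    · have h5 := (rp_simple cs hN i).inv.mul hk
      rw [inv_mul_cancel_left] at h5
      have h6 := (mono_nn (Fr := frame 2 K) hp0 i).mul (h4 _ h5)
      have h7 : k.1 = nn (frame 2 K) p0 i * ((((model 2 K).φ ⟨nn (frame 2 K) p0 i,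
          Cfsg.Agent.Nodes.WittAll.nn_mem hA p0 i⟩)⁻¹ * k : isos (form 2 K)) : V4 K ≃ₗ[K] V4 K) := by
        change k.1 = nn (frame 2 K) p0 i * ((nn (frame 2 K) p0 i)⁻¹ * k.1)
        rw [mul_inv_cancel_left]
      rw [h7]
      exact h6

theorem b_coord (x : Fin 2 × Bool) (i : Fin 2) : (frame 2 K).b x (.inr i) = if x = (i, true) then 1 else 0 := by
  obtain ⟨j, s⟩ := x
  cases s
  · rw [if_neg (by simp)]
    change (Pi.single (.inl j) 1 : V4 K) (.inr i) = 0
    simp
  · change (Pi.single (.inr j) 1 : V4 K) (.inr i) = _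
    by_cases h : j = i
    · subst h; simp
    · rw [if_neg (by simpa using h), Pi.single_eq_of_ne (by simpa using fun e => h e.symm)]

theorem rep_coord (w : W) (x : Fin 2 → ℤ) (i : Fin 2) : rep cs (isCartan 2) w x i =
    x 0 * rep cs (isCartan 2) w (sr 0) i + x 1 * rep cs (isCartan 2) w (sr 1) i := by
  have h1 : x = x 0 • sr 0 + x 1 • sr 1 := by
    funext j
    fin_cases j <;> simp [sr]
  conv_lhs => rw [h1]
  rw [map_add, map_smul, map_smul]
  rfl

theorem act_sr {w : W} {π : Fin 2 × Bool → Fin 2 × Bool} (h : Md.Act cs w π) (i : Fin 2) :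
    Cfsg.Agent.Nodes.TypeC.ee (rep cs (isCartan 2) w (sr i)) = wt (π (i, true)) + wt (π (nx i)) :=
  h _ _ _ (ee_sr i)

include hp0 in
/-- the first coordinate function -/
theorem of_F1 {w : W} {k : isos (form 2 K)} (hk : Rp cs hN w k) (h : F1 k.1 ≠ 0) (x : Fin 2 → ℤ) :
    rep cs (isCartan 2) w x 0 = x 0 := by
  obtain ⟨π, h1, h2, h3, h4⟩ := exists_pi (hA := hA) hp0 (hN := hN) w
  obtain ⟨l, hl, e⟩ := h4 k hk (0, true)
  have h5 : π (0, true) = (0, true) := by
    by_contra hne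
    apply h
    unfold F1
    change k.1 ((frame 2 K).b (0, true)) (.inr 0) = 0
    rw [e, Pi.smul_apply, b_coord, if_neg hne, smul_zero]
  have h6 : π (0, false) = (0, false) := by
    have := h2 (0, true)
    rw [h5] at this
    exact this
  have h7 : ∀ s, (π (1, s)).1 = 1 := by
    intro s
    by_contra hne
    have h8 : (π (1, s)).1 = 0 := by omega
    rcases hπ : π (1, s) with ⟨j, t⟩
    rw [hπ] at h8
    change j = 0 at h8
    subst h8
    cases t
    · exact absurd (h3 (hπ.trans h6.symm)) (by simp)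
    · exact absurd (h3 (hπ.trans h5.symm)) (by simp)
  have h8 : ∀ s, wt (π (1, s)) 0 = 0 := by
    intro s
    rw [wt_apply, if_neg]
    rw [h7]
    decide
  rw [rep_coord, ← ee0 (rep cs (isCartan 2) w (sr 0)), ← ee0 (rep cs (isCartan 2) w (sr 1)), act_sr h1, act_sr h1, h5]
  have h9 : (nx (0 : Fin 2)) = (1, false) := rfl
  have h10 : (nx (1 : Fin 2)) = (1, true) := rfl
  rw [h9, h10, Pi.add_apply, Pi.add_apply, h8, h8]
  simp [wt_apply]

include hp0 in
/-- the second coordinate function -/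
theorem of_F2 {w : W} {k : isos (form 2 K)} (hk : Rp cs hN w k) (h : F2 k.1 ≠ 0) (x : Fin 2 → ℤ) :
    rep cs (isCartan 2) w x 1 = x 1 := by
  obtain ⟨π, h1, h2, h3, h4⟩ := exists_pi (hA := hA) hp0 (hN := hN) w
  obtain ⟨l, hl, e⟩ := h4 k hk (0, true)
  obtain ⟨l', hl', e'⟩ := h4 k hk (1, true)
  have h5 : (π (0, true) = (0, true) ∧ π (1, true) = (1, true)) ∨
      (π (0, true) = (1, true) ∧ π (1, true) = (0, true)) := by
    by_contra hne
    apply h
    unfold F2
    change k.1 ((frame 2 K).b (0, true)) (.inr 0) * k.1 ((frame 2 K).b (1, true)) (.inr 1) -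
      k.1 ((frame 2 K).b (0, true)) (.inr 1) * k.1 ((frame 2 K).b (1, true)) (.inr 0) = 0
    rw [e, e']
    simp only [Pi.smul_apply, b_coord]
    by_cases c1 : π (0, true) = (0, true)
    · have c2 : ¬ π (1, true) = (1, true) := fun c => hne (Or.inl ⟨c1, c⟩)
      have c3 : ¬ π (0, true) = (1, true) := by rw [c1]; simp
      rw [if_neg c2, if_neg c3]
      simp
    · rw [if_neg c1]
      by_cases c2 : π (0, true) = (1, true)
      · have c3 : ¬ π (1, true) = (0, true) := fun c => hne (Or.inr ⟨c2, c⟩)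
        rw [if_neg c3]
        simp
      · rw [if_neg c2]
        simp
  have key : ∀ y : Fin 2 → ℤ, 2 * y 1 = Cfsg.Agent.Nodes.TypeC.ee y 0 + Cfsg.Agent.Nodes.TypeC.ee y 1 := by
    intro y
    rw [ee0, ee1]; ring
  have h9 : (nx (0 : Fin 2)) = ng (1, true) := rfl
  have h10 : (nx (1 : Fin 2)) = (1, true) := rfl
  have h11 := key (rep cs (isCartan 2) w (sr 0))
  have h12 := key (rep cs (isCartan 2) w (sr 1))
  rw [act_sr h1, h9, h2, wt_ng] at h11
  rw [act_sr h1, h10] at h12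
  rw [rep_coord]
  rcases h5 with ⟨c1, c2⟩ | ⟨c1, c2⟩
  · rw [c1, c2] at h11
    rw [c2] at h12
    simp [wt_apply] at h11 h12
    rw [h11]
    have h13 : rep cs (isCartan 2) w (sr 1) 1 = 1 := by omega
    rw [h13]
    ring
  · rw [c1, c2] at h11
    rw [c2] at h12
    simp [wt_apply] at h11 h12
    rw [h11]
    have h13 : rep cs (isCartan 2) w (sr 1) 1 = 1 := by omega
    rw [h13]
    ring

end Cfsg.Agent.H905.Sp4
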