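import Cfsg.Agent.H905.Sp4Main

/-!
# Isotropic pairs and the group `Sp_4(K)` (helper905)

* `exists_iso` : an isotropic pair is the image of `(e0, e1)`;
* **`exists_kernel`** : a simple module in defining characteristic has functionals `φ r` and vectors `v s` with
  `φ r (v s) = j (D1 r s) ^ c₁ * j (D2 r s) ^ c₂`.
-/

set_option autoImplicit false
set_option linter.unusedSectionVars false
set_option linter.style.haveILetI false

namespace Cfsg.Agent.H905.Sp4

open CoxeterSystem Cfsg.Agent.ChevalleyStructure.CoxeterGeom Cfsg.Agent.Tits.Roots Cfsg.Agent.Nodes.TypeC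
open Cfsg.Agent.Nodes.Comb Cfsg.Agent.Nodes.Reps Cfsg.Agent.Nodes.WittRoot Cfsg.Agent.Nodes.BNOf
open Cfsg.Agent.Nodes.WittRGD Cfsg.Agent.Nodes.RGDLib Cfsg.Agent.Nodes.OppDec Cfsg.Agent.Nodes.WittAll
open Cfsg.Agent.Nodes.Bruhat Cfsg.Agent.Omega.CR Cfsg.Agent.Omega.FOne.Lift.Sd Cfsg.Agent.Nodes.StabComb
open Cfsg.Agent.Tits.Core Cfsg.Agent.Tits.Exchange Cfsg.Agent.H905.Md Cfsg.Agent.KFacts.RgdOpp
open Cfsg.Agent.TitsThree Cfsg.Agent.TitsThree.Siegel Cfsg.Agent.TitsThree.WittFrame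
  Cfsg.Agent.TitsThree.FrameCN Cfsg.Agent.TitsThree.SpIdent Cfsg.Agent.TitsThree.SpGen
open Cfsg.Agent.H62.SpCross Cfsg.Agent.H62.FrameSL
open scoped MatrixGroups

universe u

section Witt

variable {K : Type u} [Field K]

theorem h_self (v : V4 K) : (form 2 K).h v v = 0 := by rw [h_eq]; ring

theorem h_swap (v w : V4 K) : (form 2 K).h v w = -(form 2 K).h w v := by rw [h_eq, h_eq]; ring

/-- the dual vectors -/
def du (i : Fin 2 ⊕ Fin 2) : V4 K := match i with
  | .inr m => Pi.single (.inl m) 1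
  | .inl m => -Pi.single (.inr m) 1

theorem h_du (v : V4 K) (i : Fin 2 ⊕ Fin 2) : (form 2 K).h v (du i) = v i := by
  rw [h_eq]
  rcases i with i | i
  · fin_cases i <;> simp [du]
  · fin_cases i <;> simp [du]

theorem exists_minor {A B : V4 K} (h : LinearIndependent K ![A, B]) : ∃ i l, A i * B l - A l * B i ≠ 0 := by
  rw [LinearIndependent.pair_iff] at h
  by_contra hcon
  push Not at hcon
  have hA : A ≠ 0 := by
    rintro rfl
    have := (h 1 0 (by simp)).1
    exact one_ne_zero this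
  obtain ⟨i, hi⟩ : ∃ i, A i ≠ 0 := by
    by_contra h0
    push Not at h0
    exact hA (funext h0)
  have h1 := (h (-(B i)) (A i) (by
    funext l
    have := hcon i l
    simp only [Pi.add_apply, Pi.smul_apply, smul_eq_mul, Pi.zero_apply]
    linear_combination this)).2
  exact hi h1

theorem exists_dual {A B : V4 K} (h : LinearIndependent K ![A, B]) (hAB : (form 2 K).h A B = 0) : ∃ C D : V4 K, (form 2 K).h A C = 1 ∧
    (form 2 K).h B C = 0 ∧ (form 2 K).h A D = 0 ∧ (form 2 K).h B D = 1 ∧ (form 2 K).h C D = 0 := by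
  obtain ⟨i, l, hd⟩ := exists_minor h
  set d := A i * B l - A l * B i with hdd
  obtain ⟨C, hC⟩ : ∃ C : V4 K, C = d⁻¹ • (B l • du i - B i • du l) := ⟨_, rfl⟩
  obtain ⟨E, hE⟩ : ∃ E : V4 K, E = d⁻¹ • (A i • du l - A l • du i) := ⟨_, rfl⟩
  have e : ∀ (v : V4 K) (x y : K) (a b : V4 K), (form 2 K).h v (d⁻¹ • (x • a - y • b)) =
      d⁻¹ * (x * (form 2 K).h v a - y * (form 2 K).h v b) := by
    intro v x y a b
    rw [h_eq, h_eq, h_eq]
    simp only [Pi.smul_apply, Pi.sub_apply, smul_eq_mul]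
    ring
  have h1 : (form 2 K).h A C = 1 := by
    rw [hC, e, h_du, h_du, hdd]
    rw [hdd] at hd
    field_simp
  have h2 : (form 2 K).h B C = 0 := by
    rw [hC, e, h_du, h_du]
    ring
  have h3 : (form 2 K).h A E = 0 := by
    rw [hE, e, h_du, h_du]
    ring
  have h4 : (form 2 K).h B E = 1 := by
    rw [hE, e, h_du, h_du, hdd]
    rw [hdd] at hd
    field_simp
  refine ⟨C, E + (form 2 K).h C E • A, h1, h2, ?_, ?_, ?_⟩
  · rw [(form 2 K).add_right, (form 2 K).smul_right, h3, h_self]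
    ring
  · rw [(form 2 K).add_right, (form 2 K).smul_right, h4, h_swap B A, hAB]
    simp
  · rw [(form 2 K).add_right, (form 2 K).smul_right, h_swap C A, h1, form_σ]
    ring

/-- the linear map with given images of the basis -/
def lin4 (A B C D : V4 K) : V4 K →ₗ[K] V4 K where
  toFun v := v (.inr 0) • A + v (.inr 1) • B + v (.inl 0) • C + v (.inl 1) • D
  map_add' v w := by simp only [Pi.add_apply]; module
  map_smul' a v := by simp only [Pi.smul_apply, smul_eq_mul, RingHom.id_apply]; module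

theorem lin4_apply (A B C D v : V4 K) :
    lin4 A B C D v = v (.inr 0) • A + v (.inr 1) • B + v (.inl 0) • C + v (.inl 1) • D := rfl

/-- **isotropic pairs are conjugate** -/
theorem exists_iso {A B : V4 K} (h : LinearIndependent K ![A, B]) (hAB : (form 2 K).h A B = 0) :
    ∃ g : isos (form 2 K), g.1 (Pi.single (.inr 0) 1) = A ∧ g.1 (Pi.single (.inr 1) 1) = B := by
  obtain ⟨C, D, h1, h2, h3, h4, h5⟩ := exists_dual h hAB
  have hiso : ∀ v w, (form 2 K).h (lin4 A B C D v) (lin4 A B C D w) = (form 2 K).h v w := by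
    intro v w
    have hBA : (form 2 K).h B A = 0 := by rw [h_swap, hAB, neg_zero]
    have hCA : (form 2 K).h C A = -1 := by rw [h_swap, h1]
    have hCB : (form 2 K).h C B = 0 := by rw [h_swap, h2, neg_zero]
    have hDA : (form 2 K).h D A = 0 := by rw [h_swap, h3, neg_zero]
    have hDB : (form 2 K).h D B = -1 := by rw [h_swap, h4]
    have hDC : (form 2 K).h D C = 0 := by rw [h_swap, h5, neg_zero]
    rw [lin4_apply, lin4_apply]
    simp only [(form 2 K).add_left, (form 2 K).smul_left, (form 2 K).add_right, (form 2 K).smul_right, form_σ,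
      h1, h2, h3, h4, h5, hAB, hBA, hCA, hCB, hDA, hDB, hDC, h_self]
    rw [h_eq]
    ring
  have hinj : Function.Injective (lin4 A B C D) := by
    rw [injective_iff_map_eq_zero]
    intro v hv
    funext i
    rw [← h_du v i, ← hiso, hv]
    change _ = (0 : K)
    rw [h_eq]
    simp
  refine ⟨⟨LinearEquiv.ofInjectiveEndo (lin4 A B C D) hinj, fun v w => ?_⟩, ?_, ?_⟩
  · exact hiso v w
  · change lin4 A B C D _ = A
    rw [lin4_apply]
    simp
  · change lin4 A B C D _ = B
    rw [lin4_apply]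
    simp

/-- the quarter turn `f_i ↦ e_i`, `e_i ↦ -f_i` -/
theorem exists_turn : ∃ g : isos (form 2 K), ∀ i : Fin 2, g.1 (Pi.single (.inl i) 1) = Pi.single (.inr i) 1 := by
  obtain ⟨g, h1, h2⟩ := exists_iso (K := K) (A := Pi.single (.inl 0) 1) (B := Pi.single (.inl 1) 1) (by
    rw [LinearIndependent.pair_iff]
    intro s t h
    have e0 := congrFun h (.inl 0)
    have e1 := congrFun h (.inl 1)
    simp at e0 e1
    exact ⟨e0, e1⟩) (by
    rw [h_eq]; simp)
  refine ⟨g⁻¹, fun i => ?_⟩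
  have h3 : ∀ v w, g.1 v = w → (g⁻¹).1 w = v := by
    rintro v _ rfl
    exact g.1.symm_apply_apply v
  fin_cases i
  · exact h3 _ _ h1
  · exact h3 _ _ h2

/-- the column vector -/
def colV (a : Fin 4 → K) : V4 K := Sum.elim ![a 3, a 2] ![a 0, a 1]

/-- the row vector -/
def rowV (a : Fin 4 → K) : V4 K := Sum.elim ![a 0, a 1] ![-a 3, -a 2]

theorem h_col (a b : Fin 4 → K) : (form 2 K).h (colV a) (colV b) = om a b := by
  rw [h_eq]
  simp [colV, om]
  ring

theorem h_row (a b : Fin 4 → K) : (form 2 K).h (rowV a) (rowV b) = om a b := by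
  rw [h_eq]
  simp [rowV, om]
  ring

theorem h_col_row (a b : Fin 4 → K) : (form 2 K).h (colV a) (rowV b) = ∑ i, b i * a i := by
  rw [h_eq, Fin.sum_univ_four]
  simp [rowV, colV]
  ring

theorem ind_col {a b : Fin 4 → K} (h : LinearIndependent K ![a, b]) : LinearIndependent K ![colV a, colV b] := by
  rw [LinearIndependent.pair_iff] at h ⊢
  intro s t e
  apply h s t
  have e0 := congrFun e (.inl 0)
  have e1 := congrFun e (.inl 1)
  have e2 := congrFun e (.inr 0)
  have e3 := congrFun e (.inr 1)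
  simp [colV] at e0 e1 e2 e3
  funext i
  fin_cases i
  · simpa using e2
  · simpa using e3
  · simpa using e1
  · simpa using e0

theorem ind_row {a b : Fin 4 → K} (h : LinearIndependent K ![a, b]) : LinearIndependent K ![rowV a, rowV b] := by
  rw [LinearIndependent.pair_iff] at h ⊢
  intro s t e
  apply h s t
  have e0 := congrFun e (.inl 0)
  have e1 := congrFun e (.inl 1)
  have e2 := congrFun e (.inr 0)
  have e3 := congrFun e (.inr 1)
  simp [rowV] at e0 e1 e2 e3
  funext i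
  fin_cases i
  · simpa using e0
  · simpa using e1
  · change s * a 2 + t * b 2 = 0
    linear_combination -e3
  · change s * a 3 + t * b 3 = 0
    linear_combination -e2

end Witt


section Kern

variable {K : Type u} [Field K]

theorem exists_col (s : IsoPair K) : ∃ g : isos (form 2 K),
    g.1 (Pi.single (.inr 0) 1) = colV s.a ∧ g.1 (Pi.single (.inr 1) 1) = colV s.b :=
  exists_iso (ind_col s.ind) (by rw [h_col, s.iso])

theorem exists_row (r : IsoPair K) : ∃ g : isos (form 2 K),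
    (g⁻¹).1 (Pi.single (.inl 0) 1) = rowV r.a ∧ (g⁻¹).1 (Pi.single (.inl 1) 1) = rowV r.b := by
  obtain ⟨g, h1, h2⟩ := exists_iso (ind_row r.ind) (by rw [h_row, r.iso])
  obtain ⟨w, hw⟩ := exists_turn (K := K)
  refine ⟨(g * w)⁻¹, ?_, ?_⟩
  · rw [inv_inv]
    change g.1 (w.1 _) = _
    rw [hw, h1]
  · rw [inv_inv]
    change g.1 (w.1 _) = _
    rw [hw, h2]

theorem h_inv (g : isos (form 2 K)) (v w : V4 K) : (form 2 K).h (g.1 v) w = (form 2 K).h v ((g⁻¹).1 w) := by
  rw [← g.2 v ((g⁻¹).1 w)]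
  congr 1
  exact (g.1.apply_symm_apply w).symm

/-- the row element -/
noncomputable def gr (r : IsoPair K) : isos (form 2 K) := (exists_row r).choose

/-- the column element -/
noncomputable def gc (s : IsoPair K) : isos (form 2 K) := (exists_col s).choose

theorem F1_pair (r s : IsoPair K) : F1 (gr r * gc s).1 = D1 r s := by
  obtain ⟨h1, h2⟩ := (exists_row r).choose_spec
  obtain ⟨h3, h4⟩ := (exists_col s).choose_spec
  unfold F1
  change (gr r).1 ((gc s).1 _) _ = _
  rw [coord_inr ((gr r).1 _) 0, h_inv]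
  change (form 2 K).h ((exists_col s).choose.1 _) (((exists_row r).choose⁻¹).1 _) = _
  rw [h1, h3, h_col_row]
  rfl

theorem F2_pair (r s : IsoPair K) : F2 (gr r * gc s).1 = D2 r s := by
  obtain ⟨h1, h2⟩ := (exists_row r).choose_spec
  obtain ⟨h3, h4⟩ := (exists_col s).choose_spec
  have key : ∀ (v : V4 K) (i : Fin 2), (gr r).1 v (.inr i) = (form 2 K).h v (((gr r)⁻¹).1 (Pi.single (.inl i) 1)) := by
    intro v i
    rw [coord_inr ((gr r).1 v) i, h_inv]
  have h3' : (gc s).1 (Pi.single (.inr 0) 1) = colV s.a := h3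
  have h4' : (gc s).1 (Pi.single (.inr 1) 1) = colV s.b := h4
  have h1' : ((gr r)⁻¹).1 (Pi.single (.inl 0) 1) = rowV r.a := h1
  have h2' : ((gr r)⁻¹).1 (Pi.single (.inl 1) 1) = rowV r.b := h2
  unfold F2
  change (gr r).1 ((gc s).1 _) _ * (gr r).1 ((gc s).1 _) _ - (gr r).1 ((gc s).1 _) _ * (gr r).1 ((gc s).1 _) _ = _
  rw [key, key, key, key, h1', h2', h3', h4', h_col_row, h_col_row, h_col_row, h_col_row]
  unfold D2
  simp only [dotProduct]
  ring

end Kern

section Coef

variable {K : Type u} [Field K] [Finite K] {W : Type*} [Group W] (cs : CoxeterSystem (CoxeterMatrix.B 2) W)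
  {k V : Type*} [Field k] [AddCommGroup V] [Module k V] [FiniteDimensional k V]
  {ρ : isos (form 2 K) →* Module.End k V}

/-- **The matrix coefficient of a simple module in defining characteristic.** -/
theorem exists_coef (p : ℕ) [Fact p.Prime] [CharP K p] [CharP k p] [IsAlgClosed k]
    (hirr : ∀ L : Submodule k V, Ivt ρ ⊤ L → L = ⊥ ∨ L = ⊤) (h2 : 2 ≤ Module.finrank k V) (j : K →+* k) :
    ∃ (c₁ c₂ : ℕ) (c : V) (φ : Module.Dual k V), c₁ ≤ Nat.card K - 1 ∧ c₂ ≤ Nat.card K - 1 ∧ ¬ (c₁ = 0 ∧ c₂ = 0) ∧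
      c ∈ D cs (isCartan 2) (X4 K) ρ ∧ φ ∈ fx (dualRep ρ) (UN cs (isCartan 2) (X4 K)) ∧ φ c = 1 ∧
      (∀ t ∈ T4 K, ρ t c = (j (F1 t.1) ^ c₁ * j (F2 t.1) ^ c₂) • c) ∧
      ∀ y : isos (form 2 K), φ (ρ y c) = j (F1 y.1) ^ c₁ * j (F2 y.1) ^ c₂ := by
  haveI := finite_isos (m := 2) (F := K)
  haveI : Finite W := finite_W cs
  haveI : Nontrivial V := Module.nontrivial_of_finrank_pos (R := k) (by omega)
  have hirr' : ∀ L : Submodule k V, Ivt ρ (GG cs (isCartan 2) (T4 K) (X4 K)) L → L = ⊥ ∨ L = ⊤ := by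
    rw [GG4]; exact hirr
  have R := R4 (K := K) (p := p) cs
  obtain ⟨c, hc, hc0, χ, hχ⟩ := exists_chi R hirr' (modelT_comm (ambT K p) (Or.inl rfl))
  obtain ⟨φ, hφ, hφ0⟩ := exists_pair_D R hirr' hc hc0
  obtain ⟨c₁, c₂, h3, h4, h5, h6, h7⟩ := exists_weight cs hc hc0 hχ j
  have hm := master cs hirr' hc hc0 hχ p h5 h6 h7 hφ
  refine ⟨c₁, c₂, c, (φ c)⁻¹ • φ, h3, h4, ?_, hc, Submodule.smul_mem _ _ hφ, ?_, ?_, ?_⟩
  · rintro ⟨rfl, rfl⟩
    have h8 : ∀ y : isos (form 2 K), φ (ρ y c) = φ c := by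
      intro y
      rw [hm, pow_zero, pow_zero, mul_one, mul_one]
    have h9 : ∀ y : isos (form 2 K), ρ y c = c := by
      intro y
      have h10 := eq_zero_of_coeff (G := ⊤) hirr (φ := φ) (fun e => hφ0 (by rw [e]; rfl)) (v := ρ y c - c)
        (fun g _ => by rw [map_sub, map_sub, ← rho_mul, h8, h8, sub_self])
      exact sub_eq_zero.1 h10
    have h10 := span_translates (G := ⊤) hirr hc0
    have h11 : Submodule.span k (Set.range fun g : (⊤ : Subgroup (isos (form 2 K))) => ρ g.1 c) ≤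
        Submodule.span k {c} := by
      rw [Submodule.span_le]
      rintro _ ⟨g, rfl⟩
      change ρ g.1 c ∈ Submodule.span k {c}
      rw [h9]
      exact Submodule.mem_span_singleton_self c
    rw [h10, top_le_iff] at h11
    have h12 := finrank_span_singleton (K := k) hc0
    rw [h11, finrank_top] at h12
    omega
  · rw [LinearMap.smul_apply, smul_eq_mul, inv_mul_cancel₀ hφ0]
  · intro t ht
    rw [hχ t ht, h7 t ht]
  · intro y
    rw [LinearMap.smul_apply, hm, smul_eq_mul, ← mul_assoc, inv_mul_cancel₀ hφ0, one_mul]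

end Coef

end Cfsg.Agent.H905.Sp4
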